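import Cfsg.Agent.TAB.F22.FxB_m3
import Cfsg.Agent.H763.Co3.Model
import Cfsg.Agent.SporRec.Co3.Model
import Cfsg.Agent.S2071
import Cfsg.Agent.FastGrp
import Cfsg.Agent.Prune
set_option linter.all false

section
prune_inst 0x7ffcfff9efb8bddfffff7e7ffff9dffe39d4dfffffdffb4bffedfbffffff236f3be5fbaf1de4d8ffced7e0b630b87853f87eefffec6bdc7ffffd5ff45ffbee4ff7ffbf8931d79c341f7c6ffff3f37faf7f3fffffffffffffffffffffffffffffffffffffffff

-- part: SB/Spor/Chain
section
prune_inst 0x20045000000000000000000000000000000000000001000000000108000000400001000000000000800000000030000000304000000000000000000100000000440002000008000000800005080c00000000000000000000000000000000000000000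
set_option linter.all false
open scoped Cfsg.Agent.FastGrp

-- part: SB/Spor/Eng
section
/-!
# S5765, sporadic rows: the certificate engine, part 1 (helper63)

A group `G` acts on the numbers below `n` (`PM`).  Elements are represented by tables `t : ℕ` read by `lk t`.
All checking functions are written with recursors, for evaluation by the kernel.
-/

set_option autoImplicit false

namespace Cfsg.Agent.SB.Spor

open Subgroup Cfsg
open scoped Classical

/-! ### control structures -/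

/-- evaluate `v`, then continue -/
noncomputable def frc {β : Type} (v : ℕ) (k : ℕ → β) : β :=
  Nat.rec (k (nat_lit 0)) (fun m _ => k (Nat.succ m)) v

theorem frc_eq {β : Type} (v : ℕ) (k : ℕ → β) : frc v k = k v := by cases v <;> rfl

/-- evaluate `v`; `0` is failure -/
noncomputable def nz (v : ℕ) (k : ℕ → ℕ) : ℕ := Nat.rec (nat_lit 0) (fun m _ => k (Nat.succ m)) v

theorem nz_ne {v : ℕ} {k : ℕ → ℕ} (h : nz v k ≠ 0) : v ≠ 0 ∧ k v ≠ 0 := by
  cases v with
  | zero => exact absurd rfl h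
  | succ m => exact ⟨Nat.succ_ne_zero m, h⟩

/-- if-then-else -/
noncomputable def cnd {β : Type} (c : Bool) (t e : β) : β := Bool.rec e t c

theorem cnd_true {β : Type} (t e : β) : cnd true t e = t := rfl

theorem cnd_false {β : Type} (t e : β) : cnd false t e = e := rfl

theorem cnd_and {c t : Bool} (h : cnd c t false = true) : c = true ∧ t = true := by
  cases c
  · exact absurd h (by simp [cnd_false])
  · exact ⟨rfl, h⟩

theorem cnd_ne {c : Bool} {t : ℕ} (h : cnd c t (nat_lit 0) ≠ 0) : c = true ∧ t ≠ 0 := by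
  cases c
  · exact absurd rfl h
  · exact ⟨rfl, h⟩

/-- destructure a pair -/
noncomputable def pr {α β γ : Type} (t : α × β) (k : α → β → γ) : γ := Prod.rec k t

theorem pr_eq {α β γ : Type} (a : α) (b : β) (k : α → β → γ) : pr (a, b) k = k a b := rfl

/-- entry `i` of a list, in continuation style -/
noncomputable def getK {α β : Type} (L : List α) (d : β) (k : α → β) : ℕ → β :=
  List.rec (fun _ => d) (fun a _ ih i => Nat.rec (k a) (fun m _ => ih m) i) L

theorem getK_cases {α β : Type} (L : List α) (d : β) (k : α → β) (i : ℕ) :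
    getK L d k i = d ∨ ∃ a ∈ L, getK L d k i = k a := by
  induction L generalizing i with
  | nil => exact Or.inl rfl
  | cons a L ih =>
    cases i with
    | zero => exact Or.inr ⟨a, List.mem_cons_self, rfl⟩
    | succ m =>
      rcases ih m with h | ⟨b, hb, h⟩
      · exact Or.inl h
      · exact Or.inr ⟨b, List.mem_cons_of_mem _ hb, h⟩

/-- entry `i` of a list of numbers -/
noncomputable def getN (L : List ℕ) : ℕ → ℕ :=
  List.rec (fun _ => nat_lit 0) (fun a _ ih i => Nat.rec a (fun m _ => ih m) i) L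

/-- symbol number `s` of a certificate: chunks of 256 symbols of `w` bits -/
noncomputable def rd (w mask : ℕ) (L : List ℕ) (s : ℕ) : ℕ :=
  frc (Nat.shiftRight s (nat_lit 8)) fun c =>
    Nat.land (Nat.shiftRight (getN L c) (Nat.mul w (Nat.land s (nat_lit 255)))) mask

/-- all members of a list -/
noncomputable def allL {α : Type} (L : List α) (p : α → Bool) : Bool :=
  List.rec true (fun a _ ih => cnd (p a) ih false) L

theorem of_allL {α : Type} {L : List α} {p : α → Bool} (h : allL L p = true) : ∀ a ∈ L, p a = true := by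
  induction L with
  | nil => simp
  | cons a L ih =>
    have h1 := cnd_and (c := p a) (t := allL L p) h
    intro b hb
    rcases List.mem_cons.1 hb with rfl | hb
    exacts [h1.1, ih h1.2 b hb]

theorem allL_of {α : Type} {L : List α} {p : α → Bool} (h : ∀ a ∈ L, p a = true) : allL L p = true := by
  induction L with
  | nil => rfl
  | cons a L ih =>
    show cnd (p a) (allL L p) false = true
    rw [h a List.mem_cons_self, cnd_true]
    exact ih fun b hb => h b (List.mem_cons_of_mem _ hb)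

/-- all numbers below `n` -/
noncomputable def allN (n : ℕ) (p : ℕ → Bool) : Bool := Nat.rec true (fun i ih => cnd (p i) ih false) n

theorem of_allN {n : ℕ} {p : ℕ → Bool} (h : allN n p = true) : ∀ i < n, p i = true := by
  induction n with
  | zero => simp
  | succ m ih =>
    have h1 := cnd_and (c := p m) (t := allN m p) h
    intro i hi
    rcases Nat.lt_succ_iff_lt_or_eq.1 hi with h2 | rfl
    exacts [ih h1.2 i h2, h1.1]

/-- some number below `n` -/
noncomputable def anyN (n : ℕ) (p : ℕ → Bool) : Bool := Nat.rec false (fun i ih => cnd (p i) true ih) n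

theorem of_anyN {n : ℕ} {p : ℕ → Bool} (h : anyN n p = true) : ∃ i, p i = true := by
  induction n with
  | zero => exact absurd h (by simp [anyN])
  | succ m ih =>
    have h1 : cnd (p m) true (anyN m p) = true := h
    cases h2 : p m
    · rw [h2, cnd_false] at h1
      exact ih h1
    · exact ⟨m, h2⟩

/-- iterate -/
noncomputable def itr (f : ℕ → ℕ) (a i : ℕ) : ℕ := Nat.rec i (fun _ ih => f ih) a

/-- two functions agree on a list -/
noncomputable def eqB (B : List ℕ) (f g : ℕ → ℕ) : Bool := allL B fun b => Nat.beq (f b) (g b)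

theorem of_eqB {B : List ℕ} {f g : ℕ → ℕ} (h : eqB B f g = true) : ∀ b ∈ B, f b = g b :=
  fun b hb => Nat.eq_of_beq_eq_true (of_allL h b hb)

theorem eqB_of {B : List ℕ} {f g : ℕ → ℕ} (h : ∀ b ∈ B, f b = g b) : eqB B f g = true :=
  allL_of fun b hb => by rw [h b hb]; exact Nat.beq_refl _

/-- the identity -/
def idf (i : ℕ) : ℕ := i

/-- length of the cycle through `b` (or `0`) -/
noncomputable def cyc (f : ℕ → ℕ) (b fuel : ℕ) : ℕ → ℕ → ℕ :=
  Nat.rec (fun _ _ => nat_lit 0)
    (fun _ ih cur cnt => frc (f cur) fun nx => cnd (Nat.beq nx b) cnt (ih nx (Nat.succ cnt))) fuel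

/-- product of the cycle lengths on a list -/
noncomputable def ordB (B : List ℕ) (f : ℕ → ℕ) : ℕ :=
  List.rec (nat_lit 1) (fun b _ ih => Nat.mul (cyc f b (nat_lit 100) b (nat_lit 1)) ih) B

/-! ### models -/

/-- an action of `G` on the numbers below `n` -/
structure PM (G : Type*) [Group G] (n : ℕ) where
  act : G → ℕ → ℕ
  lt : ∀ g i, i < n → act g i < n
  one : ∀ i, i < n → act 1 i = i
  mul : ∀ g h i, i < n → act (g * h) i = act g (act h i)

variable {G : Type*} [Group G] {n : ℕ}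

namespace PM

variable (M : PM G n)

/-- `g` acts as `f` -/
def Rf (g : G) (f : ℕ → ℕ) : Prop := ∀ i, i < n → M.act g i = f i

/-- `B` is a base -/
structure Base (B : List ℕ) : Prop where
  lt : ∀ b ∈ B, b < n
  triv : ∀ g : G, (∀ b ∈ B, M.act g b = b) → g = 1

/-- tables: `lk` reads, `mk` builds, `ver` verifies -/
structure Tab (lk : ℕ → ℕ → ℕ) (mk : (ℕ → ℕ) → ℕ) (ver : (ℕ → ℕ) → ℕ → (ℕ → ℕ) → Bool) : Prop where
  mk_spec : ∀ g f, M.Rf g f → M.Rf g (lk (mk f))
  ver_spec : ∀ a b fa fb s, M.Rf a fa → M.Rf b fb → ver fa s fb = true → M.Rf (a⁻¹ * b) (lk s)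

/-- the table `t` describes an element -/
def In (lk : ℕ → ℕ → ℕ) (t : ℕ) : Prop := ∃ g, M.Rf g (lk t)

/-- the element described by a table -/
noncomputable def el (lk : ℕ → ℕ → ℕ) (t : ℕ) : G := if h : M.In lk t then h.choose else 1

variable {M}

theorem In.rf {lk : ℕ → ℕ → ℕ} {t : ℕ} (h : M.In lk t) : M.Rf (M.el lk t) (lk t) := by
  rw [el, dif_pos h]
  exact h.choose_spec

theorem rf_one : M.Rf 1 idf := M.one

theorem Rf.mul {g h : G} {f f' : ℕ → ℕ} (h1 : M.Rf g f) (h2 : M.Rf h f') : M.Rf (g * h) fun i => f (f' i) := by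
  intro i hi
  rw [M.mul _ _ _ hi, h1 _ (M.lt _ _ hi), h2 _ hi]

theorem Rf.pow {g : G} {f : ℕ → ℕ} (h : M.Rf g f) (a : ℕ) : M.Rf (g ^ a) (itr f a) := by
  induction a with
  | zero => rw [pow_zero]; exact M.one
  | succ a ih => rw [pow_succ']; exact h.mul ih

theorem act_inv (g : G) {i : ℕ} (hi : i < n) : M.act g⁻¹ (M.act g i) = i := by
  rw [← M.mul _ _ _ hi, inv_mul_cancel, M.one _ hi]

theorem Base.eq {B : List ℕ} (hB : M.Base B) {g h : G} {f f' : ℕ → ℕ} (h1 : M.Rf g f) (h2 : M.Rf h f')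
    (e : eqB B f f' = true) : g = h := by
  have := hB.triv (h⁻¹ * g) fun b hb => by
    have hb' := hB.lt b hb
    rw [M.mul _ _ _ hb', h1 _ hb', of_eqB e b hb, ← h2 _ hb', act_inv _ hb']
  exact (inv_mul_eq_one.1 this).symm

theorem Base.eqB_of_eq {B : List ℕ} (hB : M.Base B) {g : G} {f f' : ℕ → ℕ} (h1 : M.Rf g f) (h2 : M.Rf g f') :
    eqB B f f' = true :=
  eqB_of fun b hb => by rw [← h1 _ (hB.lt b hb), h2 _ (hB.lt b hb)]

theorem Base.ne_one {B : List ℕ} (hB : M.Base B) {g : G} {f : ℕ → ℕ} (h1 : M.Rf g f) (e : eqB B f idf = false) :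
    g ≠ 1 := by
  rintro rfl
  rw [hB.eqB_of_eq h1 rf_one] at e
  exact absurd e (by simp)

theorem cyc_spec {g : G} {f : ℕ → ℕ} (h : M.Rf g f) {b : ℕ} (hb : b < n) (fuel : ℕ) :
    ∀ m, M.act (g ^ cyc f b fuel (M.act (g ^ m) b) (m + 1)) b = b := by
  induction fuel with
  | zero => intro m; exact (pow_zero g).symm ▸ M.one b hb
  | succ k ih =>
    intro m
    have e : cyc f b (k + 1) (M.act (g ^ m) b) (m + 1) =
        cnd (Nat.beq (f (M.act (g ^ m) b)) b) (m + 1) (cyc f b k (f (M.act (g ^ m) b)) (m + 1 + 1)) :=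
      frc_eq (f (M.act (g ^ m) b)) fun nx => cnd (Nat.beq nx b) (m + 1) (cyc f b k nx (m + 1 + 1))
    have e2 : f (M.act (g ^ m) b) = M.act (g ^ (m + 1)) b := by
      rw [← h _ (M.lt _ _ hb), pow_succ', M.mul _ _ _ hb]
    rw [e, e2]
    cases hc : Nat.beq (M.act (g ^ (m + 1)) b) b
    · rw [cnd_false]
      exact ih (m + 1)
    · rw [cnd_true]
      exact Nat.eq_of_beq_eq_true hc

theorem act_pow_mul {g : G} {b : ℕ} (hb : b < n) {a : ℕ} (h : M.act (g ^ a) b = b) (c : ℕ) :
    M.act (g ^ (a * c)) b = b := by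
  induction c with
  | zero => rw [mul_zero, pow_zero]; exact M.one b hb
  | succ c ih => rw [Nat.mul_succ, pow_add, M.mul _ _ _ hb, h, ih]

theorem ordB_fix {g : G} {f : ℕ → ℕ} (h : M.Rf g f) (B : List ℕ) (hB : ∀ b ∈ B, b < n) :
    ∀ b ∈ B, M.act (g ^ ordB B f) b = b := by
  induction B with
  | nil => simp
  | cons a B ih =>
    have e : ordB (a :: B) f = cyc f a 100 a 1 * ordB B f := rfl
    intro b hb
    rw [e]
    rcases List.mem_cons.1 hb with rfl | hb'
    · have hb' := hB b hb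
      have h1 := cyc_spec h hb' 100 0
      rw [pow_zero, M.one _ hb'] at h1
      exact act_pow_mul hb' h1 _
    · rw [mul_comm]
      exact act_pow_mul (hB b hb) (ih (fun c hc => hB c (List.mem_cons_of_mem _ hc)) b hb') _

theorem Base.pow_ordB {B : List ℕ} (hB : M.Base B) {g : G} {f : ℕ → ℕ} (h : M.Rf g f) : g ^ ordB B f = 1 :=
  hB.triv _ (ordB_fix h B hB.lt)

end PM

/-! ### words -/

/-- the word with letters `u` in the tables `C` (first letter acts last) -/
noncomputable def cmp {β : Type} (lk : ℕ → ℕ → ℕ) (C u : List ℕ) : ((ℕ → ℕ) → β) → β :=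
  List.rec (fun k => k idf) (fun i _ ih k => ih fun f => getK C (k f) (fun t => k fun q => lk t (f q)) i) u

/-- the word with 8-bit letters `c` in the tables `E` (lowest letter acts first; letter `i + 1` is table `i`) -/
noncomputable def decF {β : Type} (lk : ℕ → ℕ → ℕ) (E : List ℕ) (k : (ℕ → ℕ) → β) (fuel : ℕ) : ℕ → (ℕ → ℕ) → β :=
  Nat.rec (fun _ f => k f) (fun _ ih c f => Nat.rec (k f) (fun m _ =>
    frc (Nat.shiftRight (Nat.succ m) (nat_lit 8)) fun c' =>
      getK E (k f) (fun t => ih c' fun q => lk t (f q)) (Nat.land m (nat_lit 255))) c) fuel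

section words

variable {M : PM G n} {lk : ℕ → ℕ → ℕ}

theorem cmp_spec {β : Type} {C : List ℕ} {S : Subgroup G} (hC : ∀ t ∈ C, ∃ g ∈ S, M.Rf g (lk t)) (u : List ℕ)
    (k : (ℕ → ℕ) → β) : ∃ g ∈ S, ∃ f, M.Rf g f ∧ cmp lk C u k = k f := by
  induction u generalizing k with
  | nil => exact ⟨1, one_mem _, idf, PM.rf_one, rfl⟩
  | cons i u ih =>
    obtain ⟨g, hg, f, h1, h2⟩ := ih fun f => getK C (k f) (fun t => k fun q => lk t (f q)) i
    have e : cmp lk C (i :: u) k = getK C (k f) (fun t => k fun q => lk t (f q)) i := h2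
    rcases getK_cases C (k f) (fun t => k fun q => lk t (f q)) i with h3 | ⟨t, ht, h3⟩
    · exact ⟨g, hg, f, h1, e.trans h3⟩
    · obtain ⟨a, ha, h4⟩ := hC t ht
      exact ⟨a * g, mul_mem ha hg, _, h4.mul h1, e.trans h3⟩

theorem decF_spec {β : Type} {E : List ℕ} {S : Subgroup G} (hE : ∀ t ∈ E, ∃ g ∈ S, M.Rf g (lk t))
    (k : (ℕ → ℕ) → β) (fuel : ℕ) : ∀ (c : ℕ) (g : G) (f : ℕ → ℕ), g ∈ S → M.Rf g f →
      ∃ g' ∈ S, ∃ f', M.Rf g' f' ∧ decF lk E k fuel c f = k f' := by
  induction fuel with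
  | zero => exact fun c g f hg h => ⟨g, hg, f, h, rfl⟩
  | succ j ih =>
    intro c g f hg h
    cases c with
    | zero => exact ⟨g, hg, f, h, rfl⟩
    | succ m =>
      have e : decF lk E k (j + 1) (m + 1) f = getK E (k f) (fun t => decF lk E k j (Nat.shiftRight (Nat.succ m) 8)
          fun q => lk t (f q)) (Nat.land m 255) :=
        frc_eq (Nat.shiftRight (Nat.succ m) 8) fun c' =>
          getK E (k f) (fun t => decF lk E k j c' fun q => lk t (f q)) (Nat.land m 255)
      rcases getK_cases E (k f) (fun t => decF lk E k j (Nat.shiftRight (Nat.succ m) 8) fun q => lk t (f q))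
        (Nat.land m 255) with h3 | ⟨t, ht, h3⟩
      · exact ⟨g, hg, f, h, e.trans h3⟩
      · obtain ⟨a, ha, h4⟩ := hE t ht
        obtain ⟨g', hg', f', h5, h6⟩ := ih (Nat.shiftRight (Nat.succ m) 8) _ _ (mul_mem ha hg) (h4.mul h)
        exact ⟨g', hg', f', h5, (e.trans h3).trans h6⟩

/-- all tables of a list describe elements -/
def AllIn (M : PM G n) (lk : ℕ → ℕ → ℕ) (E : List ℕ) : Prop := ∀ t ∈ E, M.In lk t

theorem AllIn.top {E : List ℕ} (h : AllIn M lk E) : ∀ t ∈ E, ∃ g ∈ (⊤ : Subgroup G), M.Rf g (lk t) :=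
  fun t ht => ⟨_, mem_top _, (h t ht).rf⟩

theorem AllIn.nil : AllIn M lk [] := fun _ h => absurd h (by simp)

theorem AllIn.cons {t : ℕ} {E : List ℕ} (h1 : M.In lk t) (h2 : AllIn M lk E) : AllIn M lk (t :: E) := by
  intro s hs
  rcases List.mem_cons.1 hs with rfl | hs
  exacts [h1, h2 s hs]

theorem AllIn.append {E E' : List ℕ} (h1 : AllIn M lk E) (h2 : AllIn M lk E') : AllIn M lk (E ++ E') := by
  intro s hs
  rcases List.mem_append.1 hs with hs | hs
  exacts [h1 s hs, h2 s hs]

theorem AllIn.get {E : List ℕ} (h : AllIn M lk E) (i : ℕ) (hi : i < E.length) : M.In lk (getN E i) := by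
  induction E generalizing i with
  | nil => simp at hi
  | cons a E ih =>
    cases i with
    | zero => exact h a List.mem_cons_self
    | succ m => exact ih (fun t ht => h t (List.mem_cons_of_mem _ ht)) m (by simpa using hi)

end words

/-! ### straight-line programs -/

/-- each step `(u, s, v)` verifies `u s = v` and puts `s` in front of the environment -/
noncomputable def slp (lk : ℕ → ℕ → ℕ) (ver : (ℕ → ℕ) → ℕ → (ℕ → ℕ) → Bool) (steps : List (ℕ × ℕ × ℕ)) :
    List ℕ → Bool :=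
  List.rec (fun _ => true) (fun st _ ih E => pr st fun u r => pr r fun s v =>
    decF lk E (fun fu => decF lk E (fun fv => cnd (ver fu s fv) (ih (s :: E)) false) (nat_lit 200) v idf)
      (nat_lit 200) u idf) steps

theorem slp_spec {M : PM G n} {lk : ℕ → ℕ → ℕ} {mk : (ℕ → ℕ) → ℕ} {ver : (ℕ → ℕ) → ℕ → (ℕ → ℕ) → Bool}
    (hT : M.Tab lk mk ver) (steps : List (ℕ × ℕ × ℕ)) :
    ∀ E, AllIn M lk E → slp lk ver steps E = true → AllIn M lk (steps.map fun st => st.2.1) := by
  induction steps with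
  | nil => exact fun _ _ _ => AllIn.nil
  | cons st steps ih =>
    obtain ⟨u, s, v⟩ := st
    intro E hE h
    have e : slp lk ver ((u, s, v) :: steps) E = pr (u, s, v) fun u r => pr r fun s v => decF lk E (fun fu => decF lk E
      (fun fv => cnd (ver fu s fv) (slp lk ver steps (s :: E)) false) (nat_lit 200) v idf) (nat_lit 200) u idf := rfl
    obtain ⟨a, -, fa, h1, h2⟩ := decF_spec hE.top (fun fu => decF lk E
      (fun fv => cnd (ver fu s fv) (slp lk ver steps (s :: E)) false) (nat_lit 200) v idf) (nat_lit 200) u 1 idf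
      (mem_top _) PM.rf_one
    obtain ⟨b, -, fb, h3, h4⟩ := decF_spec hE.top
      (fun fv => cnd (ver fa s fv) (slp lk ver steps (s :: E)) false) (nat_lit 200) v 1 idf (mem_top _) PM.rf_one
    rw [e, pr_eq, pr_eq, h2, h4] at h
    have h5 := cnd_and h
    have h6 : M.In lk s := ⟨_, hT.ver_spec a b fa fb s h1 h3 h5.1⟩
    exact AllIn.cons h6 (ih _ (AllIn.cons h6 hE) h5.2)

/-- pairs of mutually inverse tables -/
noncomputable def invChk (lk : ℕ → ℕ → ℕ) (B : List ℕ) (E : List (ℕ × ℕ)) : Bool :=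
  allL E fun t => pr t fun a b => eqB B (fun q => lk a (lk b q)) idf

theorem invChk_spec {M : PM G n} {lk : ℕ → ℕ → ℕ} {B : List ℕ} (hB : M.Base B) {E : List (ℕ × ℕ)}
    (h1 : ∀ t ∈ E, M.In lk t.1 ∧ M.In lk t.2) (h : invChk lk B E = true) :
    ∀ t ∈ E, M.Rf (M.el lk t.1) (lk t.1) ∧ M.Rf (M.el lk t.1)⁻¹ (lk t.2) := by
  rintro ⟨a, b⟩ ht
  obtain ⟨ha, hb⟩ := h1 _ ht
  have h2 : eqB B (fun q => lk a (lk b q)) idf = true := of_allL h _ ht
  have h3 := hB.eq (ha.rf.mul hb.rf) PM.rf_one h2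
  exact ⟨ha.rf, by rw [inv_eq_of_mul_eq_one_right h3]; exact hb.rf⟩

/-- the order of a table -/
noncomputable def ordChk (lk : ℕ → ℕ → ℕ) (B : List ℕ) (t p : ℕ) : Bool :=
  cnd (eqB B (lk t) idf) false (eqB B (itr (lk t) p) idf)

theorem ordChk_spec {M : PM G n} {lk : ℕ → ℕ → ℕ} {B : List ℕ} (hB : M.Base B) {t p : ℕ} (ht : M.In lk t)
    (hp : p.Prime) (h : ordChk lk B t p = true) : orderOf (M.el lk t) = p := by
  have _ : Fact p.Prime := ⟨hp⟩
  unfold ordChk at h
  cases h1 : eqB B (lk t) idf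
  · rw [h1, cnd_false] at h
    exact orderOf_eq_prime (hB.eq (ht.rf.pow p) PM.rf_one h) (hB.ne_one ht.rf h1)
  · rw [h1, cnd_true] at h
    exact absurd h (by simp)

/-! ### permutation tables -/

/-- entry `i` of a table with entries of `w` bits -/
noncomputable def plk (w mask t i : ℕ) : ℕ := Nat.land (Nat.shiftRight t (Nat.mul w i)) mask

/-- the table of the values of `f` at `lo, …, lo + 2^d - 1` -/
noncomputable def pack (w mask n : ℕ) (f : ℕ → ℕ) (d : ℕ) : ℕ → ℕ :=
  Nat.rec (fun lo => Nat.land (f lo) mask) (fun d' ih lo => frc (Nat.shiftLeft (nat_lit 1) d') fun h =>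
    frc (Nat.add lo h) fun mid =>
      cnd (Nat.ble n mid) (ih lo) (Nat.add (ih lo) (Nat.shiftLeft (ih mid) (Nat.mul w h)))) d

/-- build a table -/
noncomputable def pmk (w mask n d : ℕ) (f : ℕ → ℕ) : ℕ := pack w mask n f d (nat_lit 0)

/-- verify `a s = b` at all points -/
noncomputable def pver (w mask n : ℕ) (fa : ℕ → ℕ) (s : ℕ) (fb : ℕ → ℕ) : Bool :=
  allN n fun i => frc (plk w mask s i) fun j => cnd (Nat.blt j n) (Nat.beq (fa j) (fb i)) false

theorem plk_eq (w t i : ℕ) : plk w (2 ^ w - 1) t i = t / (2 ^ w) ^ i % 2 ^ w := by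
  show (t >>> (w * i)) &&& (2 ^ w - 1) = _
  rw [Nat.and_two_pow_sub_one_eq_mod, Nat.shiftRight_eq_div_pow, pow_mul]

theorem pack_succ (w mask n : ℕ) (f : ℕ → ℕ) (d lo : ℕ) : pack w mask n f (d + 1) lo =
    cnd (Nat.ble n (lo + 2 ^ d)) (pack w mask n f d lo)
      (pack w mask n f d lo + pack w mask n f d (lo + 2 ^ d) * (2 ^ w) ^ (2 ^ d)) := by
  have e : pack w mask n f (d + 1) lo = frc (1 <<< d) fun h => frc (lo + h) fun mid =>
      cnd (Nat.ble n mid) (pack w mask n f d lo)
        (pack w mask n f d lo + pack w mask n f d mid <<< (w * h)) := rfl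
  rw [e, frc_eq, frc_eq, Nat.shiftLeft_eq, Nat.shiftLeft_eq, one_mul, pow_mul]

theorem pack_spec (w n : ℕ) (f : ℕ → ℕ) (d : ℕ) : ∀ lo, pack w (2 ^ w - 1) n f d lo < (2 ^ w) ^ (2 ^ d) ∧
    ∀ i, i < 2 ^ d → lo + i < n → pack w (2 ^ w - 1) n f d lo / (2 ^ w) ^ i % 2 ^ w = f (lo + i) % 2 ^ w := by
  have hB : 0 < 2 ^ w := by positivity
  induction d with
  | zero =>
    intro lo
    have e : pack w (2 ^ w - 1) n f 0 lo = f lo % 2 ^ w := Nat.and_two_pow_sub_one_eq_mod _ _
    rw [e]
    refine ⟨by simpa using Nat.mod_lt _ hB, fun i hi _ => ?_⟩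
    have : i = 0 := by simpa using hi
    subst this
    simp
  | succ d ih =>
    intro lo
    obtain ⟨a1, a2⟩ := ih lo
    obtain ⟨b1, b2⟩ := ih (lo + 2 ^ d)
    have e2 : (2 ^ w) ^ (2 ^ (d + 1)) = (2 ^ w) ^ (2 ^ d) * (2 ^ w) ^ (2 ^ d) := by rw [← pow_add, pow_succ 2 d, mul_two]
    have hp : 0 < (2 ^ w) ^ (2 ^ d) := by positivity
    rw [pack_succ]
    cases hc : Nat.ble n (lo + 2 ^ d)
    · rw [cnd_false]
      refine ⟨by rw [e2]; nlinarith only [a1, b1], fun i hi hn => ?_⟩
      by_cases h1 : i < 2 ^ d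
      · rw [← a2 i h1 hn]
        obtain ⟨c, hc'⟩ : ∃ c, 2 ^ d = i + 1 + c := ⟨2 ^ d - (i + 1), by omega⟩
        have e3 : (2 ^ w) ^ (2 ^ d) = (2 ^ w) ^ c * 2 ^ w * (2 ^ w) ^ i := by rw [hc']; ring
        rw [e3, ← mul_assoc, Nat.add_mul_div_right _ _ (by positivity), ← mul_assoc, Nat.add_mul_mod_self_right]
      · obtain ⟨c, rfl⟩ : ∃ c, i = 2 ^ d + c := ⟨i - 2 ^ d, by omega⟩
        rw [pow_add, ← Nat.div_div_eq_div_mul, Nat.add_mul_div_right _ _ hp, Nat.div_eq_of_lt a1, zero_add,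
          b2 c (by rw [pow_succ] at hi; omega) (by omega), add_assoc]
    · rw [cnd_true]
      have h1 : n ≤ lo + 2 ^ d := Nat.le_of_ble_eq_true hc
      exact ⟨by rw [e2]; nlinarith only [a1], fun i _ hn => a2 i (by omega) hn⟩

theorem perm_tab (M : PM G n) {w mask d : ℕ} (hm : mask = 2 ^ w - 1) (h1 : n ≤ 2 ^ w) (h2 : n ≤ 2 ^ d) :
    M.Tab (plk w mask) (pmk w mask n d) (pver w mask n) where
  mk_spec := by
    intro g f h i hi
    subst hm
    have h3 := (pack_spec w n f d 0).2 i (by omega) (by omega)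
    rw [plk_eq]
    show _ = pack w (2 ^ w - 1) n f d 0 / (2 ^ w) ^ i % 2 ^ w
    rw [h3, zero_add, ← h i hi, Nat.mod_eq_of_lt (lt_of_lt_of_le (M.lt g i hi) h1)]
  ver_spec := by
    intro a b fa fb s ha hb h i hi
    have h3 := of_allN h i hi
    rw [frc_eq] at h3
    have h4 := cnd_and h3
    have h5 : plk w mask s i < n := by simpa using h4.1
    rw [M.mul _ _ _ hi, hb i hi, ← Nat.eq_of_beq_eq_true h4.2, ← ha _ h5, PM.act_inv _ h5]

/-- the model attached to a permutation representation -/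
noncomputable def PM.ofHom (φ : G →* Equiv.Perm (Fin n)) : PM G n where
  act g i := if h : i < n then (φ g ⟨i, h⟩ : ℕ) else i
  lt g i hi := by rw [dif_pos hi]; exact Fin.is_lt _
  one i hi := by rw [dif_pos hi, map_one]; rfl
  mul g h i hi := by
    rw [dif_pos hi, dif_pos hi, dif_pos (Fin.is_lt _), map_mul]
    rfl

theorem PM.rf_ofHom (φ : G →* Equiv.Perm (Fin n)) {g : G} {f : ℕ → ℕ} (h : ∀ i : Fin n, (φ g i : ℕ) = f i) :
    (PM.ofHom φ).Rf g f := by
  intro i hi
  show (if h : i < n then (φ g ⟨i, h⟩ : ℕ) else i) = f i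
  rw [dif_pos hi, h]

end Cfsg.Agent.SB.Spor
end

-- part: SB/Spor/Chain
section
/-!
# S5765, sporadic rows: the certificate engine, part 2 (helper63)

Orbit enumeration, lower bounds for orders along a chain of point stabilisers, bases, normalisers,
polycyclic sequences and the classes of elements of prime order.
-/

set_option autoImplicit false

namespace Cfsg.Agent.SB.Spor

open Subgroup Cfsg
open scoped Classical

theorem ne_of_blt {v : ℕ} (h : Nat.blt (nat_lit 0) v = true) : v ≠ 0 := by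
  rintro rfl
  exact absurd h (by decide)

/-! ### orbit enumeration -/

/-- case distinction zero / non-zero -/
noncomputable def cz {β : Type} (v : ℕ) (a b : β) : β := Nat.rec a (fun _ _ => b) v

theorem cz_cases {β : Type} (v : ℕ) (a b : β) : (v = 0 ∧ cz v a b = a) ∨ cz v a b = b := by
  cases v
  exacts [Or.inl ⟨rfl, rfl⟩, Or.inr rfl]

/-- the images of one point -/
noncomputable def bstep (p : ℕ) (k : List ℕ → ℕ → ℕ → ℕ) (gens : List (ℕ → ℕ)) : List ℕ → ℕ → ℕ → ℕ :=
  List.rec (fun s m c => k s m c) (fun f _ ih s m c => frc (f p) fun q =>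
    cz (Nat.land (nat_lit 1) (Nat.shiftRight m q))
      (frc (Nat.lor m (Nat.shiftLeft (nat_lit 1) q)) fun m' => frc (Nat.succ c) fun c' => ih (q :: s) m' c')
      (ih s m c)) gens

/-- pop a point -/
noncomputable def pop (s : List ℕ) (d : ℕ) (k : ℕ → List ℕ → ℕ) : ℕ := List.rec d (fun p t _ => k p t) s

/-- number of points found -/
noncomputable def bfs (gens : List (ℕ → ℕ)) (fuel : ℕ) : List ℕ → ℕ → ℕ → ℕ :=
  Nat.rec (fun _ _ c => c) (fun _ ih s m c => pop s c fun p t => bstep p ih gens t m c) fuel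

/-- the invariant of the enumeration -/
def BInv (O : Set ℕ) (s : List ℕ) (m c : ℕ) : Prop :=
  (∀ q ∈ s, q ∈ O) ∧ ∃ L : Finset ℕ, L.card = c ∧ ∀ q ∈ L, q ∈ O ∧ m.testBit q = true

theorem BInv.le {O : Set ℕ} (hO : O.Finite) {s : List ℕ} {m c : ℕ} (h : BInv O s m c) : c ≤ O.ncard := by
  obtain ⟨-, L, rfl, h2⟩ := h
  rw [← Set.ncard_coe_finset]
  exact Set.ncard_le_ncard (fun q hq => (h2 q hq).1) hO

theorem bstep_le {O : Set ℕ} {r p : ℕ} {k : List ℕ → ℕ → ℕ → ℕ} (hk : ∀ s m c, BInv O s m c → k s m c ≤ r)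
    (gens : List (ℕ → ℕ)) (hg : ∀ f ∈ gens, f p ∈ O) : ∀ s m c, BInv O s m c → bstep p k gens s m c ≤ r := by
  induction gens with
  | nil => exact hk
  | cons f gens ih =>
    intro s m c h
    have ih' := ih fun g hg' => hg g (List.mem_cons_of_mem _ hg')
    have e : bstep p k (f :: gens) s m c = frc (f p) fun q => cz (1 &&& (m >>> q))
      (frc (m ||| (1 <<< q)) fun m' => frc (c + 1) fun c' => bstep p k gens (q :: s) m' c')
      (bstep p k gens s m c) := rfl
    rw [e, frc_eq]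
    rcases cz_cases (1 &&& (m >>> f p)) (frc (m ||| (1 <<< f p)) fun m' => frc (c + 1) fun c' =>
      bstep p k gens (f p :: s) m' c') (bstep p k gens s m c) with ⟨h1, h2⟩ | h2
    · rw [h2, frc_eq, frc_eq]
      apply ih'
      obtain ⟨h3, L, h4, h5⟩ := h
      have h6 := hg f List.mem_cons_self
      have h7 : f p ∉ L := fun hL => by
        have := (h5 _ hL).2
        rw [Nat.testBit, h1] at this
        exact absurd this (by simp)
      refine ⟨fun q hq => ?_, insert (f p) L, by rw [Finset.card_insert_of_notMem h7, h4], fun q hq => ?_⟩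
      · rcases List.mem_cons.1 hq with rfl | hq
        exacts [h6, h3 q hq]
      · rw [Nat.testBit_or, Nat.one_shiftLeft]
        rcases Finset.mem_insert.1 hq with rfl | hq
        · exact ⟨h6, by simp⟩
        · exact ⟨(h5 q hq).1, by simp [(h5 q hq).2]⟩
    · rw [h2]
      exact ih' s m c h

theorem bfs_le {O : Set ℕ} (hO : O.Finite) {gens : List (ℕ → ℕ)} (hg : ∀ f ∈ gens, ∀ p ∈ O, f p ∈ O) (fuel : ℕ) :
    ∀ s m c, BInv O s m c → bfs gens fuel s m c ≤ O.ncard := by
  induction fuel with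
  | zero => exact fun s m c h => h.le hO
  | succ j ih =>
    intro s m c h
    cases s with
    | nil => exact h.le hO
    | cons p t =>
      exact bstep_le ih gens (fun f hf => hg f hf p (h.1 p List.mem_cons_self)) t m c
        ⟨fun q hq => h.1 q (List.mem_cons_of_mem _ hq), h.2⟩

/-! ### chains -/

variable {G : Type*} [Group G] {n : ℕ}

/-- the pointwise stabiliser -/
def Fx (M : PM G n) (B : List ℕ) : Subgroup G where
  carrier := {g | ∀ b ∈ B, b < n → M.act g b = b}
  mul_mem' := fun {g h} hg hh b hb hn => by rw [M.mul _ _ _ hn, hh b hb hn, hg b hb hn]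
  one_mem' := fun b _ hn => M.one b hn
  inv_mem' := fun {g} hg b hb hn => by
    have := PM.act_inv (M := M) g hn
    rwa [hg b hb hn] at this

theorem mem_Fx {M : PM G n} {B : List ℕ} {g : G} : g ∈ Fx M B ↔ ∀ b ∈ B, b < n → M.act g b = b := Iff.rfl

theorem orbit_mul_le [Finite G] (M : PM G n) (K : Subgroup G) {b : ℕ} (hb : b < n) :
    {q | ∃ g ∈ K, M.act g b = q}.ncard * Nat.card ↥(K ⊓ Fx M [b]) ≤ Nat.card K := by
  rw [← Nat.card_coe_set_eq, ← Nat.card_prod]
  choose r hr1 hr2 using fun q : {q | ∃ g ∈ K, M.act g b = q} => q.2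
  refine Nat.card_le_card_of_injective
    (fun z : {q | ∃ g ∈ K, M.act g b = q} × ↥(K ⊓ Fx M [b]) => (⟨r z.1 * z.2.1, mul_mem (hr1 z.1) z.2.2.1⟩ : K)) ?_
  rintro ⟨q, s⟩ ⟨q', s'⟩ h
  have h1 : r q * s.1 = r q' * s'.1 := congrArg Subtype.val h
  have h2 : q = q' := by
    apply Subtype.ext
    rw [← hr2 q, ← hr2 q']
    have h3 := congrArg (fun g => M.act g b) h1
    simp only [M.mul _ _ _ hb] at h3
    rwa [s.2.2 b (by simp) hb, s'.2.2 b (by simp) hb] at h3
  subst h2
  exact Prod.ext rfl (Subtype.ext (mul_left_cancel h1))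

/-- compile a list of words, testing each of them -/
noncomputable def cmpAll (lk : ℕ → ℕ → ℕ) (E : List ℕ) (ok : (ℕ → ℕ) → Bool) (codes : List ℕ) :
    (List (ℕ → ℕ) → ℕ) → ℕ :=
  List.rec (fun k => k []) (fun c _ ih k =>
    decF lk E (fun f => cnd (ok f) (ih fun l => k (f :: l)) (nat_lit 0)) (nat_lit 200) c idf) codes

theorem cmpAll_spec {M : PM G n} {lk : ℕ → ℕ → ℕ} {E : List ℕ} {H₀ : Subgroup G}
    (hE : ∀ t ∈ E, ∃ g ∈ H₀, M.Rf g (lk t)) (ok : (ℕ → ℕ) → Bool) (codes : List ℕ) (k : List (ℕ → ℕ) → ℕ) :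
    cmpAll lk E ok codes k = 0 ∨
      ∃ l, cmpAll lk E ok codes k = k l ∧ ∀ f ∈ l, ok f = true ∧ ∃ g ∈ H₀, M.Rf g f := by
  induction codes generalizing k with
  | nil => exact Or.inr ⟨[], rfl, by simp⟩
  | cons c codes ih =>
    obtain ⟨g, hg, f, h1, h2⟩ := decF_spec hE (fun f => cnd (ok f) (cmpAll lk E ok codes fun l => k (f :: l)) (nat_lit 0))
      (nat_lit 200) c 1 idf (one_mem _) PM.rf_one
    have e : cmpAll lk E ok (c :: codes) k = cnd (ok f) (cmpAll lk E ok codes fun l => k (f :: l)) (nat_lit 0) := h2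
    rw [e]
    cases hf : ok f
    · exact Or.inl rfl
    · rw [cnd_true]
      rcases ih fun l => k (f :: l) with h3 | ⟨l, h3, h4⟩
      · exact Or.inl h3
      · refine Or.inr ⟨f :: l, h3, fun f' hf' => ?_⟩
        rcases List.mem_cons.1 hf' with rfl | hf'
        exacts [⟨hf, g, hg, h1⟩, h4 f' hf']

/-- product of the orbit lengths along a chain of point stabilisers -/
noncomputable def chain (lk : ℕ → ℕ → ℕ) (E : List ℕ) (n : ℕ) (okg : (ℕ → ℕ) → Bool) (levels : List (ℕ × List ℕ)) :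
    List ℕ → ℕ :=
  List.rec (fun _ => nat_lit 1) (fun lv _ ih prev => pr lv fun b codes => cnd (Nat.blt b n)
    (cmpAll lk E (fun f => cnd (okg f) (eqB prev f idf) false) codes fun gens =>
      Nat.mul (bfs gens n [b] (Nat.shiftLeft (nat_lit 1) b) (nat_lit 1)) (ih (b :: prev))) (nat_lit 0)) levels

theorem chain_spec [Finite G] {M : PM G n} {lk : ℕ → ℕ → ℕ} {E : List ℕ} {H₀ H : Subgroup G}
    (hE : ∀ t ∈ E, ∃ g ∈ H₀, M.Rf g (lk t)) {okg : (ℕ → ℕ) → Bool}
    (hok : ∀ g ∈ H₀, ∀ f, M.Rf g f → okg f = true → g ∈ H) (levels : List (ℕ × List ℕ)) :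
    ∀ prev, chain lk E n okg levels prev * Nat.card ↥(H ⊓ Fx M prev ⊓ Fx M (levels.map Prod.fst)) ≤
      Nat.card ↥(H ⊓ Fx M prev) := by
  induction levels with
  | nil =>
    intro prev
    have e : chain lk E n okg [] prev = 1 := rfl
    rw [e, one_mul]
    exact card_le_of_le inf_le_left
  | cons lv levels ih =>
    obtain ⟨b, codes⟩ := lv
    intro prev
    have e : chain lk E n okg ((b, codes) :: levels) prev = pr (b, codes) fun b codes => cnd (Nat.blt b n)
      (cmpAll lk E (fun f => cnd (okg f) (eqB prev f idf) false) codes fun gens =>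
        Nat.mul (bfs gens n [b] (1 <<< b) 1) (chain lk E n okg levels (b :: prev))) 0 := rfl
    rw [e, pr_eq]
    cases hb : Nat.blt b n
    · rw [cnd_false, zero_mul]
      exact Nat.zero_le _
    rw [cnd_true]
    have hb' : b < n := by simpa using hb
    rcases cmpAll_spec hE (fun f => cnd (okg f) (eqB prev f idf) false) codes (fun gens =>
      Nat.mul (bfs gens n [b] (1 <<< b) 1) (chain lk E n okg levels (b :: prev))) with h1 | ⟨l, h1, h2⟩
    · rw [h1, zero_mul]
      exact Nat.zero_le _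
    rw [h1]
    have hO : {q | ∃ g ∈ H ⊓ Fx M prev, M.act g b = q}.Finite :=
      (Set.finite_lt_nat n).subset (by rintro _ ⟨g, -, rfl⟩; exact M.lt g b hb')
    have h3 := bfs_le hO (gens := l) (by
      rintro f hf _ ⟨g, hg, rfl⟩
      obtain ⟨h4, a, ha, h5⟩ := h2 f hf
      have h6 := cnd_and h4
      refine ⟨a * g, mul_mem ⟨hok a ha f h5 h6.1, fun c hc hn => ?_⟩ hg, ?_⟩
      · rw [h5 c hn]
        exact of_eqB h6.2 c hc
      · rw [M.mul _ _ _ hb', h5 _ (M.lt _ _ hb')]) n [b] (1 <<< b) 1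
      ⟨fun q hq => by rw [List.mem_singleton.1 hq]; exact ⟨1, one_mem _, M.one b hb'⟩, {b}, by simp, fun q hq => by
        rw [Finset.mem_singleton.1 hq]
        exact ⟨⟨1, one_mem _, M.one b hb'⟩, by simp [Nat.one_shiftLeft]⟩⟩
    have h4 := orbit_mul_le M (H ⊓ Fx M prev) hb'
    have h5 := ih (b :: prev)
    have h6 : Nat.card ↥(H ⊓ Fx M (b :: prev)) ≤ Nat.card ↥(H ⊓ Fx M prev ⊓ Fx M [b]) :=
      card_le_of_le fun g hg => ⟨⟨hg.1, fun c hc => hg.2 c (List.mem_cons_of_mem _ hc)⟩,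
        fun c hc => hg.2 c (by simp at hc; simp [hc])⟩
    have h7 : Nat.card ↥(H ⊓ Fx M prev ⊓ Fx M (((b, codes) :: levels).map Prod.fst)) ≤
        Nat.card ↥(H ⊓ Fx M (b :: prev) ⊓ Fx M (levels.map Prod.fst)) :=
      card_le_of_le fun g hg => ⟨⟨hg.1.1, fun c hc => by
        rcases List.mem_cons.1 hc with rfl | hc
        exacts [hg.2 c (by simp), hg.1.2 c hc]⟩, fun c hc => hg.2 c (List.mem_cons_of_mem _ hc)⟩
    calc _ ≤ bfs l n [b] (1 <<< b) 1 * (chain lk E n okg levels (b :: prev) *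
          Nat.card ↥(H ⊓ Fx M (b :: prev) ⊓ Fx M (levels.map Prod.fst))) := by
          rw [← mul_assoc]
          exact Nat.mul_le_mul_left _ h7
      _ ≤ _ := le_trans (Nat.mul_le_mul h3 (h5.trans h6)) h4

theorem Fx_nil (M : PM G n) (H : Subgroup G) : H ⊓ Fx M [] = H :=
  inf_eq_left.2 fun _ _ _ hb => absurd hb (by simp)

theorem chain_le [Finite G] {M : PM G n} {lk : ℕ → ℕ → ℕ} {E : List ℕ} {H₀ H : Subgroup G}
    (hE : ∀ t ∈ E, ∃ g ∈ H₀, M.Rf g (lk t)) {okg : (ℕ → ℕ) → Bool}
    (hok : ∀ g ∈ H₀, ∀ f, M.Rf g f → okg f = true → g ∈ H) {levels : List (ℕ × List ℕ)} {m : ℕ}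
    (h : Nat.ble m (chain lk E n okg levels []) = true) : m ≤ Nat.card H := by
  have h1 := chain_spec hE hok levels []
  rw [Fx_nil] at h1
  have h2 : 0 < Nat.card ↥(H ⊓ Fx M (levels.map Prod.fst)) := Nat.card_pos
  exact (Nat.le_of_ble_eq_true h).trans ((Nat.le_mul_of_pos_right _ h2).trans h1)

/-- the check of a base -/
noncomputable def baseChk (lk : ℕ → ℕ → ℕ) (E : List ℕ) (n N : ℕ) (levels : List (ℕ × List ℕ)) : Bool :=
  cnd (allL (levels.map Prod.fst) fun b => Nat.blt b n) (Nat.ble N (chain lk E n (fun _ => true) levels [])) false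

theorem base_of_chk [Finite G] {M : PM G n} {lk : ℕ → ℕ → ℕ} {E : List ℕ} (hE : AllIn M lk E) {N : ℕ}
    (hN : Nat.card G ≤ N) {levels : List (ℕ × List ℕ)} {B : List ℕ} (hB : levels.map Prod.fst = B)
    (h : baseChk lk E n N levels = true) : M.Base B ∧ Nat.card G = N := by
  have h0 := cnd_and h
  have h1 := chain_spec (H := ⊤) hE.top (okg := fun _ => true) (fun _ _ _ _ _ => mem_top _) levels []
  rw [Fx_nil, card_top, hB, top_inf_eq] at h1
  have h2 := Nat.le_of_ble_eq_true h0.2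
  have h3 : 0 < Nat.card (Fx M B) := Nat.card_pos
  have h4 : 0 < Nat.card G := Nat.card_pos
  have h6 : N * Nat.card (Fx M B) ≤ Nat.card G := (Nat.mul_le_mul_right _ h2).trans h1
  have h5 : Nat.card (Fx M B) ≤ 1 :=
    Nat.le_of_mul_le_mul_left ((h6.trans hN).trans (mul_one N).ge) (h4.trans_le hN)
  refine ⟨⟨fun b hb => by simpa using of_allL h0.1 b (hB ▸ hb), fun g hg => ?_⟩,
    le_antisymm hN ((Nat.le_mul_of_pos_right _ h3).trans h6)⟩
  have : g ∈ Fx M B := fun b hb _ => hg b hb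
  rwa [eq_bot_of_card_le _ h5, mem_bot] at this

/-- `f` normalises the cyclic group of `x` -/
noncomputable def okN (lk : ℕ → ℕ → ℕ) (B : List ℕ) (x p : ℕ) (f : ℕ → ℕ) : Bool :=
  anyN p fun a => eqB B (fun q => f (lk x q)) fun q => itr (lk x) a (f q)

theorem norm_ge [Finite G] {M : PM G n} {lk : ℕ → ℕ → ℕ} {B : List ℕ} (hB : M.Base B) {E : List ℕ} (hE : AllIn M lk E)
    {x p ν : ℕ} (hx : M.In lk x) {levels : List (ℕ × List ℕ)}
    (h : Nat.ble ν (chain lk E n (okN lk B x p) levels []) = true) :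
    ν ≤ Nat.card (normalizer (zpowers (M.el lk x) : Set G)) := by
  refine chain_le hE.top (fun g _ f hf hok => ?_) h
  obtain ⟨a, ha⟩ := of_anyN hok
  have h1 := hB.eq (hf.mul hx.rf) ((hx.rf.pow a).mul hf) ha
  apply mem_normalizer_fintype
  rintro _ ⟨k, rfl⟩
  have h2 : g * M.el lk x * g⁻¹ = M.el lk x ^ a := by rw [h1]; group
  have h3 : g * M.el lk x ^ k * g⁻¹ = (M.el lk x ^ a) ^ k := by rw [← h2, conj_zpow]
  show g * M.el lk x ^ k * g⁻¹ ∈ zpowers (M.el lk x)
  rw [h3]
  exact zpow_mem (npow_mem_zpowers _ _) k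

/-! ### polycyclic sequences -/

/-- destructure a triple -/
noncomputable def pr3 {γ : Type} (g : ℕ × ℕ × ℕ) (k : ℕ → ℕ → ℕ → γ) : γ :=
  Prod.rec (fun o r => Prod.rec (fun t i => k o t i) r) g

theorem pr3_eq {γ : Type} (o t i : ℕ) (k : ℕ → ℕ → ℕ → γ) : pr3 (o, t, i) k = k o t i := rfl

section pc

variable (M : PM G n) (lk : ℕ → ℕ → ℕ)

/-- the group generated by a sequence of triples (relative order, table, inverse table) -/
def Mg (gs : List (ℕ × ℕ × ℕ)) : Subgroup G := _root_.Subgroup.closure {x | ∃ g ∈ gs, x = M.el lk g.2.1}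

/-- normal forms -/
def NF (gs : List (ℕ × ℕ × ℕ)) : G → Prop :=
  List.rec (fun y => y = 1) (fun g _ ih y => ∃ e < g.1, ∃ m, ih m ∧ y = m * M.el lk g.2.1 ^ e) gs

/-- the normal form with number `c` -/
noncomputable def evc (gs : List (ℕ × ℕ × ℕ)) : ℕ → G :=
  List.rec (fun _ => 1) (fun g _ ih c => ih (c / g.1) * M.el lk g.2.1 ^ (c % g.1)) gs

/-- product of the relative orders -/
def prodO (gs : List (ℕ × ℕ × ℕ)) : ℕ := (gs.map Prod.fst).prod

/-- a polycyclic sequence -/
def PCok (gs : List (ℕ × ℕ × ℕ)) : Prop :=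
  List.rec True (fun g r ih => 0 < g.1 ∧ M.el lk g.2.1 ^ g.1 ∈ Mg M lk r ∧
    (∀ m ∈ Mg M lk r, (M.el lk g.2.1)⁻¹ * m * M.el lk g.2.1 ∈ Mg M lk r) ∧ ih) gs

/-- all tables of a sequence describe elements -/
def GsIn (gs : List (ℕ × ℕ × ℕ)) : Prop := ∀ g ∈ gs, M.In lk g.2.1

variable {M lk}

theorem GsIn.tail {g : ℕ × ℕ × ℕ} {gs : List (ℕ × ℕ × ℕ)} (h : GsIn M lk (g :: gs)) : GsIn M lk gs :=
  fun a ha => h a (List.mem_cons_of_mem _ ha)

theorem Mg_nil : Mg M lk [] = ⊥ := by simp [Mg]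

theorem Mg_tail (g : ℕ × ℕ × ℕ) (gs : List (ℕ × ℕ × ℕ)) : Mg M lk gs ≤ Mg M lk (g :: gs) :=
  _root_.Subgroup.closure_mono fun _ ⟨a, ha, h⟩ => ⟨a, List.mem_cons_of_mem _ ha, h⟩

theorem mem_Mg {g : ℕ × ℕ × ℕ} {gs : List (ℕ × ℕ × ℕ)} (h : g ∈ gs) : M.el lk g.2.1 ∈ Mg M lk gs :=
  subset_closure ⟨g, h, rfl⟩

theorem evc_mem (gs : List (ℕ × ℕ × ℕ)) : ∀ c, evc M lk gs c ∈ Mg M lk gs := by
  induction gs with
  | nil => exact fun _ => one_mem _
  | cons g gs ih => exact fun c => mul_mem (Mg_tail g gs (ih _)) (pow_mem (mem_Mg List.mem_cons_self) _)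

theorem PCok.step [Finite G] {g : ℕ × ℕ × ℕ} {gs : List (ℕ × ℕ × ℕ)} (h : PCok M lk (g :: gs)) :
    ∀ y ∈ Mg M lk (g :: gs), ∃ e < g.1, ∃ m ∈ Mg M lk gs, y = m * M.el lk g.2.1 ^ e := by
  obtain ⟨h0, h1, h2, -⟩ := h
  set t := M.el lk g.2.1 with ht
  have hn : t ∈ normalizer (Mg M lk gs : Set G) := by
    rw [← inv_mem_iff]
    exact mem_normalizer_fintype fun m hm => by simpa using h2 m hm
  have h3 : ∀ y ∈ Mg M lk (g :: gs), ∃ e : ℤ, ∃ m ∈ Mg M lk gs, y = m * t ^ e := by
    intro y hy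
    induction hy using closure_induction with
    | mem x hx =>
      obtain ⟨a, ha, rfl⟩ := hx
      rcases List.mem_cons.1 ha with rfl | ha
      · exact ⟨1, 1, one_mem _, by simp [ht]⟩
      · exact ⟨0, _, mem_Mg ha, by simp⟩
    | one => exact ⟨0, 1, one_mem _, by simp⟩
    | mul x y _ _ ihx ihy =>
      obtain ⟨a, m, hm, rfl⟩ := ihx
      obtain ⟨b, m', hm', rfl⟩ := ihy
      refine ⟨a + b, m * (t ^ a * m' * (t ^ a)⁻¹), mul_mem hm ((mem_normalizer_iff.1 (zpow_mem hn a) m').1 hm'), ?_⟩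
      group
    | inv x _ ih =>
      obtain ⟨a, m, hm, rfl⟩ := ih
      refine ⟨-a, t ^ (-a) * m⁻¹ * (t ^ (-a))⁻¹, (mem_normalizer_iff.1 (zpow_mem hn (-a)) m⁻¹).1 (inv_mem hm), ?_⟩
      group
  intro y hy
  obtain ⟨e, m, hm, rfl⟩ := h3 y hy
  have h4 : (0 : ℤ) < g.1 := by exact_mod_cast h0
  have h5 := Int.emod_nonneg e h4.ne'
  have h6 := Int.emod_lt_of_pos e h4
  refine ⟨(e % g.1).toNat, by omega, m * (t ^ g.1) ^ (e / g.1), mul_mem hm (zpow_mem h1 _), ?_⟩
  rw [mul_assoc, ← zpow_natCast t, ← zpow_natCast t, ← zpow_mul, ← zpow_add, Int.toNat_of_nonneg h5,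
    Int.mul_ediv_add_emod]

theorem PCok.tail {g : ℕ × ℕ × ℕ} {gs : List (ℕ × ℕ × ℕ)} (h : PCok M lk (g :: gs)) : PCok M lk gs := h.2.2.2

theorem PCok.nf [Finite G] {gs : List (ℕ × ℕ × ℕ)} (h : PCok M lk gs) : ∀ y ∈ Mg M lk gs, NF M lk gs y := by
  induction gs with
  | nil => intro y hy; rwa [Mg_nil, mem_bot] at hy
  | cons g gs ih =>
    intro y hy
    obtain ⟨e, he, m, hm, rfl⟩ := h.step y hy
    exact ⟨e, he, m, ih h.tail m hm, rfl⟩

theorem PCok.right {A B : List (ℕ × ℕ × ℕ)} (h : PCok M lk (A ++ B)) : PCok M lk B := by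
  induction A with
  | nil => exact h
  | cons g A ih => exact ih (PCok.tail h)

theorem PCok.card_step [Finite G] {g : ℕ × ℕ × ℕ} {gs : List (ℕ × ℕ × ℕ)} (h : PCok M lk (g :: gs)) :
    Nat.card (Mg M lk (g :: gs)) ≤ g.1 * Nat.card (Mg M lk gs) := by
  have h1 : Nat.card (Fin g.1 × Mg M lk gs) = g.1 * Nat.card (Mg M lk gs) := by rw [Nat.card_prod, Nat.card_fin]
  rw [← h1]
  choose e he m hm h2 using fun y : Mg M lk (g :: gs) => h.step y y.2
  refine Nat.card_le_card_of_injective (fun y => ((⟨e y, he y⟩, ⟨m y, hm y⟩) : Fin g.1 × Mg M lk gs)) fun a b hab => ?_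
  have h3 : e a = e b := congrArg (fun z : Fin g.1 × Mg M lk gs => z.1.1) hab
  have h4 : m a = m b := congrArg (fun z : Fin g.1 × Mg M lk gs => z.2.1) hab
  exact Subtype.ext (by rw [h2 a, h2 b, h3, h4])

theorem PCok.card_append [Finite G] {A B : List (ℕ × ℕ × ℕ)} (h : PCok M lk (A ++ B)) :
    Nat.card (Mg M lk (A ++ B)) ≤ prodO A * Nat.card (Mg M lk B) := by
  induction A with
  | nil => simp only [prodO, _root_.List.nil_append, _root_.List.map_nil, _root_.List.prod_nil, _root_.one_mul, _root_.Std.le_refl]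
  | cons g A ih =>
    have e : prodO (g :: A) = g.1 * prodO A := by simp [prodO]
    rw [e, mul_assoc]
    exact le_trans (PCok.card_step h) (Nat.mul_le_mul_left _ (ih (PCok.tail h)))

theorem PCok.card_le [Finite G] {gs : List (ℕ × ℕ × ℕ)} (h : PCok M lk gs) : Nat.card (Mg M lk gs) ≤ prodO gs := by
  have h1 := PCok.card_append (A := gs) (B := []) (by rwa [List.append_nil])
  rwa [List.append_nil, Mg_nil, card_bot, mul_one] at h1

/-- a lower bound for the order of a final segment -/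
theorem PCok.card_right [Finite G] {A B : List (ℕ × ℕ × ℕ)} (h : PCok M lk (A ++ B)) {m k : ℕ}
    (hm : m ≤ Nat.card (Mg M lk (A ++ B))) (hk : prodO A * k ≤ m) (hA : 0 < prodO A) : k ≤ Nat.card (Mg M lk B) :=
  Nat.le_of_mul_le_mul_left (hk.trans (hm.trans h.card_append)) hA

theorem NF.append {A B : List (ℕ × ℕ × ℕ)} : ∀ {y : G}, NF M lk (A ++ B) y →
    ∃ m c, NF M lk B m ∧ c < prodO A ∧ NF M lk A (evc M lk A c) ∧ y = m * evc M lk A c := by
  induction A with
  | nil => exact fun {y} h => ⟨y, 0, h, by simp [prodO], rfl, (mul_one y).symm⟩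
  | cons g A ih =>
    rintro _ ⟨e, he, m', hm', rfl⟩
    obtain ⟨m, c, h1, h2, h3, rfl⟩ := ih hm'
    have h0 : 0 < g.1 := by omega
    have e1 : (e + g.1 * c) / g.1 = c := by rw [Nat.add_mul_div_left _ _ h0, Nat.div_eq_of_lt he, zero_add]
    have e2 : (e + g.1 * c) % g.1 = e := by rw [Nat.add_mul_mod_self_left, Nat.mod_eq_of_lt he]
    have e3 : evc M lk (g :: A) (e + g.1 * c) = evc M lk A c * M.el lk g.2.1 ^ e := by
      show evc M lk A ((e + g.1 * c) / g.1) * M.el lk g.2.1 ^ ((e + g.1 * c) % g.1) = _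
      rw [e1, e2]
    refine ⟨m, e + g.1 * c, h1, ?_, ⟨e, he, _, h3, e3⟩, by rw [e3, mul_assoc]⟩
    have e : prodO (g :: A) = g.1 * prodO A := by simp [prodO]
    rw [e]
    nlinarith only [he, h2]

end pc

/-- apply a table `e` times -/
noncomputable def repF {β : Type} (lk : ℕ → ℕ → ℕ) (t : ℕ) (k : (ℕ → ℕ) → β) (e : ℕ) : (ℕ → ℕ) → β :=
  Nat.rec (fun f => k f) (fun _ ih f => ih fun q => lk t (f q)) e

/-- the normal form with a given number -/
noncomputable def dec {β : Type} (lk : ℕ → ℕ → ℕ) (k : (ℕ → ℕ) → β) (gs : List (ℕ × ℕ × ℕ)) : ℕ → (ℕ → ℕ) → β :=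
  List.rec (fun _ f => k f) (fun g _ ih c f => pr3 g fun o t _ =>
    frc (Nat.div c o) fun c' => repF lk t (ih c') (Nat.mod c o) f) gs

/-- the conjugation relations -/
noncomputable def conjAll (lk : ℕ → ℕ → ℕ) (B : List ℕ) (rdf : ℕ → ℕ) (t : ℕ) (r : List (ℕ × ℕ × ℕ))
    (l : List (ℕ × ℕ × ℕ)) : ℕ → ℕ :=
  List.rec (fun s => s) (fun g _ ih s => pr3 g fun _ t' _ => dec lk (fun f =>
    cnd (eqB B (fun q => lk t' (lk t q)) fun q => lk t (f q)) (frc (Nat.succ s) ih) (nat_lit 0)) r (rdf s) idf) l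

/-- the check of a polycyclic sequence -/
noncomputable def pcChk (lk : ℕ → ℕ → ℕ) (B : List ℕ) (rdf : ℕ → ℕ) (gs : List (ℕ × ℕ × ℕ)) : ℕ → ℕ :=
  List.rec (fun s => s) (fun g r ih s => pr3 g fun o t _ => cnd (Nat.blt (nat_lit 0) o) (dec lk (fun f =>
    cnd (eqB B (itr (lk t) o) f) (nz (conjAll lk B rdf t r r (Nat.succ s)) ih) (nat_lit 0)) r (rdf s) idf)
    (nat_lit 0)) gs

/-- the loop over the exponents -/
noncomputable def eloop (lk : ℕ → ℕ → ℕ) (t : ℕ) (body : (ℕ → ℕ) → ℕ → ℕ) (o : ℕ) : (ℕ → ℕ) → ℕ → ℕ :=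
  Nat.rec (fun _ s => s) (fun _ ih f s => nz (body f s) fun s' => ih (fun q => lk t (f q)) s') o

/-- run `leaf` on all normal forms -/
noncomputable def enum (lk : ℕ → ℕ → ℕ) (leaf : (ℕ → ℕ) → ℕ → ℕ) (gs : List (ℕ × ℕ × ℕ)) : (ℕ → ℕ) → ℕ → ℕ :=
  List.rec (fun f s => leaf f s) (fun g _ ih f s => pr3 g fun o t _ => eloop lk t ih o f s) gs

/-- an element with `y ^ p = 1` is trivial or conjugate to a listed normal form -/
noncomputable def leafCov (lk : ℕ → ℕ → ℕ) (B : List ℕ) (p : ℕ) (gs : List (ℕ × ℕ × ℕ)) (cls : List ℕ) (rdf : ℕ → ℕ)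
    (f : ℕ → ℕ) (s : ℕ) : ℕ :=
  cnd (eqB B (itr f p) idf) (cnd (eqB B f idf) s (frc (rdf s) fun sym => getK cls (nat_lit 0) (fun rc =>
    dec lk (fun fr => dec lk (fun fm => cnd (eqB B (fun q => fm (f q)) fun q => fr (fm q)) (Nat.succ s) (nat_lit 0)) gs
      (Nat.shiftRight sym (nat_lit 10)) idf) gs rc idf) (Nat.land sym (nat_lit 1023)))) s

/-- fusion of the listed normal forms: entries (number, representative, exponent, conjugating word) -/
noncomputable def fuse (lk : ℕ → ℕ → ℕ) (B E : List ℕ) (gs : List (ℕ × ℕ × ℕ)) (reps : List ℕ)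
    (fz : List (ℕ × ℕ × ℕ × ℕ)) : Bool :=
  allL fz fun z => pr z fun rc r => pr3 r fun i a hc => dec lk (fun fr => decF lk E (fun fh =>
    getK reps false (fun x => eqB B (fun q => fh (fr q)) fun q => itr (lk x) a (fh q)) i) (nat_lit 200) hc idf) gs rc idf

section pcspec

variable {M : PM G n} {lk : ℕ → ℕ → ℕ}

theorem repF_spec {β : Type} {t : ℕ} {x : G} (hx : M.Rf x (lk t)) (e : ℕ) :
    ∀ (y : G) (f : ℕ → ℕ), M.Rf y f → ∃ f', M.Rf (x ^ e * y) f' ∧ ∀ k : (ℕ → ℕ) → β, repF lk t k e f = k f' := by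
  induction e with
  | zero => exact fun y f h => ⟨f, by simpa using h, fun _ => rfl⟩
  | succ e ih =>
    intro y f h
    obtain ⟨f', h1, h2⟩ := ih _ _ (hx.mul h)
    exact ⟨f', by rwa [pow_succ, mul_assoc], h2⟩

theorem dec_spec {β : Type} {gs : List (ℕ × ℕ × ℕ)} (h : GsIn M lk gs) : ∀ (c : ℕ) (y : G) (f : ℕ → ℕ), M.Rf y f →
    ∃ f', M.Rf (evc M lk gs c * y) f' ∧ ∀ k : (ℕ → ℕ) → β, dec lk k gs c f = k f' := by
  induction gs with
  | nil => exact fun c y f hf => ⟨f, by simpa [evc] using hf, fun _ => rfl⟩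
  | cons g gs ih =>
    obtain ⟨o, t, i⟩ := g
    intro c y f hf
    obtain ⟨f1, h1, h2⟩ := repF_spec (β := β) (h _ List.mem_cons_self).rf (c % o) y f hf
    obtain ⟨f2, h3, h4⟩ := ih h.tail (c / o) _ _ h1
    refine ⟨f2, ?_, fun k => ?_⟩
    · rw [← mul_assoc] at h3
      exact h3
    · have e : dec lk k ((o, t, i) :: gs) c f = frc (c / o) fun c' => repF lk t (dec lk k gs c') (c % o) f := rfl
      rw [e, frc_eq, h2, h4]

theorem dec_one {β : Type} {gs : List (ℕ × ℕ × ℕ)} (h : GsIn M lk gs) (c : ℕ) :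
    ∃ f', M.Rf (evc M lk gs c) f' ∧ ∀ k : (ℕ → ℕ) → β, dec lk k gs c idf = k f' := by
  simpa only [_root_.mul_one] using dec_spec h c 1 idf PM.rf_one

theorem conjAll_spec {B : List ℕ} (hB : M.Base B) (rdf : ℕ → ℕ) {t : ℕ} (ht : M.In lk t) {r : List (ℕ × ℕ × ℕ)}
    (hr : GsIn M lk r) (l : List (ℕ × ℕ × ℕ)) (hl : GsIn M lk l) : ∀ s, conjAll lk B rdf t r l s ≠ 0 →
      ∀ g ∈ l, (M.el lk t)⁻¹ * M.el lk g.2.1 * M.el lk t ∈ Mg M lk r := by
  induction l with
  | nil => simp
  | cons g l ih =>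
    obtain ⟨o, t', i⟩ := g
    intro s h
    obtain ⟨f, h1, h2⟩ := dec_one (β := ℕ) hr (rdf s)
    have e : conjAll lk B rdf t r ((o, t', i) :: l) s = pr3 (o, t', i) fun _ t' _ => dec lk (fun f =>
      cnd (eqB B (fun q => lk t' (lk t q)) fun q => lk t (f q)) (frc (Nat.succ s) (conjAll lk B rdf t r l))
        (nat_lit 0)) r (rdf s) idf := rfl
    rw [e, pr3_eq, h2] at h
    obtain ⟨h3, h4⟩ := cnd_ne h
    rw [frc_eq] at h4
    intro g hg
    rcases List.mem_cons.1 hg with rfl | hg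
    · have h5 := hB.eq ((hl _ List.mem_cons_self).rf.mul ht.rf) (ht.rf.mul h1) h3
      rw [mul_assoc, h5, inv_mul_cancel_left]
      exact evc_mem r _
    · exact ih hl.tail _ h4 g hg

theorem pcChk_spec {B : List ℕ} (hB : M.Base B) (rdf : ℕ → ℕ) {gs : List (ℕ × ℕ × ℕ)} (h : GsIn M lk gs) :
    ∀ s, pcChk lk B rdf gs s ≠ 0 → PCok M lk gs := by
  induction gs with
  | nil => exact fun _ _ => trivial
  | cons g r ih =>
    obtain ⟨o, t, i⟩ := g
    intro s hs
    obtain ⟨f, h1, h2⟩ := dec_one (β := ℕ) h.tail (rdf s)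
    have e : pcChk lk B rdf ((o, t, i) :: r) s = pr3 (o, t, i) fun o t _ => cnd (Nat.blt (nat_lit 0) o) (dec lk (fun f =>
      cnd (eqB B (itr (lk t) o) f) (nz (conjAll lk B rdf t r r (Nat.succ s)) (pcChk lk B rdf r)) (nat_lit 0)) r
        (rdf s) idf) (nat_lit 0) := rfl
    rw [e, pr3_eq] at hs
    obtain ⟨h3, h4⟩ := cnd_ne hs
    rw [h2] at h4
    obtain ⟨h5, h6⟩ := cnd_ne h4
    obtain ⟨h7, h8⟩ := nz_ne h6
    have ht : M.In lk t := h _ List.mem_cons_self
    refine ⟨by simpa using h3, ?_, fun m hm => ?_, ih h.tail _ h8⟩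
    · rw [hB.eq (ht.rf.pow o) h1 h5]
      exact evc_mem r _
    · have h9 := conjAll_spec hB rdf ht h.tail r h.tail _ h7
      show (M.el lk t)⁻¹ * m * M.el lk t ∈ Mg M lk r
      induction hm using closure_induction with
      | mem x hx =>
        obtain ⟨g, hg, rfl⟩ := hx
        exact h9 g hg
      | one => simp
      | mul x y _ _ ihx ihy =>
        have := mul_mem ihx ihy
        rwa [show (M.el lk t)⁻¹ * x * M.el lk t * ((M.el lk t)⁻¹ * y * M.el lk t) =
          (M.el lk t)⁻¹ * (x * y) * M.el lk t by group] at this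
      | inv x _ ihx =>
        have := inv_mem ihx
        rwa [show ((M.el lk t)⁻¹ * x * M.el lk t)⁻¹ = (M.el lk t)⁻¹ * x⁻¹ * M.el lk t by group] at this

theorem pc_of_chk {B : List ℕ} (hB : M.Base B) {rdf : ℕ → ℕ} {gs : List (ℕ × ℕ × ℕ)} (h : GsIn M lk gs)
    (hs : Nat.blt (nat_lit 0) (pcChk lk B rdf gs (nat_lit 1)) = true) : PCok M lk gs :=
  pcChk_spec hB rdf h _ (ne_of_blt hs)

/-- a lower bound for the order of the group of a sequence -/
theorem Mg_ge [Finite G] {gs : List (ℕ × ℕ × ℕ)} (h : GsIn M lk gs) {E : List ℕ} (hE : gs.map (fun g => g.2.1) = E)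
    {levels : List (ℕ × List ℕ)} {m : ℕ} (hm : Nat.ble m (chain lk E n (fun _ => true) levels []) = true) :
    m ≤ Nat.card (Mg M lk gs) := by
  refine chain_le (M := M) (H₀ := Mg M lk gs) (fun t ht => ?_) (fun g hg _ _ _ => hg) hm
  rw [← hE] at ht
  obtain ⟨g, hg, rfl⟩ := List.mem_map.1 ht
  exact ⟨_, mem_Mg hg, (h g hg).rf⟩

theorem eloop_spec {t : ℕ} {x : G} (hx : M.Rf x (lk t)) (body : (ℕ → ℕ) → ℕ → ℕ) (o : ℕ) :
    ∀ (y : G) (f : ℕ → ℕ) (s : ℕ), M.Rf y f → eloop lk t body o f s ≠ 0 →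
      ∀ e < o, ∃ f' s', M.Rf (x ^ e * y) f' ∧ body f' s' ≠ 0 := by
  induction o with
  | zero => simp only [_root_.ne_eq, _root_.not_lt_zero, _root_.exists_and_left, _root_.IsEmpty.forall_iff, _root_.implies_true]
  | succ o ih =>
    intro y f s hf h e he
    obtain ⟨h1, h2⟩ := nz_ne (v := body f s) (k := fun s' => eloop lk t body o (fun q => lk t (f q)) s') h
    cases e with
    | zero => exact ⟨f, s, by simpa using hf, h1⟩
    | succ e =>
      obtain ⟨f', s', h3, h4⟩ := ih _ _ _ (hx.mul hf) h2 e (by omega)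
      exact ⟨f', s', by rwa [pow_succ, mul_assoc], h4⟩

theorem enum_spec {P : G → Prop} {leaf : (ℕ → ℕ) → ℕ → ℕ} (hleaf : ∀ y f s, M.Rf y f → leaf f s ≠ 0 → P y)
    {gs : List (ℕ × ℕ × ℕ)} (h : GsIn M lk gs) : ∀ (y : G) (f : ℕ → ℕ) (s : ℕ), M.Rf y f →
      enum lk leaf gs f s ≠ 0 → ∀ m, NF M lk gs m → P (m * y) := by
  induction gs with
  | nil =>
    rintro y f s hf hs _ rfl
    rw [one_mul]
    exact hleaf y f s hf hs
  | cons g gs ih =>
    obtain ⟨o, t, i⟩ := g
    rintro y f s hf hs _ ⟨e, he, m, hm, rfl⟩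
    obtain ⟨f', s', h1, h2⟩ := eloop_spec (h _ List.mem_cons_self).rf (enum lk leaf gs) o y f s hf hs e he
    rw [mul_assoc]
    exact ih h.tail _ _ _ h1 h2 m hm

/-- trivial or in a listed class -/
def Gd (M : PM G n) (lk : ℕ → ℕ → ℕ) (reps : List ℕ) (y : G) : Prop := y = 1 ∨ ∃ t ∈ reps, y ∈ Cl (M.el lk t)

theorem Gd.conj {reps : List ℕ} {y : G} (h : Gd M lk reps y) (g : G) : Gd M lk reps (g * y * g⁻¹) := by
  rcases h with rfl | ⟨t, ht, h⟩
  exacts [Or.inl (by simp), Or.inr ⟨t, ht, Cl.conj h g⟩]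

theorem fuse_spec {B E : List ℕ} (hB : M.Base B) (hE : AllIn M lk E) {gs : List (ℕ × ℕ × ℕ)} (hg : GsIn M lk gs)
    {reps : List ℕ} (hr : AllIn M lk reps) {fz : List (ℕ × ℕ × ℕ × ℕ)} (h : fuse lk B E gs reps fz = true) :
    ∀ rc ∈ fz.map Prod.fst, Gd M lk reps (evc M lk gs rc) := by
  intro rc hrc
  obtain ⟨⟨rc, i, a, hc⟩, hz, rfl⟩ := List.mem_map.1 hrc
  have h1 := of_allL h _ hz
  obtain ⟨fr, h2, h3⟩ := dec_one (β := Bool) hg rc
  rw [pr_eq, pr3_eq, h3] at h1
  obtain ⟨g, -, fh, h4, h5⟩ := decF_spec hE.top (fun fh => getK reps false (fun x => eqB B (fun q => fh (fr q))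
    fun q => itr (lk x) a (fh q)) i) (nat_lit 200) hc 1 idf (mem_top _) PM.rf_one
  rw [h5] at h1
  rcases getK_cases reps false (fun x => eqB B (fun q => fh (fr q)) fun q => itr (lk x) a (fh q)) i with h6 | ⟨x, hx, h6⟩
  · rw [h6] at h1
    exact absurd h1 (by simp)
  rw [h6] at h1
  have h7 := hB.eq (h4.mul h2) (((hr x hx).rf.pow a).mul h4) h1
  by_cases h8 : evc M lk gs rc = 1
  · exact Or.inl h8
  · exact Or.inr ⟨x, hx, h8, g⁻¹, a, by rw [mul_assoc, inv_inv, ← h7]; group⟩

theorem leafCov_spec {B : List ℕ} (hB : M.Base B) {p : ℕ} {gs : List (ℕ × ℕ × ℕ)} (hg : GsIn M lk gs) {cls reps : List ℕ}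
    (hc : ∀ rc ∈ cls, Gd M lk reps (evc M lk gs rc)) (rdf : ℕ → ℕ) (y : G) (f : ℕ → ℕ) (s : ℕ) (hf : M.Rf y f)
    (h : leafCov lk B p gs cls rdf f s ≠ 0) : y ^ p = 1 → Gd M lk reps y := by
  intro hy
  unfold leafCov at h
  rw [hB.eqB_of_eq (hf.pow p) (hy ▸ PM.rf_one), cnd_true] at h
  cases h1 : eqB B f idf
  swap
  · exact Or.inl (hB.eq hf PM.rf_one h1)
  rw [h1, cnd_false, frc_eq] at h
  rcases getK_cases cls (nat_lit 0) (fun rc => dec lk (fun fr => dec lk (fun fm =>
    cnd (eqB B (fun q => fm (f q)) fun q => fr (fm q)) (Nat.succ s) (nat_lit 0)) gs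
      (Nat.shiftRight (rdf s) (nat_lit 10)) idf) gs rc idf) (Nat.land (rdf s) (nat_lit 1023)) with h2 | ⟨rc, hrc, h2⟩
  · exact absurd h2 h
  obtain ⟨fr, h3, h4⟩ := dec_one (β := ℕ) hg rc
  obtain ⟨fm, h5, h6⟩ := dec_one (β := ℕ) hg (Nat.shiftRight (rdf s) (nat_lit 10))
  rw [h2, h4, h6] at h
  have h7 := hB.eq (h5.mul hf) (h3.mul h5) (cnd_ne h).1
  have h8 := (hc rc hrc).conj (evc M lk gs (Nat.shiftRight (rdf s) (nat_lit 10)))⁻¹
  rwa [inv_inv, mul_assoc, ← h7, inv_mul_cancel_left] at h8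

/-- an element of order `p` is conjugate into a subgroup of index prime to `p` -/
theorem exists_conj_mem [Finite G] {P : Subgroup G} {p m d : ℕ} (hp : p.Prime) (hP : Nat.card P = m)
    (hN : Nat.card G = m * d) (hd : ¬ p ∣ d) {c : G} (hc : orderOf c = p) : ∃ g : G, g⁻¹ * c * g ∈ P := by
  have _ : Fact p.Prime := ⟨hp⟩
  have h1 : IsPGroup p (zpowers c) := IsPGroup.of_card (n := 1) (by rw [Nat.card_zpowers, hc, pow_one])
  have h2 : Nat.card (G ⧸ P) = d := by
    have h3 := P.card_mul_index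
    have h4 : 0 < m := hP ▸ Nat.card_pos
    rw [hP, hN] at h3
    exact Nat.eq_of_mul_eq_mul_left h4 h3
  obtain ⟨q, hq⟩ := h1.nonempty_fixed_point_of_prime_not_dvd_card (G ⧸ P) (h2 ▸ hd)
  obtain ⟨g, rfl⟩ := QuotientGroup.mk_surjective q
  have h5 : ((c * g : G) : G ⧸ P) = (g : G ⧸ P) := hq ⟨c, mem_zpowers c⟩
  have h6 := QuotientGroup.eq.1 h5.symm
  exact ⟨g, by rwa [mul_assoc]⟩

/-- every element of order `p` lies in a listed class -/
def Cov (M : PM G n) (lk : ℕ → ℕ → ℕ) (p : ℕ) (reps : List ℕ) : Prop :=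
  ∀ c : G, orderOf c = p → ∃ t ∈ reps, c ∈ Cl (M.el lk t)

theorem cov_of_nf [Finite G] {gs : List (ℕ × ℕ × ℕ)} (hpc : PCok M lk gs) {p m d : ℕ} (hp : p.Prime)
    (hm : m ≤ Nat.card (Mg M lk gs)) (hm' : prodO gs = m) (hN : Nat.card G = m * d) (hd : ¬ p ∣ d) {reps : List ℕ}
    (h : ∀ y, NF M lk gs y → y ^ p = 1 → Gd M lk reps y) : Cov M lk p reps := by
  intro c hc
  obtain ⟨g, hg⟩ := exists_conj_mem hp (le_antisymm (hm' ▸ hpc.card_le) hm) hN hd hc
  have h1 := (h _ (hpc.nf _ hg) (by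
    have := conj_pow (a := g⁻¹) (b := c) (i := p)
    rw [inv_inv] at this
    rw [this, ← hc, pow_orderOf_eq_one]
    simp)).conj g
  rw [show g * (g⁻¹ * c * g) * g⁻¹ = c by group] at h1
  rcases h1 with rfl | h1
  · rw [orderOf_one] at hc
    exact absurd (hc ▸ hp) Nat.not_prime_one
  · exact h1

/-- the enumeration of a coset of a final segment -/
noncomputable def covChk (lk : ℕ → ℕ → ℕ) (B : List ℕ) (p : ℕ) (A R gs : List (ℕ × ℕ × ℕ)) (cls : List ℕ)
    (rdf : ℕ → ℕ) (c : ℕ) : Bool :=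
  Nat.blt (nat_lit 0) (dec lk (fun f => enum lk (leafCov lk B p gs cls rdf) R f (nat_lit 1)) A c idf)

theorem cov_of_chk [Finite G] {B : List ℕ} (hB : M.Base B) {A R gs : List (ℕ × ℕ × ℕ)} (hAR : A ++ R = gs)
    (hg : GsIn M lk gs) (hpc : PCok M lk gs) {p m d : ℕ} (hp : p.Prime) (hm : m ≤ Nat.card (Mg M lk gs))
    (hm' : prodO gs = m) (hN : Nat.card G = m * d) (hd : ¬ p ∣ d) {cls reps : List ℕ}
    (hc : ∀ rc ∈ cls, Gd M lk reps (evc M lk gs rc)) {a : ℕ} (ha : prodO A = a)
    (h : ∀ c < a, ∃ rdf, covChk lk B p A R gs cls rdf c = true) : Cov M lk p reps := by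
  refine cov_of_nf hpc hp hm hm' hN hd fun y hy => ?_
  rw [← hAR] at hy
  obtain ⟨r, c, h1, h2, -, rfl⟩ := hy.append
  obtain ⟨rdf, h3⟩ := h c (ha ▸ h2)
  have hA : GsIn M lk A := fun g hg' => hg g (hAR ▸ List.mem_append_left _ hg')
  have hR : GsIn M lk R := fun g hg' => hg g (hAR ▸ List.mem_append_right _ hg')
  obtain ⟨f, h4, h5⟩ := dec_one (β := ℕ) hA c
  unfold covChk at h3
  rw [h5] at h3
  exact enum_spec (leafCov_spec hB hg hc rdf) hR _ f (nat_lit 1) h4 (ne_of_blt h3) r h1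

/-- a Sylow subgroup of prime order -/
theorem cov_of_prime [Finite G] {t p d : ℕ} (hp : p.Prime) (ht : orderOf (M.el lk t) = p) (hN : Nat.card G = p * d)
    (hd : ¬ p ∣ d) : Cov M lk p [t] := by
  intro c hc
  obtain ⟨g, hg⟩ := exists_conj_mem (P := zpowers (M.el lk t)) hp (by rw [Nat.card_zpowers, ht]) hN hd hc
  rw [mem_zpowers_iff_mem_range_orderOf, Finset.mem_image] at hg
  obtain ⟨a, -, ha⟩ := hg
  refine ⟨t, by simp, ?_, g, a, by rw [ha]; group⟩
  rintro rfl
  rw [orderOf_one] at hc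
  exact absurd (hc ▸ hp) Nat.not_prime_one

end pcspec

end Cfsg.Agent.SB.Spor
end

private theorem dce_08e5757467e8 : _root_.True := by
  try have : _root_.True := by simp only [_root_.Cfsg.Agent.SB.Spor.PM.el.eq_1]
  try have : _root_.True := by simp only [_root_.Cfsg.Agent.SB.Spor.evc.eq_1]
  try have : _root_.True := by simp only [_root_.Cfsg.Agent.SB.Spor.prodO.eq_1]
  try have : _root_.True := by simp only [_root_.Cfsg.Agent.SB.Spor.anyN.eq_1]
  try have : _root_.True := by simp only [_root_.Cfsg.Agent.SB.Spor.Mg.eq_1]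
  exact _root_.True.intro
end

-- part: SB/SporF/RowCo3
section
prune_inst 0x2200000000000040001c0200000002004b00000000000004000c400000062000000110000000000000000811000000020000000a00000000000000000000000000a000200000000000000000000000000000000000000000000000000000000
set_option linter.all false
open scoped Cfsg.Agent.FastGrp

-- part: SB/Spor/Clique
section
/-!
# S5765, sporadic rows: the certificate engine, part 3 (helper63)

Lists of conjugates of which a solvable subgroup contains only few members.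
-/

set_option autoImplicit false

namespace Cfsg.Agent.SB.Spor

open Subgroup Cfsg
open scoped Classical

variable {G : Type*} [Group G] {n : ℕ}

/-- a list of elements and its list of tables -/
abbrev Rl (M : PM G n) (lk : ℕ → ℕ → ℕ) (Kg : List G) (K : List ℕ) : Prop :=
  List.Forall₂ (fun g t => M.Rf g (lk t)) Kg K

/-- a sound test of non-solvability -/
def NsOk (M : PM G n) (lk : ℕ → ℕ → ℕ) (ns : List ℕ → ℕ → Bool) : Prop :=
  ∀ Cg C id, Rl M lk Cg C → ns C id = true → ∀ S : Subgroup G, Group.IsSolvable S → (∀ a ∈ Cg, a ∈ S) → False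

theorem Rl.mem {M : PM G n} {lk : ℕ → ℕ → ℕ} {Cg : List G} {C : List ℕ} (h : Rl M lk Cg C) {S : Subgroup G}
    (hS : ∀ a ∈ Cg, a ∈ S) : ∀ t ∈ C, ∃ g ∈ S, M.Rf g (lk t) := by
  induction h with
  | nil => simp
  | cons h1 _ ih =>
    intro t ht
    rcases List.mem_cons.1 ht with rfl | ht
    exacts [⟨_, hS _ List.mem_cons_self, h1⟩, ih (fun a ha => hS a (List.mem_cons_of_mem _ ha)) t ht]

theorem Rl.mem' {M : PM G n} {lk : ℕ → ℕ → ℕ} {Cg : List G} {C : List ℕ} (h : Rl M lk Cg C) :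
    ∀ g ∈ Cg, ∃ t ∈ C, M.Rf g (lk t) := by
  induction h with
  | nil => simp
  | cons h1 _ ih =>
    intro g hg
    rcases List.mem_cons.1 hg with rfl | hg
    · exact ⟨_, List.mem_cons_self, h1⟩
    · obtain ⟨t, ht, h2⟩ := ih g hg
      exact ⟨t, List.mem_cons_of_mem _ ht, h2⟩

/-- two words `u`, `v` such that `u`, `v`, `u v` have pairwise coprime orders -/
noncomputable def nsC (lk : ℕ → ℕ → ℕ) (B : List ℕ) (WP : List (List ℕ × List ℕ)) (C : List ℕ) (id : ℕ) : Bool :=
  getK WP false (fun w => pr w fun u v => cmp lk C u fun fu => cmp lk C v fun fv =>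
    cnd (eqB B fu idf) false (frc (ordB B fu) fun a => frc (ordB B fv) fun b =>
      cnd (Nat.beq (Nat.gcd a b) (nat_lit 1)) (frc (ordB B fun q => fu (fv q)) fun c =>
        cnd (Nat.beq (Nat.gcd a c) (nat_lit 1)) (Nat.beq (Nat.gcd b c) (nat_lit 1)) false) false)) id

theorem nsC_ok {M : PM G n} {lk : ℕ → ℕ → ℕ} {B : List ℕ} (hB : M.Base B) (WP : List (List ℕ × List ℕ)) :
    NsOk M lk (nsC lk B WP) := by
  intro Cg C id hC h S hS hCS
  have hm := hC.mem hCS
  let F : (ℕ → ℕ) → (ℕ → ℕ) → Bool := fun fu fv =>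
    cnd (eqB B fu idf) false (frc (ordB B fu) fun a => frc (ordB B fv) fun b =>
      cnd (Nat.beq (Nat.gcd a b) (nat_lit 1)) (frc (ordB B fun q => fu (fv q)) fun c =>
        cnd (Nat.beq (Nat.gcd a c) (nat_lit 1)) (Nat.beq (Nat.gcd b c) (nat_lit 1)) false) false)
  have e : nsC lk B WP C id =
    getK WP false (fun w => pr w fun u v => cmp lk C u fun fu => cmp lk C v fun fv => F fu fv) id := rfl
  rw [e] at h
  rcases getK_cases WP false (fun w => pr w fun u v => cmp lk C u fun fu => cmp lk C v fun fv => F fu fv) id with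
    h1 | ⟨⟨u, v⟩, -, h1⟩
  · rw [h1] at h
    exact absurd h (by simp)
  obtain ⟨a, ha, fu, h2, h3⟩ := cmp_spec hm u fun fu => cmp lk C v fun fv => F fu fv
  obtain ⟨b, hb, fv, h4, h5⟩ := cmp_spec hm v fun fv => F fu fv
  rw [h1, pr_eq, h3, h5] at h
  simp only [F] at h
  cases h6 : eqB B fu idf
  swap
  · rw [h6, cnd_true] at h
    exact absurd h (by simp)
  rw [h6, cnd_false, frc_eq, frc_eq] at h
  obtain ⟨h7, h8⟩ := cnd_and h
  rw [frc_eq] at h8
  obtain ⟨h9, h10⟩ := cnd_and h8
  exact hB.ne_one h2 h6 (eq_one_of_coprime hS ha hb (hB.pow_ordB h2) (hB.pow_ordB h4) (hB.pow_ordB (h2.mul h4))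
    (Nat.eq_of_beq_eq_true h7) (Nat.eq_of_beq_eq_true h9) (Nat.eq_of_beq_eq_true h10))

namespace Fx82

/-- a word in packed tables -/
noncomputable def app (w m : ℕ) (l : List ℕ) (q : ℕ) : ℕ := List.rec q (fun t _ ih => plk w m t ih) l

/-- the tables of a word -/
noncomputable def cmpT {β : Type} (C u : List ℕ) : (List ℕ → β) → β :=
  List.rec (fun k => k []) (fun i _ ih k => ih fun l => getK C (k l) (fun t => k (t :: l)) i) u

theorem cmp_eq {β : Type} (w m : ℕ) (C u : List ℕ) :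
    ∀ k : (ℕ → ℕ) → β, cmp (plk w m) C u k = cmpT C u fun l => k (app w m l) := by
  induction u with
  | nil => exact fun _ => rfl
  | cons i u ih => exact fun k => ih _

/-- concatenation -/
noncomputable def cat (l l' : List ℕ) : List ℕ := List.rec l' (fun t _ ih => t :: ih) l

theorem app_cat (w m : ℕ) (l l' : List ℕ) : (fun q => app w m l (app w m l' q)) = app w m (cat l l') := by
  funext q
  induction l with
  | nil => rfl
  | cons t l ih => exact congrArg (plk w m t) ih

/-- `ordB` without forcing -/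
noncomputable def ord0 (B : List ℕ) (f : ℕ → ℕ) : ℕ :=
  List.rec (nat_lit 1) (fun b _ ih => Nat.mul (Nat.rec (motive := fun _ => ℕ → ℕ → ℕ) (fun _ _ => nat_lit 0)
    (fun _ ih cur cnt => Bool.rec (ih (f cur) (Nat.succ cnt)) cnt (Nat.beq (f cur) b)) (nat_lit 100) b (nat_lit 1)) ih) B

theorem ord0_eq (B : List ℕ) (f : ℕ → ℕ) : ordB B f = ord0 B f := by
  have e : @frc = fun (β : Type) (v : ℕ) (k : ℕ → β) => k v := by
    funext β v k
    exact frc_eq v k
  delta ordB cyc
  rewrite [e]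
  rfl

/-- words of length 1 -/
noncomputable def o1 (w m : ℕ) (B : List ℕ) (t1 : ℕ) : ℕ :=
  List.rec (nat_lit 1) (fun b _ ih => Nat.mul (Nat.rec (motive := fun _ => ℕ → ℕ → ℕ) (fun _ _ => nat_lit 0)
    (fun _ ih cur cnt => Nat.rec (nat_lit 0) (fun k _ => Bool.rec (ih k (Nat.succ cnt)) cnt (Nat.beq k b))
      (Nat.add (Nat.land (Nat.shiftRight t1 (Nat.mul w cur)) m) (nat_lit 1))) (nat_lit 100) b (nat_lit 1)) ih) B

/-- words of length 2 -/
noncomputable def o2 (w m : ℕ) (B : List ℕ) (t1 t2 : ℕ) : ℕ :=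
  List.rec (nat_lit 1) (fun b _ ih => Nat.mul (Nat.rec (motive := fun _ => ℕ → ℕ → ℕ) (fun _ _ => nat_lit 0)
    (fun _ ih cur cnt => Nat.rec (nat_lit 0) (fun k _ => Bool.rec (ih k (Nat.succ cnt)) cnt (Nat.beq k b))
      (Nat.add (Nat.land (Nat.shiftRight t1 (Nat.mul w (Nat.land (Nat.shiftRight t2 (Nat.mul w cur)) m))) m) (nat_lit 1))) (nat_lit 100) b (nat_lit 1)) ih) B

/-- words of length 3 -/
noncomputable def o3 (w m : ℕ) (B : List ℕ) (t1 t2 t3 : ℕ) : ℕ :=
  List.rec (nat_lit 1) (fun b _ ih => Nat.mul (Nat.rec (motive := fun _ => ℕ → ℕ → ℕ) (fun _ _ => nat_lit 0)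
    (fun _ ih cur cnt => Nat.rec (nat_lit 0) (fun k _ => Bool.rec (ih k (Nat.succ cnt)) cnt (Nat.beq k b))
      (Nat.add (Nat.land (Nat.shiftRight t1 (Nat.mul w (Nat.land (Nat.shiftRight t2 (Nat.mul w (Nat.land (Nat.shiftRight t3 (Nat.mul w cur)) m))) m))) m) (nat_lit 1))) (nat_lit 100) b (nat_lit 1)) ih) B

/-- words of length 4 -/
noncomputable def o4 (w m : ℕ) (B : List ℕ) (t1 t2 t3 t4 : ℕ) : ℕ :=
  List.rec (nat_lit 1) (fun b _ ih => Nat.mul (Nat.rec (motive := fun _ => ℕ → ℕ → ℕ) (fun _ _ => nat_lit 0)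
    (fun _ ih cur cnt => Nat.rec (nat_lit 0) (fun k _ => Bool.rec (ih k (Nat.succ cnt)) cnt (Nat.beq k b))
      (Nat.add (Nat.land (Nat.shiftRight t1 (Nat.mul w (Nat.land (Nat.shiftRight t2 (Nat.mul w (Nat.land (Nat.shiftRight t3 (Nat.mul w (Nat.land (Nat.shiftRight t4 (Nat.mul w cur)) m))) m))) m))) m) (nat_lit 1))) (nat_lit 100) b (nat_lit 1)) ih) B

/-- words of length 5 -/
noncomputable def o5 (w m : ℕ) (B : List ℕ) (t1 t2 t3 t4 t5 : ℕ) : ℕ :=
  List.rec (nat_lit 1) (fun b _ ih => Nat.mul (Nat.rec (motive := fun _ => ℕ → ℕ → ℕ) (fun _ _ => nat_lit 0)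
    (fun _ ih cur cnt => Nat.rec (nat_lit 0) (fun k _ => Bool.rec (ih k (Nat.succ cnt)) cnt (Nat.beq k b))
      (Nat.add (Nat.land (Nat.shiftRight t1 (Nat.mul w (Nat.land (Nat.shiftRight t2 (Nat.mul w (Nat.land (Nat.shiftRight t3 (Nat.mul w (Nat.land (Nat.shiftRight t4 (Nat.mul w (Nat.land (Nat.shiftRight t5 (Nat.mul w cur)) m))) m))) m))) m))) m) (nat_lit 1))) (nat_lit 100) b (nat_lit 1)) ih) B

/-- words of length 6 -/
noncomputable def o6 (w m : ℕ) (B : List ℕ) (t1 t2 t3 t4 t5 t6 : ℕ) : ℕ :=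
  List.rec (nat_lit 1) (fun b _ ih => Nat.mul (Nat.rec (motive := fun _ => ℕ → ℕ → ℕ) (fun _ _ => nat_lit 0)
    (fun _ ih cur cnt => Nat.rec (nat_lit 0) (fun k _ => Bool.rec (ih k (Nat.succ cnt)) cnt (Nat.beq k b))
      (Nat.add (Nat.land (Nat.shiftRight t1 (Nat.mul w (Nat.land (Nat.shiftRight t2 (Nat.mul w (Nat.land (Nat.shiftRight t3 (Nat.mul w (Nat.land (Nat.shiftRight t4 (Nat.mul w (Nat.land (Nat.shiftRight t5 (Nat.mul w (Nat.land (Nat.shiftRight t6 (Nat.mul w cur)) m))) m))) m))) m))) m))) m) (nat_lit 1))) (nat_lit 100) b (nat_lit 1)) ih) B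

/-- words of length 7 -/
noncomputable def o7 (w m : ℕ) (B : List ℕ) (t1 t2 t3 t4 t5 t6 t7 : ℕ) : ℕ :=
  List.rec (nat_lit 1) (fun b _ ih => Nat.mul (Nat.rec (motive := fun _ => ℕ → ℕ → ℕ) (fun _ _ => nat_lit 0)
    (fun _ ih cur cnt => Nat.rec (nat_lit 0) (fun k _ => Bool.rec (ih k (Nat.succ cnt)) cnt (Nat.beq k b))
      (Nat.add (Nat.land (Nat.shiftRight t1 (Nat.mul w (Nat.land (Nat.shiftRight t2 (Nat.mul w (Nat.land (Nat.shiftRight t3 (Nat.mul w (Nat.land (Nat.shiftRight t4 (Nat.mul w (Nat.land (Nat.shiftRight t5 (Nat.mul w (Nat.land (Nat.shiftRight t6 (Nat.mul w (Nat.land (Nat.shiftRight t7 (Nat.mul w cur)) m))) m))) m))) m))) m))) m))) m) (nat_lit 1))) (nat_lit 100) b (nat_lit 1)) ih) B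

/-- words of length 8 -/
noncomputable def o8 (w m : ℕ) (B : List ℕ) (t1 t2 t3 t4 t5 t6 t7 t8 : ℕ) : ℕ :=
  List.rec (nat_lit 1) (fun b _ ih => Nat.mul (Nat.rec (motive := fun _ => ℕ → ℕ → ℕ) (fun _ _ => nat_lit 0)
    (fun _ ih cur cnt => Nat.rec (nat_lit 0) (fun k _ => Bool.rec (ih k (Nat.succ cnt)) cnt (Nat.beq k b))
      (Nat.add (Nat.land (Nat.shiftRight t1 (Nat.mul w (Nat.land (Nat.shiftRight t2 (Nat.mul w (Nat.land (Nat.shiftRight t3 (Nat.mul w (Nat.land (Nat.shiftRight t4 (Nat.mul w (Nat.land (Nat.shiftRight t5 (Nat.mul w (Nat.land (Nat.shiftRight t6 (Nat.mul w (Nat.land (Nat.shiftRight t7 (Nat.mul w (Nat.land (Nat.shiftRight t8 (Nat.mul w cur)) m))) m))) m))) m))) m))) m))) m))) m) (nat_lit 1))) (nat_lit 100) b (nat_lit 1)) ih) B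

/-- `ordB` of a word -/
noncomputable def ordT (w m : ℕ) (B l0 : List ℕ) : ℕ :=
  List.rec (ord0 B (app w m l0)) (fun t1 l1 _ => Nat.rec (nat_lit 0) (fun t1 _ =>
    List.rec (o1 w m B t1) (fun t2 l2 _ => Nat.rec (nat_lit 0) (fun t2 _ =>
    List.rec (o2 w m B t1 t2) (fun t3 l3 _ => Nat.rec (nat_lit 0) (fun t3 _ =>
    List.rec (o3 w m B t1 t2 t3) (fun t4 l4 _ => Nat.rec (nat_lit 0) (fun t4 _ =>
    List.rec (o4 w m B t1 t2 t3 t4) (fun t5 l5 _ => Nat.rec (nat_lit 0) (fun t5 _ =>
    List.rec (o5 w m B t1 t2 t3 t4 t5) (fun t6 l6 _ => Nat.rec (nat_lit 0) (fun t6 _ =>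
    List.rec (o6 w m B t1 t2 t3 t4 t5 t6) (fun t7 l7 _ => Nat.rec (nat_lit 0) (fun t7 _ =>
    List.rec (o7 w m B t1 t2 t3 t4 t5 t6 t7) (fun t8 l8 _ => Nat.rec (nat_lit 0) (fun t8 _ =>
    List.rec (o8 w m B t1 t2 t3 t4 t5 t6 t7 t8) (fun _ _ _ => ord0 B (app w m l0)) l8) (Nat.add t8 (nat_lit 1))) l7) (Nat.add t7 (nat_lit 1))) l6) (Nat.add t6 (nat_lit 1))) l5) (Nat.add t5 (nat_lit 1))) l4) (Nat.add t4 (nat_lit 1))) l3) (Nat.add t3 (nat_lit 1))) l2) (Nat.add t2 (nat_lit 1))) l1) (Nat.add t1 (nat_lit 1))) l0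

set_option maxRecDepth 100000 in
theorem ordT_eq (w m : ℕ) (B l : List ℕ) : ordB B (app w m l) = ordT w m B l := by
  rw [ord0_eq]
  rcases l with _ | ⟨t1, _ | ⟨t2, _ | ⟨t3, _ | ⟨t4, _ | ⟨t5, _ | ⟨t6, _ | ⟨t7, _ | ⟨t8, _ | ⟨t9, _⟩⟩⟩⟩⟩⟩⟩⟩⟩ <;> rfl

/-- `nsC` on packed tables -/
noncomputable def nsF (w m : ℕ) (B : List ℕ) (WP : List (List ℕ × List ℕ)) (C : List ℕ) (id : ℕ) : Bool :=
  getK WP false (fun z => pr z fun u v => cmpT C u fun lu => cmpT C v fun lv =>
    cnd (eqB B (app w m lu) idf) false (frc (ordT w m B lu) fun a => frc (ordT w m B lv) fun b =>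
      cnd (Nat.beq (Nat.gcd a b) (nat_lit 1)) (frc (ordT w m B (cat lu lv)) fun c =>
        cnd (Nat.beq (Nat.gcd a c) (nat_lit 1)) (Nat.beq (Nat.gcd b c) (nat_lit 1)) false) false)) id

theorem nsF_eq (w m : ℕ) : nsC (plk w m) = nsF w m := by
  funext B WP C id
  unfold nsC nsF
  simp only [cmp_eq, app_cat, ordT_eq]

/-- a table by one loop -/
noncomputable def hor (w m n : ℕ) (f : ℕ → ℕ) : ℕ :=
  Nat.rec (nat_lit 0) (fun i ih => Nat.add ih (Nat.shiftLeft (Nat.land (f i) m) (Nat.mul w i))) n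

theorem hor_eq (w m n : ℕ) (f : ℕ → ℕ) : hor w m n f = ∑ i ∈ Finset.range n, (f i &&& m) * (2 ^ w) ^ i := by
  induction n with
  | zero => rfl
  | succ n ih =>
    rw [Finset.sum_range_succ, ← ih, ← pow_mul, ← Nat.shiftLeft_eq]
    rfl

theorem pack_eq (w m n : ℕ) (f : ℕ → ℕ) (d : ℕ) : ∀ lo, lo < n →
    pack w m n f d lo = ∑ i ∈ Finset.range (min (2 ^ d) (n - lo)), (f (lo + i) &&& m) * (2 ^ w) ^ i := by
  induction d with
  | zero =>
    intro lo h
    rw [show min (2 ^ 0) (n - lo) = 1 by omega, Finset.sum_range_one, pow_zero, mul_one]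
    rfl
  | succ d ih =>
    intro lo h
    rw [pack_succ, pow_succ 2 d]
    cases hc : Nat.ble n (lo + 2 ^ d)
    · have h1 : ¬ n ≤ lo + 2 ^ d := fun h2 => by rw [Nat.ble_eq_true_of_le h2] at hc; exact absurd hc (by decide)
      rw [cnd_false, ih lo h, ih _ (by omega), show min (2 ^ d) (n - lo) = 2 ^ d by omega,
        show min (2 ^ d * 2) (n - lo) = 2 ^ d + min (2 ^ d) (n - (lo + 2 ^ d)) by omega, Finset.sum_range_add,
        Finset.sum_mul]
      refine congrArg _ (Finset.sum_congr rfl fun i _ => ?_)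
      rw [pow_add, add_assoc, mul_assoc, mul_comm ((2 ^ w) ^ i)]
    · have h1 : n ≤ lo + 2 ^ d := Nat.le_of_ble_eq_true hc
      rw [cnd_true, ih lo h, show min (2 ^ d) (n - lo) = min (2 ^ d * 2) (n - lo) by omega]

theorem pmk_eq (w m n d : ℕ) (h0 : 0 < n) (h : n ≤ 2 ^ d) : pmk w m n d = hor w m n := by
  funext f
  rw [hor_eq]
  refine (pack_eq w m n f d 0 h0).trans ?_
  rw [show min (2 ^ d) (n - 0) = n by omega]
  exact Finset.sum_congr rfl fun i _ => by rw [zero_add]

/-- the digits of a word -/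
noncomputable def dg (c : ℕ) : List ℕ :=
  Nat.rec (motive := fun _ => ℕ → List ℕ) (fun _ => []) (fun _ ih c => Nat.rec [] (fun m _ =>
    Nat.land m (nat_lit 7) :: ih (Nat.shiftRight c (nat_lit 3))) c) (nat_lit 11) c

/-- a packed list of pairs of words -/
noncomputable def wl (n : ℕ) : ℕ → List (List ℕ × List ℕ) :=
  Nat.rec (fun _ => []) (fun _ ih x => (dg (Nat.land x (nat_lit 4294967295)),
    dg (Nat.land (Nat.shiftRight x (nat_lit 32)) (nat_lit 4294967295))) ::
      frc (Nat.shiftRight x (nat_lit 64)) ih) n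

end Fx82

/-- predecessor, in continuation style -/
noncomputable def pre {β : Type} (v : ℕ) (a : β) (k : ℕ → β) : β := Nat.rec a (fun m _ => k m) v

theorem pre_cases {β : Type} (v : ℕ) (a : β) (k : ℕ → β) : pre v a k = a ∨ ∃ m, v = m + 1 ∧ pre v a k = k m := by
  cases v
  exacts [Or.inl rfl, Or.inr ⟨_, rfl, rfl⟩]

/-- one node: either descend, or test `a :: C` -/
noncomputable def node (ns : List ℕ → ℕ → Bool) (rdf : ℕ → ℕ) (sub : ℕ → List ℕ → ℕ → ℕ) (j : ℕ) (C : List ℕ)
    (s : ℕ) : ℕ :=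
  pre (rdf s) (pre j (nat_lit 0) fun j' => sub j' C (Nat.succ s)) fun id => cnd (ns C id) (Nat.succ s) (nat_lit 0)

/-- a solvable subgroup containing `C` contains at most `j` members of `K` -/
noncomputable def tree (ns : List ℕ → ℕ → Bool) (rdf : ℕ → ℕ) (K : List ℕ) : ℕ → List ℕ → ℕ → ℕ :=
  List.rec (fun _ _ s => s) (fun a _ ih j C s => nz (node ns rdf ih j (a :: C) s) fun s' => ih j C s') K

/-- pop a point -/
noncomputable def top (ns : List ℕ → ℕ → Bool) (rdf : ℕ → ℕ) (j : ℕ) (C : List ℕ) (cnt : ℕ) : List ℕ → ℕ → ℕ :=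
  Nat.rec (fun _ s => s) (fun _ ih K s => pop K s fun a r =>
    nz (node ns rdf (tree ns rdf r) j (a :: C) s) fun s' => ih r s') cnt

/-- run `body` on all members of a list -/
noncomputable def each (body : ℕ → ℕ → ℕ) (V : List ℕ) : ℕ → ℕ :=
  List.rec (fun s => s) (fun v _ ih s => nz (body v s) ih) V

theorem each_spec {body : ℕ → ℕ → ℕ} {V : List ℕ} : ∀ {s}, each body V s ≠ 0 → ∀ v ∈ V, ∃ s, body v s ≠ 0 := by
  induction V with
  | nil => simp
  | cons a V ih =>
    intro s h v hv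
    obtain ⟨h1, h2⟩ := nz_ne (v := body a s) (k := each body V) h
    rcases List.mem_cons.1 hv with rfl | hv
    exacts [⟨s, h1⟩, ih h2 v hv]

/-- the statement at one position -/
def Node (Cg : List G) (j : ℕ) (a : G) (r : List G) : Prop :=
  ∀ S : Subgroup G, Group.IsSolvable S → (∀ c ∈ Cg, c ∈ S) → a ∈ S → r.countP (fun a => decide (a ∈ S)) + 1 ≤ j

theorem Few.cons {Cg r : List G} {j : ℕ} {a : G} (h1 : Node Cg j a r) (h2 : Few Cg r j) : Few Cg (a :: r) j := by
  intro S hS hC
  rw [List.countP_cons]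
  by_cases ha : a ∈ S
  · simpa [ha] using h1 S hS hC ha
  · simpa [ha] using h2 S hS hC

theorem few_of_nodes {Cg : List G} {j : ℕ} (lo : ℕ) : ∀ {Kg : List G},
    (∀ i < lo, ∀ a r, Kg.drop i = a :: r → Node Cg j a r) → Few Cg (Kg.drop lo) j → Few Cg Kg j := by
  induction lo with
  | zero => exact fun _ h => h
  | succ lo ih =>
    intro Kg h1 h2
    cases Kg with
    | nil => exact h2
    | cons a r => exact Few.cons (h1 0 (by omega) a r rfl) (ih (fun i hi => h1 (i + 1) (by omega)) h2)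

section spec

variable {M : PM G n} {lk : ℕ → ℕ → ℕ} {ns : List ℕ → ℕ → Bool}

theorem node_spec (hns : NsOk M lk ns) (rdf : ℕ → ℕ) {sub : ℕ → List ℕ → ℕ → ℕ} {r : List G}
    (hsub : ∀ j Cg C s, Rl M lk Cg C → sub j C s ≠ 0 → Few Cg r j) {j : ℕ} {a : G} {Cg : List G} {C : List ℕ}
    (hC : Rl M lk (a :: Cg) C) {s : ℕ} (h : node ns rdf sub j C s ≠ 0) : Node Cg j a r := by
  intro S hS hCS ha
  have hm : ∀ c ∈ a :: Cg, c ∈ S := fun c hc => by
    rcases List.mem_cons.1 hc with rfl | hc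
    exacts [ha, hCS c hc]
  unfold node at h
  rcases pre_cases (rdf s) (pre j (nat_lit 0) fun j' => sub j' C (Nat.succ s))
    (fun id => cnd (ns C id) (Nat.succ s) (nat_lit 0)) with h1 | ⟨id, -, h1⟩
  · rw [h1] at h
    rcases pre_cases j (nat_lit 0) (fun j' => sub j' C (Nat.succ s)) with h2 | ⟨j', rfl, h2⟩
    · exact absurd h2 h
    · rw [h2] at h
      exact Nat.succ_le_succ (hsub _ _ _ _ hC h S hS hm)
  · rw [h1] at h
    exact (hns _ _ _ hC (cnd_ne h).1 S hS hm).elim

theorem tree_spec (hns : NsOk M lk ns) (rdf : ℕ → ℕ) {Kg : List G} {K : List ℕ} (hK : Rl M lk Kg K) :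
    ∀ j Cg C s, Rl M lk Cg C → tree ns rdf K j C s ≠ 0 → Few Cg Kg j := by
  induction hK with
  | nil => exact fun _ _ _ _ _ _ _ _ _ => by simp
  | @cons a t Kg K h1 _ ih =>
    intro j Cg C s hC h
    obtain ⟨h2, h3⟩ := nz_ne (v := node ns rdf (tree ns rdf K) j (t :: C) s) (k := fun s' => tree ns rdf K j C s') h
    exact Few.cons (node_spec hns rdf ih (List.Forall₂.cons h1 hC) h2) (ih _ _ _ _ hC h3)

theorem top_spec (hns : NsOk M lk ns) (rdf : ℕ → ℕ) {j : ℕ} {Cg : List G} {C : List ℕ} (hC : Rl M lk Cg C) (cnt : ℕ) :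
    ∀ {Kg : List G} {K : List ℕ} (s : ℕ), Rl M lk Kg K → top ns rdf j C cnt K s ≠ 0 →
      ∀ i < cnt, ∀ a r, Kg.drop i = a :: r → Node Cg j a r := by
  induction cnt with
  | zero => simp
  | succ cnt ih =>
    intro Kg K s hK h i hi a r e
    cases hK with
    | nil => simp at e
    | @cons b t Kg K h1 h2 =>
      obtain ⟨h3, h4⟩ := nz_ne (v := node ns rdf (tree ns rdf K) j (t :: C) s) (k := fun s' => top ns rdf j C cnt K s') h
      cases i with
      | zero =>
        obtain ⟨rfl, rfl⟩ := List.cons.inj e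
        exact node_spec hns rdf (tree_spec hns rdf h2) (List.Forall₂.cons h1 hC) h3
      | succ i => exact ih _ h2 h4 i (by omega) a r e

end spec

/-! ### lists of conjugates -/

/-- conjugate `o` times -/
noncomputable def bloop (lk : ℕ → ℕ → ℕ) (mk : (ℕ → ℕ) → ℕ) (t ti : ℕ) (body : ℕ → List ℕ → (List ℕ → ℕ) → ℕ) (o : ℕ) :
    ℕ → List ℕ → (List ℕ → ℕ) → ℕ :=
  Nat.rec (fun _ acc k => k acc) (fun _ ih y acc k =>
    frc (mk fun q => lk t (lk y (lk ti q))) fun y' => body y' acc fun acc' => ih y' acc' k) o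

/-- the conjugates by all normal forms -/
noncomputable def build (lk : ℕ → ℕ → ℕ) (mk : (ℕ → ℕ) → ℕ) (gs : List (ℕ × ℕ × ℕ)) :
    ℕ → List ℕ → (List ℕ → ℕ) → ℕ :=
  List.rec (fun y acc k => k (y :: acc)) (fun g _ ih y acc k => pr3 g fun o t ti =>
    ih y acc fun acc' => bloop lk mk t ti ih (Nat.pred o) y acc' k) gs

/-- the conjugates by all normal forms except the first -/
noncomputable def buildT (lk : ℕ → ℕ → ℕ) (mk : (ℕ → ℕ) → ℕ) (gs : List (ℕ × ℕ × ℕ)) :
    ℕ → List ℕ → (List ℕ → ℕ) → ℕ :=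
  List.rec (fun _ acc k => k acc) (fun g r ih y acc k => pr3 g fun o t ti =>
    ih y acc fun acc' => bloop lk mk t ti (build lk mk r) (Nat.pred o) y acc' k) gs

/-- tables and inverse tables of a sequence -/
def GsInv (M : PM G n) (lk : ℕ → ℕ → ℕ) (gs : List (ℕ × ℕ × ℕ)) : Prop :=
  ∀ g ∈ gs, M.Rf (M.el lk g.2.1) (lk g.2.1) ∧ M.Rf (M.el lk g.2.1)⁻¹ (lk g.2.2)

section bspec

variable {M : PM G n} {lk : ℕ → ℕ → ℕ} {mk : (ℕ → ℕ) → ℕ} {ver : (ℕ → ℕ) → ℕ → (ℕ → ℕ) → Bool}

/-- the specification of a building function -/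
def BSpec (M : PM G n) (lk : ℕ → ℕ → ℕ) (c : G) (body : ℕ → List ℕ → (List ℕ → ℕ) → ℕ) (P : G → G → Prop) : Prop :=
  ∀ (y : G) (t : ℕ) (Ys : List G) (acc : List ℕ), M.Rf (y * c * y⁻¹) (lk t) → Rl M lk (Ys.map fun y => y * c * y⁻¹) acc →
    ∃ (Ys' : List G) (L : List ℕ), Rl M lk (Ys'.map fun y => y * c * y⁻¹) L ∧ (∀ z ∈ Ys, z ∈ Ys') ∧
      (∀ z, P y z → z ∈ Ys') ∧ ∀ k, body t acc k = k L

theorem bloop_spec (hT : M.Tab lk mk ver) {c x : G} {t ti : ℕ} (h1 : M.Rf x (lk t)) (h2 : M.Rf x⁻¹ (lk ti))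
    {body : ℕ → List ℕ → (List ℕ → ℕ) → ℕ} {P : G → G → Prop} (hb : BSpec M lk c body P) (o : ℕ) :
    BSpec M lk c (bloop lk mk t ti body o) fun y z => ∃ e < o, P (x ^ (e + 1) * y) z := by
  induction o with
  | zero => exact fun y u Ys acc _ h => ⟨Ys, acc, h, fun _ h => h, by simp, fun _ => rfl⟩
  | succ o ih =>
    intro y u Ys acc hu h
    have h3 : M.Rf (x * y * c * (x * y)⁻¹) (lk (mk fun q => lk t (lk u (lk ti q)))) := by
      refine hT.mk_spec _ _ ?_
      rw [show x * y * c * (x * y)⁻¹ = x * (y * c * y⁻¹ * x⁻¹) by group]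
      exact h1.mul (hu.mul h2)
    obtain ⟨Y1, L1, a1, a2, a3, a4⟩ := hb _ _ Ys acc h3 h
    obtain ⟨Y2, L2, b1, b2, b3, b4⟩ := ih _ _ Y1 L1 h3 a1
    refine ⟨Y2, L2, b1, fun z hz => b2 z (a2 z hz), ?_, fun k => ?_⟩
    · rintro z ⟨e, he, hz⟩
      cases e with
      | zero => exact b2 z (a3 z (by simpa using hz))
      | succ e => exact b3 z ⟨e, by omega, by rwa [← mul_assoc, ← pow_succ]⟩
    · have e : bloop lk mk t ti body (o + 1) u acc k = frc (mk fun q => lk t (lk u (lk ti q))) fun y' =>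
        body y' acc fun acc' => bloop lk mk t ti body o y' acc' k := rfl
      rw [e, frc_eq, a4, b4]

theorem build_spec (hT : M.Tab lk mk ver) (c : G) {gs : List (ℕ × ℕ × ℕ)} (h : GsInv M lk gs) :
    BSpec M lk c (build lk mk gs) fun y z => ∃ m, NF M lk gs m ∧ z = m * y := by
  induction gs with
  | nil =>
    refine fun y u Ys acc hu h => ⟨y :: Ys, u :: acc, List.Forall₂.cons hu h, fun _ h => List.mem_cons_of_mem _ h, ?_,
      fun _ => rfl⟩
    rintro _ ⟨_, rfl, rfl⟩
    simp
  | cons g gs ih =>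
    obtain ⟨o, t, ti⟩ := g
    have ih' := ih fun a ha => h a (List.mem_cons_of_mem _ ha)
    obtain ⟨h1, h2⟩ := h _ List.mem_cons_self
    intro y u Ys acc hu hacc
    obtain ⟨Y1, L1, a1, a2, a3, a4⟩ := ih' y u Ys acc hu hacc
    obtain ⟨Y2, L2, b1, b2, b3, b4⟩ := bloop_spec hT h1 h2 ih' (o - 1) y u Y1 L1 hu a1
    refine ⟨Y2, L2, b1, fun z hz => b2 z (a2 z hz), ?_, fun k => (a4 _).trans (b4 k)⟩
    rintro _ ⟨_, ⟨e, he, m, hm, rfl⟩, rfl⟩
    cases e with
    | zero => exact b2 _ (a3 _ ⟨m, hm, by simp⟩)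
    | succ e => exact b3 _ ⟨e, by dsimp only at he; omega, m, hm, mul_assoc _ _ _⟩

theorem buildT_spec (hT : M.Tab lk mk ver) (c : G) {gs : List (ℕ × ℕ × ℕ)} (h : GsInv M lk gs) :
    BSpec M lk c (buildT lk mk gs) fun y z => ∃ m, m ≠ 1 ∧ NF M lk gs m ∧ z = m * y := by
  induction gs with
  | nil =>
    refine fun y u Ys acc hu h => ⟨Ys, acc, h, fun _ h => h, ?_, fun _ => rfl⟩
    rintro _ ⟨_, h1, rfl, rfl⟩
    exact absurd rfl h1
  | cons g gs ih =>
    obtain ⟨o, t, ti⟩ := g
    have h' : GsInv M lk gs := fun a ha => h a (List.mem_cons_of_mem _ ha)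
    obtain ⟨h1, h2⟩ := h _ List.mem_cons_self
    intro y u Ys acc hu hacc
    obtain ⟨Y1, L1, a1, a2, a3, a4⟩ := ih h' y u Ys acc hu hacc
    obtain ⟨Y2, L2, b1, b2, b3, b4⟩ := bloop_spec hT h1 h2 (build_spec hT c h') (o - 1) y u Y1 L1 hu a1
    refine ⟨Y2, L2, b1, fun z hz => b2 z (a2 z hz), ?_, fun k => (a4 _).trans (b4 k)⟩
    rintro _ ⟨_, h0, ⟨e, he, m, hm, rfl⟩, rfl⟩
    cases e with
    | zero => exact b2 _ (a3 _ ⟨m, by simpa using h0, hm, by simp⟩)
    | succ e => exact b3 _ ⟨e, by dsimp only at he; omega, m, hm, mul_assoc _ _ _⟩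

theorem buildT_one (hT : M.Tab lk mk ver) {c : G} {x : ℕ} (hx : M.Rf c (lk x)) {gs : List (ℕ × ℕ × ℕ)}
    (h : GsInv M lk gs) : ∃ (Ys : List G) (L : List ℕ), Rl M lk (Ys.map fun y => y * c * y⁻¹) L ∧
      (∀ m, NF M lk gs m → m = 1 ∨ m ∈ Ys) ∧ ∀ k, buildT lk mk gs x [] k = k L := by
  obtain ⟨Ys, L, h1, -, h2, h3⟩ := buildT_spec hT c h 1 x [] [] (by simpa using hx) List.Forall₂.nil
  refine ⟨Ys, L, h1, fun m hm => ?_, h3⟩
  by_cases h4 : m = 1
  exacts [Or.inl h4, Or.inr (h2 m ⟨m, h4, hm, (mul_one m).symm⟩)]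

end bspec

/-! ### the density theorems -/

/-- the numbers below `m` are covered by intervals with property `P` -/
def Upto (P : ℕ → ℕ → Prop) (m : ℕ) : Prop := ∀ i < m, ∃ lo cnt, lo ≤ i ∧ i < lo + cnt ∧ P lo cnt

theorem Upto.zero {P : ℕ → ℕ → Prop} : Upto P 0 := fun _ h => absurd h (by simp)

/-- a piece of the check with symmetry -/
noncomputable def chkS (lk : ℕ → ℕ → ℕ) (mk : (ℕ → ℕ) → ℕ) (ns : List ℕ → ℕ → Bool) (gs : List (ℕ × ℕ × ℕ)) (x j : ℕ)
    (lo cnt : ℕ) (rdf : ℕ → ℕ) : Bool :=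
  Nat.blt (nat_lit 0) (buildT lk mk gs x [] fun K => top ns rdf j [x] cnt (K.drop lo) (nat_lit 1))

/-- the last piece of the check with symmetry -/
noncomputable def chkS' (lk : ℕ → ℕ → ℕ) (mk : (ℕ → ℕ) → ℕ) (ns : List ℕ → ℕ → Bool) (gs : List (ℕ × ℕ × ℕ)) (x j : ℕ)
    (lo : ℕ) (rdf : ℕ → ℕ) : Bool :=
  Nat.blt (nat_lit 0) (buildT lk mk gs x [] fun K => tree ns rdf (K.drop lo) j [x] (nat_lit 1))

/-- a piece of the check of pairs -/
noncomputable def chkP (lk : ℕ → ℕ → ℕ) (mk : (ℕ → ℕ) → ℕ) (ns : List ℕ → ℕ → Bool) (A R : List (ℕ × ℕ × ℕ)) (x : ℕ)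
    (lo cnt : ℕ) (rdf : ℕ → ℕ) : Bool :=
  Nat.blt (nat_lit 0) (buildT lk mk A x [] fun U => buildT lk mk R x [] fun V =>
    each (fun v s => tree ns rdf (x :: U) (nat_lit 0) [v] s) ((V.drop lo).take cnt) (nat_lit 1))

/-- the last piece of the check of pairs -/
noncomputable def chkP' (lk : ℕ → ℕ → ℕ) (mk : (ℕ → ℕ) → ℕ) (ns : List ℕ → ℕ → Bool) (A R : List (ℕ × ℕ × ℕ)) (x : ℕ)
    (lo : ℕ) (rdf : ℕ → ℕ) : Bool :=
  Nat.blt (nat_lit 0) (buildT lk mk A x [] fun U => buildT lk mk R x [] fun V =>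
    nz (tree ns rdf U (nat_lit 0) [x] (nat_lit 1))
      (each (fun v s => tree ns rdf (x :: U) (nat_lit 0) [v] s) (V.drop lo)))

section dens

variable [Finite G] {M : PM G n} {lk : ℕ → ℕ → ℕ} {mk : (ℕ → ℕ) → ℕ} {ver : (ℕ → ℕ) → ℕ → (ℕ → ℕ) → Bool}
  {ns : List ℕ → ℕ → Bool}

theorem dn_of_chkS (hT : M.Tab lk mk ver) (hns : NsOk M lk ns) {gs : List (ℕ × ℕ × ℕ)} (hi : GsInv M lk gs)
    (hpc : PCok M lk gs) {k : ℕ} (hk : k ≤ Nat.card (Mg M lk gs)) {x : ℕ} (hx : M.In lk x) {j lo : ℕ}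
    (h1 : Upto (fun lo cnt => ∃ rdf, chkS lk mk ns gs x j lo cnt rdf = true) lo) {rdf : ℕ → ℕ}
    (h2 : chkS' lk mk ns gs x j lo rdf = true) : Dn (M.el lk x) (j + 1) k := by
  obtain ⟨Ys, L, a1, a2, a3⟩ := buildT_one hT hx.rf hi
  have hC : Rl M lk [M.el lk x] [x] := List.Forall₂.cons hx.rf List.Forall₂.nil
  refine (dn_of_sym (Ys := Ys) (fun y hy => a2 y (hpc.nf y hy)) (few_of_nodes lo (fun i hi a r e => ?_) ?_)).mono hk
  · obtain ⟨l, cnt, b1, b2, rdf', b3⟩ := h1 i hi
    have b4 := ne_of_blt b3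
    rw [a3] at b4
    refine top_spec hns rdf' hC cnt _ (List.forall₂_drop l a1) b4 (i - l) (by omega) a r ?_
    rw [List.drop_drop, show l + (i - l) = i by omega, e]
  · have b4 := ne_of_blt h2
    rw [a3] at b4
    exact tree_spec hns rdf (List.forall₂_drop lo a1) j _ _ _ hC b4

theorem dn_of_chkP (hT : M.Tab lk mk ver) (hns : NsOk M lk ns) {A R gs : List (ℕ × ℕ × ℕ)} (hAR : A ++ R = gs)
    (hi : GsInv M lk gs) (hpc : PCok M lk gs) {k : ℕ} (hk : k ≤ Nat.card (Mg M lk gs)) {x : ℕ} (hx : M.In lk x)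
    {lo : ℕ} (h1 : Upto (fun lo cnt => ∃ rdf, chkP lk mk ns A R x lo cnt rdf = true) lo) {rdf : ℕ → ℕ}
    (h2 : chkP' lk mk ns A R x lo rdf = true) : Dn (M.el lk x) 1 k := by
  subst hAR
  set c := M.el lk x with hc
  obtain ⟨Us, U, a1, a2, a3⟩ := buildT_one hT hx.rf (gs := A) fun g hg => hi g (List.mem_append_left _ hg)
  obtain ⟨Vs, V, b1, b2, b3⟩ := buildT_one hT hx.rf (gs := R) fun g hg => hi g (List.mem_append_right _ hg)
  have c1 := ne_of_blt h2
  rw [a3, b3] at c1
  obtain ⟨c2, c3⟩ := nz_ne c1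
  have hU : Rl M lk (c :: Us.map fun y => y * c * y⁻¹) (x :: U) := List.Forall₂.cons hx.rf a1
  have hV : ∀ v ∈ V, ∃ rdf s, tree ns rdf (x :: U) (nat_lit 0) [v] s ≠ 0 := by
    intro v hv
    obtain ⟨i, hi', rfl⟩ := List.getElem_of_mem hv
    by_cases h3 : i < lo
    · obtain ⟨l, cnt, d1, d2, rdf', d3⟩ := h1 i h3
      have d4 := ne_of_blt d3
      rw [a3, b3] at d4
      refine ⟨rdf', each_spec d4 _ ?_⟩
      rw [List.mem_iff_getElem]
      refine ⟨i - l, by simp; omega, ?_⟩
      simp [show l + (i - l) = i by omega]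
    · refine ⟨rdf, each_spec c3 _ ?_⟩
      rw [List.mem_iff_getElem]
      refine ⟨i - lo, by simp; omega, ?_⟩
      simp [show lo + (i - lo) = i by omega]
  refine (dn_of_pairs (Y := Mg M lk (A ++ R)) fun y hy hy1 S hS h3 h4 => ?_).mono hk
  obtain ⟨m, d, e1, -, e2, rfl⟩ := (hpc.nf y hy).append
  set u := evc M lk A d with hu
  have hmR : m ∈ Mg M lk R := by
    obtain ⟨m', d', f0, -, -, f⟩ := NF.append (A := R) (B := []) (by rwa [List.append_nil])
    obtain rfl : m' = 1 := f0
    rw [f, one_mul]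
    exact evc_mem R d'
  have g1 : m⁻¹ * c * m⁻¹⁻¹ ∈ cj S m⁻¹ := mem_cj.2 (by simpa [mul_assoc] using h3)
  have g2 : u * c * u⁻¹ ∈ cj S m⁻¹ := mem_cj.2 (by simpa [mul_assoc] using h4)
  have hS2 := cj_solvable hS m⁻¹
  have hcount : ∀ {L : List G} {a : G}, a ∈ L → a ∈ cj S m⁻¹ → ¬ L.countP (fun a => decide (a ∈ cj S m⁻¹)) ≤ 0 := by
    intro L a ha ha' h5
    exact (List.countP_eq_zero.1 (Nat.le_zero.1 h5) a ha) (by simpa using ha')
  rcases b2 m⁻¹ (hpc.right.nf _ (inv_mem hmR)) with h5 | h5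
  · have h6 : m = 1 := inv_eq_one.1 h5
    rcases a2 u e2 with h7 | h7
    · exact hy1 (by rw [h6, h7, one_mul])
    · refine hcount (List.mem_map_of_mem h7) g2 (tree_spec hns rdf a1 _ [c] [x] _
        (List.Forall₂.cons hx.rf List.Forall₂.nil) c2 _ hS2 ?_)
      simpa [h6, mem_cj] using h3
  · obtain ⟨v, hv, h6⟩ := b1.mem' _ (List.mem_map_of_mem h5)
    obtain ⟨rdf', s, h7⟩ := hV v hv
    refine hcount (L := c :: Us.map fun y => y * c * y⁻¹) ?_ g2 (tree_spec hns rdf' hU _ [_] [v] _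
      (List.Forall₂.cons h6 List.Forall₂.nil) h7 _ hS2 (by simpa using g1))
    rcases a2 u e2 with h8 | h8
    · simp [h8]
    · exact List.mem_cons_of_mem _ (List.mem_map_of_mem h8)

theorem dn_of_cov {p k : ℕ} {reps : List ℕ} (hc : Cov M lk p reps)
    (h : ∀ t ∈ reps, (orderOf (M.el lk t)).Prime ∧ Dn (M.el lk t) 1 k) {c : G} (ho : orderOf c = p) : Dn c 1 k := by
  obtain ⟨t, ht, h1⟩ := hc c ho
  exact (h t ht).2.of_cl (h t ht).1 h1

end dens

end Cfsg.Agent.SB.Spor
end

-- part: SB/Spor/Glue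
section
/-!
# S5765, sporadic rows: glue for the generated files (helper63)
-/

set_option autoImplicit false

namespace Cfsg.Agent.SB.Spor

open Subgroup Cfsg
open scoped Classical

theorem fa_nil {α : Type*} {P : α → Prop} : ∀ a ∈ ([] : List α), P a := fun _ h => absurd h (by simp)

theorem fa_cons {α : Type*} {P : α → Prop} {a : α} {L : List α} (h : P a) (h' : ∀ b ∈ L, P b) : ∀ b ∈ a :: L, P b :=
  List.forall_mem_cons.2 ⟨h, h'⟩

theorem ex_lt {P : ℕ → Prop} {a : ℕ} (h : ∀ c ∈ List.range a, P c) : ∀ c < a, P c :=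
  fun c hc => h c (List.mem_range.2 hc)

theorem prime_mem {N p : ℕ} {F : List (ℕ × ℕ)} (hF : N = (F.map fun q => q.1 ^ q.2).prod) (hp : ∀ q ∈ F, q.1.Prime)
    (h : p.Prime) (hd : p ∣ N) : ∃ q ∈ F, q.1 = p := by
  rw [hF, h.prime.dvd_prod_iff] at hd
  obtain ⟨_, h1, h2⟩ := hd
  obtain ⟨q, hq, rfl⟩ := List.mem_map.1 h1
  exact ⟨q, hq, ((Nat.prime_dvd_prime_iff_eq h (hp q hq)).1 (h.dvd_of_dvd_pow h2)).symm⟩

variable {G : Type*} [Group G] {n : ℕ} {M : PM G n} {lk : ℕ → ℕ → ℕ}

/-- the classes of elements of order `q.1` have representatives with property `P` -/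
def PCov (M : PM G n) (lk : ℕ → ℕ → ℕ) (P : ℕ → Prop) (q : ℕ × ℕ) : Prop :=
  q.1.Prime ∧ ∃ L, Cov M lk q.1 L ∧ ∀ t ∈ L, P t

theorem pcov {P : ℕ → Prop} {p e : ℕ} {L : List ℕ} (hp : p.Prime) (h : Cov M lk p L) (h' : ∀ t ∈ L, P t) :
    PCov M lk P (p, e) := ⟨hp, L, h, h'⟩

theorem sheet_of [Finite G] {N kb : ℕ} (hN : Nat.card G = N) {F : List (ℕ × ℕ)}
    (hF : N = (F.map fun q => q.1 ^ q.2).prod) {rs : List Rc} {reps : List ℕ}
    (hok : List.Forall₂ (fun r t => Rc.Ok r (M.el lk t)) rs reps) (hc : ∀ q ∈ F, PCov M lk (· ∈ reps) q) :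
    Sheet G kb rs := by
  refine ⟨reps.map (M.el lk), List.forall₂_map_right_iff.2 hok, fun c hp => Or.inr ?_⟩
  obtain ⟨q, hq, h1⟩ := prime_mem hF (fun q hq => (hc q hq).1) hp (hN ▸ orderOf_dvd_natCard c)
  obtain ⟨-, L, h2, h3⟩ := hc q hq
  obtain ⟨t, ht, h4⟩ := h2 c h1.symm
  exact ⟨_, List.mem_map_of_mem (h3 t ht), h4⟩

theorem big_of [Finite G] {b N₀ : ℕ} {F : List (ℕ × ℕ)} (hF : b = (F.map fun q => q.1 ^ q.2).prod)
    (hc : ∀ q ∈ F, PCov M lk (fun t => (orderOf (M.el lk t)).Prime ∧ Dn (M.el lk t) 1 N₀) q) :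
    ∀ c : G, (orderOf c).Prime → orderOf c ∣ b → Dn c 1 N₀ := by
  intro c hp hd
  obtain ⟨q, hq, h1⟩ := prime_mem hF (fun q hq => (hc q hq).1) hp hd
  obtain ⟨-, L, h2, h3⟩ := hc q hq
  exact dn_of_cov h2 h3 h1.symm

theorem Rc.Ok.big {r : Rc} {x : G} (h : r.Ok x) {N₀ : ℕ} (h1 : 0 < r.j) (h2 : r.j * N₀ ≤ r.k) :
    (orderOf x).Prime ∧ Dn x 1 N₀ := ⟨h.ord ▸ h.prime, h.dn.one h1 h2⟩

theorem rc_ok {B : List ℕ} (hB : M.Base B) {x p j k ν : ℕ} (hx : M.In lk x) (hp : p.Prime)
    (c : ordChk lk B x p = true) (hd : Dn (M.el lk x) j k) (h : 2 * j ≤ k ∧ 0 < k ∧ 0 < ν)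
    (hn : ν ≤ Nat.card (normalizer (zpowers (M.el lk x) : Set G))) : Rc.Ok ⟨p, j, k, ν⟩ (M.el lk x) :=
  ⟨ordChk_spec hB hx hp c, hp, hd, h.1, h.2.1, h.2.2, hn⟩

/-- a verified polycyclic sequence generating a group of order at least `m` -/
structure PcG (M : PM G n) (lk : ℕ → ℕ → ℕ) (gs : List (ℕ × ℕ × ℕ)) (m : ℕ) : Prop where
  gin : GsIn M lk gs
  inv : GsInv M lk gs
  pc : PCok M lk gs
  card : m ≤ Nat.card (Mg M lk gs)

theorem PcG.right [Finite G] {A R gs : List (ℕ × ℕ × ℕ)} {m k : ℕ} (h : PcG M lk gs m) (e : A ++ R = gs)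
    (hk : prodO A * k ≤ m ∧ 0 < prodO A) : PcG M lk R k := by
  subst e
  exact ⟨fun g hg => h.gin g (List.mem_append_right _ hg), fun g hg => h.inv g (List.mem_append_right _ hg),
    h.pc.right, h.pc.card_right h.card hk.1 hk.2⟩

theorem pcg_of [Finite G] {B : List ℕ} (hB : M.Base B) {gs : List (ℕ × ℕ × ℕ)}
    (hin : ∀ g ∈ gs, M.In lk g.2.1 ∧ M.In lk g.2.2) (c1 : invChk lk B (gs.map Prod.snd) = true) {rdf : ℕ → ℕ}
    (c2 : Nat.blt (nat_lit 0) (pcChk lk B rdf gs (nat_lit 1)) = true) {E : List ℕ} (hE : gs.map (fun g => g.2.1) = E)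
    {levels : List (ℕ × List ℕ)} {m : ℕ} (c3 : Nat.ble m (chain lk E n (fun _ => true) levels []) = true) :
    PcG M lk gs m := by
  have h1 : GsIn M lk gs := fun g hg => (hin g hg).1
  refine ⟨h1, fun g hg => invChk_spec hB (fun t ht => ?_) c1 g.2 (List.mem_map_of_mem hg), pc_of_chk hB h1 c2,
    Mg_ge h1 hE c3⟩
  obtain ⟨a, ha, rfl⟩ := List.mem_map.1 ht
  exact hin a ha

theorem PcG.cov [Finite G] {B : List ℕ} (hB : M.Base B) {A R gs : List (ℕ × ℕ × ℕ)} {p m d N a : ℕ}
    (h : PcG M lk gs m) (hAR : A ++ R = gs) (hp : p.Prime) (hN : Nat.card G = N)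
    (hn : prodO gs = m ∧ N = m * d ∧ ¬ p ∣ d ∧ prodO A = a) {E reps cls : List ℕ} (hE : AllIn M lk E)
    (hr : AllIn M lk reps) {fz : List (ℕ × ℕ × ℕ × ℕ)} (hf : fuse lk B E gs reps fz = true) (hz : fz.map Prod.fst = cls)
    (hc : ∀ c ∈ List.range a, ∃ rdf, covChk lk B p A R gs cls rdf c = true) : Cov M lk p reps :=
  cov_of_chk hB hAR h.gin h.pc hp h.card hn.1 (hN.trans hn.2.1) hn.2.2.1 (hz ▸ fuse_spec hB hE h.gin hr hf) hn.2.2.2
    (ex_lt hc)

theorem PcG.dnS [Finite G] {mk : (ℕ → ℕ) → ℕ} {ver : (ℕ → ℕ) → ℕ → (ℕ → ℕ) → Bool} {ns : List ℕ → ℕ → Bool}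
    {gs : List (ℕ × ℕ × ℕ)} {k : ℕ} (h : PcG M lk gs k) (hT : M.Tab lk mk ver) (hns : NsOk M lk ns) {x : ℕ}
    (hx : M.In lk x) {j lo : ℕ} (h1 : Upto (fun lo cnt => ∃ rdf, chkS lk mk ns gs x j lo cnt rdf = true) lo)
    {rdf : ℕ → ℕ} (h2 : chkS' lk mk ns gs x j lo rdf = true) : Dn (M.el lk x) (j + 1) k :=
  dn_of_chkS hT hns h.inv h.pc h.card hx h1 h2

theorem PcG.dnP [Finite G] {mk : (ℕ → ℕ) → ℕ} {ver : (ℕ → ℕ) → ℕ → (ℕ → ℕ) → Bool} {ns : List ℕ → ℕ → Bool}
    {A R gs : List (ℕ × ℕ × ℕ)} {k : ℕ} (h : PcG M lk gs k) (hAR : A ++ R = gs) (hT : M.Tab lk mk ver)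
    (hns : NsOk M lk ns) {x : ℕ} (hx : M.In lk x) {lo : ℕ}
    (h1 : Upto (fun lo cnt => ∃ rdf, chkP lk mk ns A R x lo cnt rdf = true) lo) {rdf : ℕ → ℕ}
    (h2 : chkP' lk mk ns A R x lo rdf = true) : Dn (M.el lk x) 1 k :=
  dn_of_chkP hT hns hAR h.inv h.pc h.card hx h1 h2

end Cfsg.Agent.SB.Spor
end

-- part: SB/Spor/Anc
section
/-!
# S5765, sporadic rows: densities relative to an anchor (helper63)

For small classes: fix `x ∈ S` and bound the density of `S` on every orbit of `N(⟨x⟩)` on the class of `x`.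
-/

set_option autoImplicit false

namespace Cfsg.Agent.SB.Spor

open Subgroup Cfsg
open scoped Classical

variable {G : Type*} [Group G]

/-- the normaliser of `⟨x⟩` -/
abbrev Nx (x : G) : Subgroup G := normalizer (zpowers x : Set G)

/-- numerical data of a double coset: number of chosen elements, lower bound for the stabiliser, excess -/
structure Ra where
  k : ℕ
  σ : ℕ
  e : ℕ

/-- the double coset of `γ` and the list `Ks` have the data `r` -/
structure Ra.Ok (x : G) (ν N L : ℕ) (r : Ra) (γ : G) (Ks : List G) : Prop where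
  pos : 0 < r.σ
  stab : r.σ ≤ Nat.card ↥(Nx x ⊓ Nx (γ⁻¹ * x * γ))
  len : r.k ≤ Ks.length
  mem : ∀ a ∈ Ks, ∃ h ∈ Nx x, a = h * (γ⁻¹ * x * γ) * h⁻¹
  num : ν * ν * L ≤ r.σ * (r.k * N + r.e * L)

end Cfsg.Agent.SB.Spor
end

-- part: SB/Spor/Anchor
section
/-!
# S5765, sporadic rows: the certificate engine, part 4 (helper63)

Orbits of `N(⟨x⟩)` on the class of `x`, upper bound for the centraliser, densities relative to `x`.
-/

set_option autoImplicit false

namespace Cfsg.Agent.SB.Spor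

open Subgroup Cfsg
open scoped Classical

variable {G : Type*} [Group G] {n : ℕ} {M : PM G n} {lk : ℕ → ℕ → ℕ}

/-! ### tables in a subgroup -/

/-- all tables describe elements of `L` -/
def SubIn (M : PM G n) (lk : ℕ → ℕ → ℕ) (L : Subgroup G) (E : List ℕ) : Prop := ∀ t ∈ E, ∃ g ∈ L, M.Rf g (lk t)

theorem SubIn.all {L : Subgroup G} {E : List ℕ} (h : SubIn M lk L E) : AllIn M lk E := fun t ht =>
  let ⟨g, _, h1⟩ := h t ht; ⟨g, h1⟩

/-! ### the orbits on the class -/

/-- `f` normalises `⟨x⟩` and `⟨b⟩` -/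
noncomputable def okS (lk : ℕ → ℕ → ℕ) (B : List ℕ) (x p b : ℕ) (f : ℕ → ℕ) : Bool :=
  cnd (okN lk B x p f) (okN lk B b p f) false

end Cfsg.Agent.SB.Spor
end

-- part: SB/SporF/Co3/Data
section
/-! S5765, row of Co3: data (generated by notes/SB/spor_tools, helper63) -/

set_option autoImplicit false

namespace Cfsg.Agent.SB.SporF.Co3

open Cfsg.Agent.SB Cfsg.Agent.SB.Spor

noncomputable def lk (t i : ℕ) : ℕ := Nat.land (Nat.shiftRight t (Nat.mul (nat_lit 9) i)) (nat_lit 511)

noncomputable def mk : (ℕ → ℕ) → ℕ := pmk (nat_lit 9) (nat_lit 511) (nat_lit 276) (nat_lit 9)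

noncomputable def ver : (ℕ → ℕ) → ℕ → (ℕ → ℕ) → Bool := pver (nat_lit 9) (nat_lit 511) (nat_lit 276)

noncomputable def t0 : ℕ :=
  nat_lit 0x8139124fb633c4df0d27c05b30866acd9ebc5b3fa24cb6c3956aae6fa1220f570bc9ecea763e18a796a9fd04f73e351d6836ba86270a469c9e6a37cc3164b47fb760e907d245d07d82a14aa676734e1269819521cb161b2192a873138e6c036949e11168185c04223c020cfc7eac21eda57b715a434fa88890b47298a26b4c3298ec25ba5126174d348c0b9372ed12ba68c112edb44305c4391c0d9168a232f536e777bb8d87a76ba5e87e3a9a10c48178b8ec2a53b8c6a706f3599877561257e4c4b280a6271284d3c8c1b890ba5c2d8c4b24d2b18d3aaa2f1a9523d62198c8801e1297c3255ae076a55221c4c190c058803f4e08932951d23ce833310b4b40d409ecf02b181c452062c0f8ae650d17c24110803c3a0e0506ca04b2290428281a084401f0f070580c0588c0a04018541208038080001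

noncomputable def t1 : ℕ :=
  nat_lit 0x4c2861e6f8213df31064b0dc50871a18aac85ba8d8eab5fb81e06a86b41bcd4413d1d4f83f9f617066b385d8ee3b3c85c974b40572e684c1ddb13863ec86be36a911a6933ba0dcf64e985a6e768a4ce4ff23a2989117224950f18909516c0483f166c66ba6a04458027d7a493cab1786b381495ada81a3ca10e4aa9880b2728da145765a159eb84a27874fe77be982d282ac5aacc650e19a5f53aa91ca24e3f574bb48bccc84b7b9edea75758616a5e2c1f9d23444b64c4af6fa0db04d6eb71b63f42158f077501d136374c8c8b64a2e87c3a81273099c8816ad07aa56298c5e3c341715c535b0ed0e195805c2aa9400a0887a2123044731c950667115194201b139f048230504c524136018cc4818180421e2d080b207160aca24c230507c261a8481e310880c340c0583412080e0580a04070080200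

noncomputable def t2 : ℕ :=
  nat_lit 0x43339f2b286c0990ac5ac15a3084eb8224fb45314e48f1b3c1309a88a5e08827a1fcf8f36a3a57b13681f9d67b770b9ea966b3661c8d69b3cecfd6d43d78855b4418ecb613e8aef7712960ee871c29cc546daacf2de6690dcab349a107ec05127992b012af9508c65361885185b7cd692579115a6f552dda4a325a99370c27b30aa91369aa125f54b71710673bbd004050b749c8881992028734400eeff4cbf9f86631bd9128b7c3b4eaf2708bde2621c3b1d45e2c390ca70522808e7a632e93e952b35ce8736a8c8a041229c4401f0f128388e41aed86bf050f55c945c9b8786c60968320d3485874b4588987261539809227032707c81142403678180d06213261f456332408c24220c118ce1a1a854425d2e16c0e591514ca44d0a1086e3b160a42210078385a050209012080e85c180b018000202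

noncomputable def t3 : ℕ :=
  nat_lit 0x81ba1eae785b5168fc643bd5508652953cf27f32d071370c01526f42441aebc6da4a090e6c445d43289204eeff27324cd0a6f9cd6cd5389d120b87d2b8990c79a00a8f77da5602c54a264746a30ae9445872c24fac4472a1e90f53ba5864a323405af624c1484984e408a2de221a09e7a57c34b63e22c1e0cb150965fa412336582eb0bb38beab46181368745af92ecf113e070ec1a39854d26b1892213701e072f9721b1dab217a81e2c21637490f0770c01ae3638d5c4296e2249a7f0b2584eda291f080cc0da3da68568940ba5c569694cbf118286ecd1eaed6665631f8d2b00ab00cebd1dae56eb51328d585e1429048064fa75346e498cd1a8a44218627b410acf2763a9c8e04b369ac3419319544209040783a1c2b958a6142390c7e3c1b0480a04078385c0c05894401f008602210000080e03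

noncomputable def t4 : ℕ :=
  nat_lit 0x71b25bcc67cb92229261bc530c070344f30d4d9ca1cd25a3893ad8879cd90f77b3cdd8827c38624d340ba8faf2173b4f6774713d1ac57f44deb0958c1158db7e10d46dc539605e7f4340dfa38782f572494d10214fb5437e02a1620fdaf08291a60b0c4aa7db25e30a14aa90499ae20a457bfd5ab04a14114e6422991edd6686616184f11e0c32802d8e30732224ceb75a9bc4eae54bea04745da95a05132b3d96c136351d0257a1d5dc763e18d9c9c77ba5d69973b9518705e1357cd56d1b4d4564592d70d6260e9562a3121cb25c0e968ba973d201663d233306cca638f12257611297e3b5d090f0885914c36aa3308d44a0168d06a9619910c05f111146228419f82e15030e4162c37068d0422084c101c0f81cb6201f058a84e24028602b1b8101c1001844280c1489812210f0340a12078080200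

noncomputable def t5 : ℕ :=
  nat_lit 0x6fc258b1327c45469858c1e1508892b1a30e73bedb2fa2744148b872c0e047d3e3a9a8f574bd178da551d8f67e763e1eeca80235f2cd61a85d70c7f2e4f28733219c8c25b228a8f22a8e59cab49a7602636bbbd24a83942e08c67136ce8a62b915bac94f8ea1adc68210864235bc188bd579195afd4b3a07d0f38b0083066f355c6ff3397e0abe302650a6f47adc682269bc510a06b0a98e9a3125c266e7e2c918cb510b858323ab85ecf3771216080183b504a71ab998270700d84a0d5aa70ac7823b60961b5fa546ed25d0fcba1d2d8709423661b59e830c05c2c1564240142d2f164764c5dad0d42659ab9522832a940c532927936334a2451c8b449a01c81159fcf477361cc52500d144d23c32184422003878b85a2c134282424910803d1c0482203078c45e0c0109c12010f8640a000802c1004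

noncomputable def t6 : ℕ :=
  nat_lit 0x83399eced6a311e6ec8731da70867bf9b2f854ad542a57e3f626903f9dd051186c11790f6f2489ee039c41be6f592c5608e40c2966c34eb461886773ddd2ff573ad9cb4178e182c883a29c66484b360a6a2225150f4893aa16c5809e906c05f33146f2139517a3220145cadb811f8fa7c57b614c762818600f16aab6067b3cae9c8680ca89c465478d868f04496122aa46bd516dc693bcaa623726dac9a3c261106c53bedf4a07cb698cdd5619972b873a90d65f7424c747070a5492d7172fca44e269308a961fa65941338a703a5c2c968b6d025860e49e0b9b596b764a0176c231928d2461e8b4bcb63a92060ab2b8b13e56299d06697152146e8c3021c623e4210c84410b088521b338ac783b140d442070f870ba1e0a8508e2512034460a1c84806100703c4c02058180208100680004088301205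

noncomputable def t7 : ℕ :=
  nat_lit 0x67ac91ef5833a4b051259f12c60743be04ab65339ff0375c4da0637ca5df0fb7ebd9e47383c40d31187a357a6780a79b0f37d0fdca6d3fc1106406fa39c82589331d90e6bb599a6469a04a0f77f41562c565c0121091e2edb41885939d4398514910795a89c5e46431518cfc70b6daac9439244c68712a9e8e68605a1a4c4aad98ea077305a43b1c24e109b73b207ade459c908b0782513ec04d38da2ed21209726e59add3a76453c488bf5210c8e24700b8f40b548d852b85d245ba1956370fc6b6cb085a615a021a89909120ba9c2d994b2a55f2b8d8a20815d4e8962198fa7b61914ac1f5e1c02e4d3aabd5a775429946a12e01118981a248e2212f94cf00242a00b40c161d06a0137904d431029886e1c2f0803a1e00054aa4f250f812231d0cc1e3207044602b150a034220386c2813018341406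

noncomputable def t8 : ℕ :=
  nat_lit 0x35bb9824c7aad61c697824832994d3c9ba4d0b1e91426381edbea021834eccc1eb616018429f92ca714bf99e774793dda0b15bccd0ab67408711240429a0c25c365028706048543f6dbe896065fbad125c56821df10643e59ae233978a83e253f128a904b84daac05299f64e7c2cdece82119918880d085ce475b1052e9f4804daa3102ac4790b6b1b926c5020517b075098444af602aa26a339420fe601709d08021ab96010182add86bc7bba54a6a6543d766f81b4dd4467f8dd38a2719488ac9009944a822d0be0c9b4f15c761d0b880b7040f9e1503357371aefd1b0411ab23e1649263001d5cc9143291a5096d101d8e462144a1117a0e51c8b4ead01e5865a0cac733e990e30d3c95464be68b786848038b4ba1c702558cf163ae5a8ba4c17ca603120461874181b0c4280f110741b070b02a23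

noncomputable def t9 : ℕ :=
  nat_lit 0x7d310b1000a0c8486e51360c89b7985922f745af0a4df74c4458295b44d3c6977b0da6e76a41876f483ac960272a35cd4fe84a0509010a819c2a1308e5ecaf3f270987c6c8be05042992996f2303b49c6f7da9466287c29ce851229a0e4a45db009a7a150d9fa96548e1bae06d0d18c7751a6158db55328871246b48d70b6793cc4837fa21742384215046d7a9b1261f4a2805aeb4a82d82d62ac4020f96f3a134e5668c0ea0413111250a0b941d82b1704cf0b3382c59cb9770d6180224970ce3124199901861118425f6e1ccba1d568248e3c40356069087adcb2565f1f40e400429956415406c345b720298e252d2fc0686683250e12732255c22328f81e99061c41a5e1bc39c43a103f1d48e62b31141e008713e795a2d422f086bc57097463441c000286484763dc147e4b5e9fcc6571eb8d1e9d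

noncomputable def t10 : ℕ :=
  nat_lit 0x453e932587fb9dc4ae793ec92ca54148329c4e8f44a86491009e8126a0cfaea7209da8e348190ac7869088909f422d112b770a446c4b190e90ac17a261be821e0e2146377bb17ce02817a189b47a21b01849b447f017aa69f26e15a9146aa2b8999037354388470589e624166dc108ed75a8f8fc1533bc1f80d393ad421a152f4606b1dafd4ec031434a86f6aaac66dc230b5e6955dbc61ea212318e8391497ce6f762231702322c418f113d86d2c04389d450ce34b420ab3733a178531710516148590c106d36335865c5d07cb251534095ac976bb86a55899fd8a65162b11a064b910ef03303f494cc3b419d2347c1f1bcf654a7a10872d05c16d9188416cdd0982a00b0062bda64c5c9745efe33085280772880b601610791cd652874f40f0942422cb0000c04b2678709c6104839010702b694068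

noncomputable def t11 : ℕ :=
  nat_lit 0x29b6de8b61733091097c3095c50561a850aa0b85420085b8a4eb017727d10475f2f1ca2d5228862cf2342d202355c18cc1276a74043489a594c8b67421ce4325281ee7482a49e6c005b79264212030e65c048ecc4b47cab49ce04f2307cd238aedc2c787bf58833178c190d532360368f24945090c5188498440024550b5368b106af6eaa4d8656529c7eb91b011d668731a596fa2aa018c3c2ba55a6255c3a162542c435decd80358c2bf2facd82327f169d4522789db8fc52c0914560fae92e6f471c138a17db15865e590882c4b0f448407a4c345fe01719ee0ed433a640a7d35861e31131a0472941d0e1af03649b89ae4201f0c0d0229f8270a3c0a9b4195836504850a21cee7220871ecf0880dcfe0a870684c1d7916dd8764d81cf20e1aa1856e9018340c3d449657b042e845bee207a691af5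

noncomputable def t12 : ℕ :=
  nat_lit 0x227d7cf50d2450ce413bed0ea8759cd9819348bd18687e0098f0f21b191a480b8a8f8094c8f9cc215fa892a6d6d981e90727b056ca51282da297809fd40638035d64110d8982c828437138517844c5d02699b0ee9b3d20c6cad14081e6f10f114a10d0a97d7629673dcd65d5bb3c886a77b6942782112d66c9239ece2375d0148ce86a90460671e00df44a16c113a597c19948012dad5b27d571d49c494426880ca16240190a2600158e0122e4c254091f8e4e50a01cab03378e9b0c805188acb151a4df2c426bb560de1dbf6168a70bb97a7042b00ae6e82a7986ff2e169303245b7ca4aa710347ed032ba4563d718e512b41a34900a74232d4caf7b4451cbc7f2ac265888350460e04040302262c19e4ea0ea3ce8534b17924c21a8c5281f84b580cb83cb75ce643b2a4390e40bb2191207b347033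

noncomputable def t13 : ℕ :=
  nat_lit 0x2220476b7081ba26c94123c1ea7369c89804451a8830c6301c44c445879d2855e94468dc1f40c1cde181d13ad8103bc52c511919321979941dce870288d2645801564a3472d61caa0e8008e2a27c34c0d61415182a02f845aafd678b9e0c332985f0e350a9404c743accd8ad18b40b6254c4109c7a7ba70e2ce312489209488cdd679192d1baac7dc1cbad26d8f4fc145b419e4703c06078563389928df1d084ec485e2b834775d8ddec58168da024b8427dd4847ca9952c837a20260b4d819da5e7fa4134683e86d26cd7896859123a934f84584b50e6c20b39daecb602784880722a086955f3e8b2d37e0e0ccb96505570830e25db44270a30aab1802ada2f50090214fe72b98a6af15bb220f40bae97e5752364942f82970f6080f8d51b0b43258d60a3f8481b0287b300663138322289290fc72e2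

noncomputable def t14 : ℕ :=
  nat_lit 0x84178a68854925a0f36d15098ed849ee144e083b1267703020bec751ac8467e2406c88c44a1d5ac053e32940ba42af20a161ab1a16241cb4dca3683bd92ab10c2f8a2a46132074676f82c8ac1788105c6b7788042617302923062e0f4fef001be080996d949c63b69238ec5a4e350e4f56e44882cb281e166864b1ccca0f1f1a1d48c21284acb957360b033350a508275b81cd29b45c3858827e1b43e9716879aa9d1286514a823345863f7d9f456a523c457eaa7a198aae837c05341a2199060ee41c0dd6fd15331eede6ea60040c30088e0bd3c92d1aab533156a0e1417412124944e1e005823dc07456ba402cd37364f50d7f40218a75130028e17205dc4af402ecb6817d034624a5b0459c630e9c5f2870e33d92381927c264d1b95d68907922479020ac11ce625c0993cac880bc6859279b1aeff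

noncomputable def t15 : ℕ :=
  nat_lit 0x84178a68854925a0f36d15098ed849ee144e083b1267703020bec751ac8467e2406c88c44a1d5ac053e32940ba42af20a161ab1a16241cb4dca3683bd92ab10c2f8a2a46132074676f82c8ac1788105c6b7788042617302923062e0f4fef001be080996d949c63b69238ec5a4e350e4f56e44882cb281e166864b1ccca0f1f1a1d48c21284acb957360b033350a508275b81cd29b45c3858827e1b43e9716879aa9d1286514a823345863f7d9f456a523c457eaa7a198aae837c05341a2199060ee41c0dd6fd15331eede6ea60040c30088e0bd3c92d1aab533156a0e1417412124944e1e005823dc07456ba402cd37364f50d7f40218a75130028e17205dc4af402ecb6817d034624a5b0459c630e9c5f2870e33d92381927c264d1b95d68907922479020ac11ce625c0993cac880bc6859279b1aeff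

noncomputable def t16 : ℕ :=
  nat_lit 0xe9705e3a6637da6f08212d761b43248ee947603120c1358ad4a227fac8a69f42a38b668468992c331a120d29184bd42d0e0f878582d0a8a108d562c013a5e880ec54f20402d10ac54140c24661910c06c4c0b9bd010726cdcba602e5444f83ad8ec3e1010d94f14bb461e9e23b99d4b700225688c7c1e8e313829c9f85281c30ae417b939da363384dfce212b1dc28218a9914a07218d78aa6336216e86d994647e7981224a775bb9ae5947958cc19312ac609514c19527937b80421045c09ba4d08b20da5a2893166cd090900e1a77bd08a7c3fa71d2402a85c30af67ab5b9083dc35883749b64b04a7e8e0e03f610f0bee300ac222423a351f27564af57cb16d008f0272ebe86ad24ca8d0e6452125340f01b419c3940206147d049cd06ae5fae1f6d6508f41a06052d5cef6729a83814119500acb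

noncomputable def t17 : ℕ :=
  nat_lit 0x23bb863012a995a8398608214303c84cb64154845eea832135cc3b521446a844eb3210c70f980d6be381b8c2713f09464a62b81920096b9d1f47d6c30c00e1872c0361c55ba05afc4b8697a216e9387a3c5e2143cf806c087c074f8a42a7f4f101770b3513d325319b09aa983c12cf6af62031260e69a2d1cf244a34064c4a3f57ec053b6d04cd0cae87e68764155510440212a43518e804da56c246f007dac922a07a890211363389e06c570a96c52228d1f267318042836378add68a87ac4f8e5869d5d50660898a0052b371c62f1717d36484629568173305990d6779601f0439b41700b0c1520eca2d08d00de24b3d960440b90eeed7b0a04ea249075fe4a09118e45e47b9d38c95b8290cac6facde8d27f171e6e921445342268a1d43033496458626cc498a963d1b4bab9670e088e0789d96a83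

noncomputable def t18 : ℕ :=
  nat_lit 0x4aa4cac2e4b1986ce76b3207016031180255442a9950b56b098ac1521109f0014c29badc2b9e210af343a1082a5b410fedf70831803d11b45407a6c108c31119994bad0691b9c6a140a2cb2cd6cb2c128f5e2153e9905042262081914f2b5700c85a7e1dbadca4b871f01702271206a3143855729184a39fca33b0c1dc7115bd5389053ab1303946861b48c1bbe1fb0f7bc048e5039b3004c43234dfe0009afe20fa08a01041d3a339360729219508a339c1d89d350b04c0d37a50f6f6072d2250549398a21e31850be3e5f3556ede0b92574b31a3d1700864864d82517bbc1f0c79870b4c7782c9daa958c1c4e5821904c02472129f6d75716c08ea53015f297419dd7ac61e084a8b05db5098fc8694c36e90d2ade45c0907ce4752f0fdb7064f268506d3593444cf449894a03710e944f1349f480c3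

noncomputable def t19 : ℕ :=
  nat_lit 0x4aa4cac2e4b1986ce76b3207016031180255442a9950b56b098ac1521109f0014c29badc2b9e210af343a1082a5b410fedf70831803d11b45407a6c108c31119994bad0691b9c6a140a2cb2cd6cb2c128f5e2153e9905042262081914f2b5700c85a7e1dbadca4b871f01702271206a3143855729184a39fca33b0c1dc7115bd5389053ab1303946861b48c1bbe1fb0f7bc048e5039b3004c43234dfe0009afe20fa08a01041d3a339360729219508a339c1d89d350b04c0d37a50f6f6072d2250549398a21e31850be3e5f3556ede0b92574b31a3d1700864864d82517bbc1f0c79870b4c7782c9daa958c1c4e5821904c02472129f6d75716c08ea53015f297419dd7ac61e084a8b05db5098fc8694c36e90d2ade45c0907ce4752f0fdb7064f268506d3593444cf449894a03710e944f1349f480c3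

noncomputable def t20 : ℕ :=
  nat_lit 0x7100d6af3811b986b87ec280ee9429adb2e70bb4468b765026126181b4896434e3807eff638acc82e4b0f844043a9194486260b0d2511d269366a103dd885b6d9c03eda0c9f8fa89760e18cf8541e5b0ba228bd9eef280f57ebb0e09dec4d3a17d9af20ea954cd5123b55ed6698011f0471a40aae5731b434eb460c53eb02c2088e0833151e283780c8f46c83a2854d0568446c15249da0c1e7a8311a2601260730b21100f0ab773f01c16899ca0afa27a9d92e459af910bd37c013a1b6a048cebc2f331baaa31a8568184cab05a9211949be6080ab964fb2235d8a0a6e138aea40a159fc62031c516b610b78030865a561e5a54c444a8118434d0c0709ec265c078cd84101a9fe24b906ba92f0e3b94d287c67238ca917410478054f1649487143046e807a430bac805c416229421214673503e47693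

noncomputable def t21 : ℕ :=
  nat_lit 0x7b3dc9eb520bc5e6ae1a8eda27b1321566887db2db6fd3e9e128ce1b11560c24f0b5a4c700401020364420c2d347355b4160b84980b435b161a402c92c789044980890e5b9c972a447b0532bf45ac554c45dc41d01b2a1b8a2f5263ea12344b1d0ec6a40330ef12192951a071fb8412af2e38c460e3317442e97691d2a3302aa50ec382be43d06591e974dd4e0693b0a7f82a065e46390ae9f24c4d590c283b084b608be1cc18812892ed05e0a8f83e653f1d70b53b82027f37805dcdf14b888c4e2b01086d731921501d87a85e406500881838753d0500832b60dae756a11a80f823c0f2914902d7c526b0bc5819432f5302b669a622c9128c104e50a8410637498b84ea33617dbc1c10008c4530a1c0b0c63407ce69b06b3c485a099f875076e364ceef53128c83d2696dfc3155ae13475388e51455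

noncomputable def t22 : ℕ :=
  nat_lit 0x6415106895d85868db788f57419508b9dec3389f94d1346b4d2cbc0ba11f2ed488b4c86281b5901126d0fd7c824788ca2436a86016aa26a54b6b37595df82556905fce6333198026352a0ca7a0f01198e9721ddb09a01c3dec6173aa5af04802601b02791cd24f7513a0fad158a41dc13214346c0f0643824747d2bd8a307ab093c88200be12b263afd6c5f7d86918995c85000e310181d47624bf48ee1260840c075842d9eec473755c096706dc427881e4f86e382190a9d37961bed00416490686e4206a8b3182856787c0e5144a28325b2d22ac44626936334a4a072911380e5c21d46f0653fc0a724a044202c702f5882452a4de8a7860dc3ab5199ec50151499c763c850ca0ede3fa6e0c9f230889c6d0087d680229975825a5632c383a2b2de03054b971563e359788a4f1c3ccea2a6a291024b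

noncomputable def t23 : ℕ :=
  nat_lit 0x70271b8af009918e90342a58d13750e5a62681915b709073e9a07986a2e08272a308705049adcf0a077ba568ec3b1f4e0594f3049ad66a2fd87086f850b415468616c6e122f94cb024bd8f4747aa3cdabb0ebcd0ce87dc018a3f523480ec0453914e1255ae89e033da7e0c8465a6d62e3490e8ef0c660b528a21101854e151868041c6c92d1c6b001c94ac441905e30a654402eac0f14602667f389cab805011bced1b90c580568a0a0ef8791fc2c9517984eafd461a868ee378ec7c2089268e24e571cc421931989d6658111c56480414d9081233fd72296eb693a4c2ac2d12f4738ba0a360882cbed73f03c203c4c334d8356c19d6acf4b9708069252008430568cc1a580da65ee913e3e5424443af4c03d5e33966f02eaa21c52143f222852d87cbc9618959550f2b88c12137335464c94409418b2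

noncomputable def t24 : ℕ :=
  nat_lit 0x3f95520e1062e986a47e258f0df312215200752741f0959034e8e0823b4b62401c2976231a349443a79261faee111307c7c783bcaf02278f452be383ddacaf4db11844340ade22067d0fc40da6722d1efe15895987279aad34164f3d5b2e30944c4e610d324ce878016416c62728578287c958630d4229d6260462492a263432c844a0f1a4369735a8d7a8e2e0840ed141b00911069a94961d368105ead5cb918e381839a10dd28c145d0b0c9b0eac856334e66460a008c2d37be1c46a5c1f9401f1b8417e7631808f42a4c83a1c9c2a0253eec26b28fb1254169d1077a229fed5280d9ae0a19a4ca641248e4ba184a0ec0a6e62ab82e3c0a9dd66710996028856f371b10f2934206e732a3560b40e2d90c82008b06a117b1e4becf72915b6d47d9ed4cf144c0488eb8311ccc08192d480aa2f431d291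

noncomputable def t25 : ℕ :=
  nat_lit 0x67430140f6b8c872e17ebb83c4e1d0196cae0008811052b08600fa50a05a88c881a1fcea71aa14a874f830241959ae0348450090bcc44f19860be0f91d0c4a2806116ba649fc0511641e8babc668ed7ef24d235a43e41bb585087cb90d901760d5626e368e1bcb03c2ed12044ab71eae53bc19103720425de074a08ce8856889d48936f920a4fb4bb680aab2abae1410868cc6cdb1eb98fadd7c289e092148b05cf17bb14e680702f4a8b422858fcd87f96088e963389587b3786e161d33a9d4c99231d9146031894be3f47971a0f4278f226414e05d64156b33d980373a09e662268d0f84282039a62d3292c564965880ea5160870b7022631c549b34aa56b070895cc2d93914c4c71048c4506a56adcf270873d8b31251ba13a646a836060b17bf0d68e4884e1e966185002902d2e55498602bc86ca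

noncomputable def t26 : ℕ :=
  nat_lit 0x3b95487d1eb462230371ecb282129a5170463bad6a27143f824bc739a884c246bd61c6207904a4fb6ea3c203516a6d2a7a2a1ca0cf2041d894d80e97080112baadde2267c3d610369059eca206a04e0ce550b99a5349a3928a825b9842310d358d8fc662dc5edc4e86014cb3a1783d072a8cd64b9321e518fd0da98ea910faf602ca8496c7ca075219c45109865d3056a1321a8377169ee6d62a8c069742a690ebf7cb7d76803c22a20b14b29568ec568edd0b3723e1e84537ad848d0233b6243238962002b3199da63c641dd82ff0a0b09c6860039c2f0103c6262905a7d126b79abc123923a4992e002240e6d93e2e97c604ca20a0d70113cfe062b199b6340e27018c66d21090de00935aaa9119100a5f3f0fe10ac538aa150b5c1846c001d3102efa61ab871020aa8486e34c430ba49130dcca9e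

noncomputable def t27 : ℕ :=
  nat_lit 0x858450a2e29860a04c733a146fa70a48daaf719d5e08109c15fc994e34014667b98056975abd87cf97c325b2a5762c21461603315c6a88b7494bf4f88d8a2f63a2ca2b71133510902f8a9c4c4422a1a44145245c07050aa5540749a3080574e86412496d1fe08558784090bd5f3fc643a3141cce0e7e345be4e6305c4014472c4fa4f53b6ddc03012ac08681b915d27e003541e083d8f02abb612da2034738141616448050c80641b13c9869b59c8783bad0a4d87e8fd723537968e6bc2b306181b53208eca2319c52a591c0c0e4de80c38764314918b8c33a035eaca21161a89b79b9528312f0a0181a6723626790933dd624792b09a8f0315175067a08496dc2389a045d769e90e1c3720d5b095c258c83d3e401966b0facc882712bc540fb890b1641d86ba85ad78196cca39840cc3c9a521a5de36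

noncomputable def t28 : ℕ :=
  nat_lit 0x1e1705c1522340283a51b4d9cc23888d19067ba55e001561e5f41b49a509ac42a08552281b1c99aa4161d5cc532f955dc0d8199972076d905363889ba8f8677d925be785fb24bcca0b43d32096bb188ac10f271d87f1c8911c5a799a8fc8942380b28154360d6346798016da0d3d0d01c6e29894471faf50d0568ab45ac7193d5207d7b39ce10d58364ecf208949d0bb05094b7104b1441efd7217602b22b8604c1988c3a16805d09d22fe59ba5309d491b1e30a8437570c8379b54e6e09bf1c2ef1b8ad6ce2318387ccc101583a1761a2d8a05040be0e293d9d076317c87d0e464f3fc864f571a4f43555941daf80240854cb550cd80d23ba817cde6a960069786285d61232294970432b8d5e9f44186123d58a69044c08358190072a3d068d8913804736a01844b7002151448200c178b45a9894442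

noncomputable def t29 : ℕ :=
  nat_lit 0x39c1d48f9669d806347e0f596df49384c869240b53cf809aa812a7041b4010b2a2a4429748400882e0f08a10ee74928a6ec46bbdfe0727905367f5ec11b477133f584785fb6098856b1d0d8fa3d815d02b164401a386a23848c525aa1788915381ecbb35325e83a0cbc9807c0d1ac640644298aaaf45c4d0cab5b2b52a293410c6d112c96d4aa017901a060181848a810505dce9c1ab881e49722c54262213b5f6cf3e84188805d0750e9a6917d44b738a657d0a73161bceb37a50364e5628c466619b05a251318087cb4061584e25618fcb4c649ac0b8c76bc3c76310a87d2246782e5eadb57418f49682b8c300184a3d08ce3c8dc16b333c35e2b88637428286ac05909f461c1e6ea329408e126e14808d32ebf9045e87058407272c090703891b81c3c1c870ea9d26b2914f76c844fccc5aac93057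

noncomputable def t30 : ℕ :=
  nat_lit 0x5e9545d034e9e4064720b611cd04908c9cd56014c9e27252d98405078ec4c0124195466b49b99a5114108020c852abd74ec42c2158bb50125705f289a442117827cb47f5bacc6031649118af278ac42cc4163292a757390dfccc259b90c7d4b358ec7c2eb815cb26bb44a8070d1c43c88751782e132c0620a8c769ddd60b3432c84a41e284189e72901c4e41b8e06afd1b41d224d87b7caefc4ca9df70c052a8b62a41bbd448016c0220c63a1e056844b981d0ee0ebd5c20d37a5156dd23369bc7219999f47331c18451374809306263a68123f0a3d01cf781116128d86891a8ff000e916b558158a4cf5e27168d936b357e6a7b131e63d530e5a71212991202f8236e14810d9e85206093e438a92e1c0087b6707c6467872f87cc11406512504d9f9b88a0a8d0c28f71a1cb2c385ab5506c80ae5f008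

noncomputable def t31 : ℕ :=
  nat_lit 0x5a2e622876986d0602328f58b0b72a4a1cdc1343d223c8331962a8170ed40f86a01c242849bd8320f410e134c93a84ca6e042981aa7c602a6245239130644a469a1306147afa0e488133e00d042391665924a856ee978100dccc2a365ba0a4b111ccda4535dc2887629c00413c2b9460e1d1554c6276a189c1d0f8cd3b107e9e4067d1fc04be4f11aad44c2231c08a9f483fd3cf35d1742821459a82a4752014a0d22100448806c239f2ce851e932cd4bbe86a7436040e2bf37c24861833aed36bc2b19a106431844febd52c30fcaf7dbd58827449ad6439643a0dae714b88623025c1056f75c1dc18d628c3626fe4a3c4f6d13b171862d032d5d6b056b0410de7516ddc816586938170f02c4a2c34880080d5b161f837828587c737a0a8aedb1796958df638d0449581b8c124d79071548c65179de36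

noncomputable def t32 : ℕ :=
  nat_lit 0x5eac81e292f9e5f2883b3b98460251a4590748a744cc12e2ece6ce42c4c16ef483c956ad7bb4035110088830e964130a4351742daa6d01aa570534504c3ee52d9b978d8062f9b848813487ef63d09d665982a85d6c963884d0cc2a2193eca3d9e1f4aa3935cbc027434587082211dda714dc302e2351b649c51190ce1e4f7a86d8101801f5a7103104856c5230b48add6a2b084f34a9f9ce4045810a0ae524242acf4f20932803099106a81021048d603399c07f2d3f81c0d37814b09a2b318749833998828e31abce8b452954ba112bbf588e46d89572b53abb0f81443b88103026c114493890dd1ecd0ec0c76105b0a92ca732c1800704b8e56e34140f062ea6f2347acb4086538a67e280d70e49428d4bf4a10c3c77248587cb17a3c5f689179b1fe8c782c070ba86b8c124b03871b4df05385f036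

noncomputable def t33 : ℕ :=
  nat_lit 0x32ac91a4281289485e899c0a241118e89c4c4e325c6fc6e04918f544bca06f86a1da00562a0eda485008f4d8b74a9893a5328180d2a74886d728f0f419305c6db683f0a74869ca4b762f98ce61f3659a594c93e1e5273aa1dac426b056c9e3dbc57a6413ba15c7169b0987083c1551c34823855aea219c996d1190cdc0834a0ac4c2958829aef983c25527c7a0e0ea21000c2023152a7c285d40aa8ae88882ec1e1686bbc48807701142dd16ace0a7a1b81dd67436a288ed8379ccdcc50bb7daabc0319a166831ab12cd064039faff1710012107da5e24365d17d34c7059e56aaf7ba49c4485c19c6a840c21d683c3f0a8fe5a7d3792061143cc180212b90724a098557e2c8733c0677431f54c8b4d8354622671a9fc6b24865acab0e110b711088745e057843040456530198937b118b03f502c10408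

noncomputable def t34 : ℕ :=
  nat_lit 0x732c8b6262fa6594b889984bad07f9a5c50705320521e8229db2aa639d816ef7bc21fa67481819f1100835bee94e8e9aec92842cc48a3e8ad10a536a6c08ac078fdead8761e1bc085bb58dcf60ca8c54cc40a848a35429458c5925c240af9382f9f4ce3f148aaae47c0072f20b1c4b04709c31e82f139ce1c214d25ceb035e1261b106880d2b016abf9527c030b5d6b15ab953c31699c912a85107c5c0271a19f61a21208f280770f10e403a33596d2232f5c0387e04a242237a7dda323b9a0981056998766c31a4840b4299798411782ac12946d8a068d4878318a14418b091061b1711600071add0846d13c829821acd2cbb038c1267b19b0e04b912991e6ea6e2347a24829e9381c2d2806e4e57afd190a722d982560d911e2dd0b8f82ae711a38946a2bac0feba60291885432a983a1848b85f04d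

noncomputable def t35 : ℕ :=
  nat_lit 0x3038512295d06df247899ed28bd261a5450748a3c4caa83260641e639d940ef6a4207e285ab99acdb008350ce074128a4c9782d05e5827938e25376b95621373bf58c2d87acdb8548133d56fa421f97c5912271d635429b1eacc24060d4ca770a9ecc151b5d72ae643f800f278a2114b8562c00c6239269528e398701803341e6210d0940d2ac011c021cb67a3608a044826d3c366989cb65a71374ae0271b7df6d22120892803807506fc3a1ea0a1a0bb41d30a20346242237a30dad935af1febb129980e5131abc410b528d1c811281b9885d8899cbcf7761d4868d43a2c9704188c05839071dd3a19321f4caa7629e07a101d97186615324d6e5556b689aea6f0512c8165b3542975402cac2b491fd3e38611f19c374c8f82c1f231102a0f6a8847405174317e5f80a901208208cc7909052c9f0f3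

noncomputable def t36 : ℕ :=
  nat_lit 0x841c58ef974b8994b25e88930f2253789292439d4521f6abb4b41873981c68224341843326c4de22e7c184a2ba061316e95469060ca78806e18eb55b94d8130a9b5467f64210d2c36bacd28651f1a0f4c451108a4d32dc24860900239502606b5876b1801141c5e8789de6e60cb847eb04d91cd70409074f204200ddd0c03e22c070362c046a4f182da0ac656c294a1e2a2b1429064bd5f68c65b39b6b9502a81ebe4e3bc5680101a814d97705858442b1d8be3d029f8aa70378f020644b9c9fe8a0b999ecdd31c1cf60781008dcdc88960b2fd7801a24314ea3dfc5041a056a231c98932081a119d82a4fc3568e45e068705d858bc6c741292ca6ae0e1cd26af0895d7ea9271e13c674d2914c2475259f8d85db450cf48733da4211433512852e37c74da0a2205ae03e82d98f77d1dc64c148ae002d4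

noncomputable def t37 : ℕ :=
  nat_lit 0x302b9f60b52a8942885a1fcfcd08326d52e571ba538586e07d3086783ea06826a42d625679af5091177888e4532f9711eb773994226a7cb2c8e9d2188d186263a50246164b34984d762fa12071f3f434591200c18eb281b480c425b1554a05f91076e4473a164555d0f186f6151c44eb81780850ea0f1b03604559186a266d0ad0687803288a9183b189cce0e3b8eaa3003560208810402a1d3cad8b65e600145c168680532801c34548fe3a2cc92cf3bb98a42d541697220378fd34c14baf060df53198ec1831bfc1a4164431b2ac07bb4129f4685d604869a54dcdb21205ee925aabd16361a19dc0d2340a626c2289e0e08a79379210a569521ee112991261325050f62c871e89e377a9f40ce21d258423d3e29dba6b82b5832327a3c4ae853497608bb44839b0d7054419839840cdf8734f449f031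

noncomputable def t38 : ℕ :=
  nat_lit 0x302b9f60b52a8942885a1fcfcd08326d52e571ba538586e07d3086783ea06826a42d625679af5091177888e4532f9711eb773994226a7cb2c8e9d2188d186263a50246164b34984d762fa12071f3f434591200c18eb281b480c425b1554a05f91076e4473a164555d0f186f6151c44eb81780850ea0f1b03604559186a266d0ad0687803288a9183b189cce0e3b8eaa3003560208810402a1d3cad8b65e600145c168680532801c34548fe3a2cc92cf3bb98a42d541697220378fd34c14baf060df53198ec1831bfc1a4164431b2ac07bb4129f4685d604869a54dcdb21205ee925aabd16361a19dc0d2340a626c2289e0e08a79379210a569521ee112991261325050f62c871e89e377a9f40ce21d258423d3e29dba6b82b5832327a3c4ae853497608bb44839b0d7054419839840cdf8734f449f031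

noncomputable def t39 : ℕ :=
  nat_lit 0x828a16a7d6bbda02f4158684e49561722623601d61a9f34bf88086258b140cc46c39a30c73891dcc3623c51c457426d2aeb79a05bc6d438ec8cd321b955013499b824d2878e05e5770361ea791eb08fef85e9086ab7189a930ef7833983030c835969a3917c4a97642ae22a23a0ccfc1c262b55d075b1b082dd1e11c180a1fad122f9800a4a683752f0ecc55c211d2516d929422e293b5ee73038786c1771bf010964e025cc8066ac6201f150b5a0700726604b3462ec0c7837b69c8aa2ab19fe681a1989c18318c0881b5d158bb062404002586a178d60f4ea3d2800019942aaf7da4a105b53385d8616fb2952fd518819ea77104428d6012259267590c98e626aa40f4fa859ed3d128482d72f282058423e3e22808b0304297e64440889a396e364745a2a1dd7ca5132910485459c40a1d278dcb250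

noncomputable def t40 : ℕ :=
  nat_lit 0x8006c940d4195cbc80650a4b2347ba64346f74104c3106f081b2027504022a883a456c7e1d9cc5648371c8f6e06d9d89eb107890d28c271e4d67053410eb127999144b800a8daa507c3357cc5590245cc661c3da6ad78204d43265ad5409774a1d3abc0fae5daab1e11d84cc471dc0a9817bc458282b2a816c910c3008334494ddc8a71c186cd14dac0a88b710992ad72181a22ae1aa911a164d12472714e3c8c6bd85bb168df0c3d07cbf5d311805d3105dbac7290dc70827f874067a2d8710ae71e92df8da72b3d4a442c3f8f0e12e1682a5f18b621c9e7ea1952663e0780e086a3d982742111814f9673d4fee6692dd2c7d75831ac1350a114f08599b0aaaf000fc800e4842614ac3299d282d343911f0d22a7c24d00a1b4a3027d88854dc443bcc04d11b22263a0caed264c7d24a07018289c4a30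

noncomputable def t41 : ℕ :=
  nat_lit 0x6b7123006515440a6418a454347ba7806de02860091337978a6650b81c88d383928847e6da195cc70928572821dbed7f0334100c6224fa5cb8ec403fcea1475991fa564a0e5aa4b648fd381c3110da4b461c2d500e3a331a07a65ad492793e34508bc051ed74d81f3d5848119b3dd09a1824190285c2a8a2f81ab7cc28e6b3646ec10f1517a874da2e0cb0600f52a2504819ec2b10acd1ae44c28146135f148d236879c18d0c20bd0784f769b1c45d593a9ba48793b910e0823bc343270b15ca23131404eda429de02112c434f05b3596a125f872ac6299511cc32d474b8c20083344514f05b1183e604991e042d171f4ceb7798311271392751f0852310ae0057b3448ad7885614ac0125802e6078594efe5d938dc6a89414167f3b230b21b1c075f2fa738b2203a549159c4c26a4962a536bf1ae2f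

noncomputable def t42 : ℕ :=
  nat_lit 0x458514d134340dfc3755a5d12046d30d087a489fc100119409b83a8904c44ec7bb31cc300f07590742937c80b374bf4d6216a0b4a0f275960b6bd538e4f23d70c1ca70f5b85578c7018b9487b82a4d9a5532bc5a24434bb96c2a2a1e08c7e278d938d525108d4e43ebb56a8f43b80631014a31b0fc07125a6196315c98703785c3eaa27030dab24da50503e6e99d820d674188a83860691a605825612417c2b5ca0b0898a22f686b884af35cc1214c228bed5e0f85ba09ac951be4ee5971b41cef06c88c0c64242fa101217a20ba7c1da80d8c040bbd00924b0593a4b4fafdf50142ac4b4667aa2a1cca048700ec51fc01d49a6d89dbc205a2080a6154bfd765f7a3488e9037310009e5606daeba318ac14101a9717024512a11c3813159ac7638ab85818341cc7899679c886a52f009423419b2d3075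

noncomputable def t43 : ℕ :=
  nat_lit 0x883ed02b06c114fe8f399e512616d2499e7a873f8983e19435d4ac3b134dc877ba008e2f3e39194682b3196cf8718f5d67234bd50ab8359f9b6b2770e52efd1dc1ccead1285578e7548b9926a05a4d9af601110e0f16a29c802a831e12a5827189c0d518890f61d6bb156a3776270948b3a8490c2785a80661a6fc4410d13786c0a5a278a0a2bd4d8f018018514d149a67152062c5a0651aae8991a125e59c3c9705480d8ae55813016e5c68411bac23685000f00702826a4518ad3a5974ae58e0f4b121966411a08688c1801cba1e70924d8e25305998c36cbbceee55fa7ce2a5282ed546316b0522c804ae910ed1fa61b80d2dbf1bc18862f83e0401bfd62f42fb49cc11113115e991d05cfa1c333e5d03850bcde44213239501051149ad127d18106203a2ad289e420848701209946b086981a0029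

noncomputable def t44 : ℕ :=
  nat_lit 0x4f9d0884e630ace20e5a30dac4c6125c0632113e8c21e3d04cd23007c0922365a845cc3a008d4ae1405361dabe4a39d3416753d5b20506a78fad1569b124c7129e1caee1dc25783d42349c06a1990c7e8314a057aa66e43d8a6f8541d8299583b192d5092e8f6a12d901ef0b3129118bf328c5be5f1baa8169d4332008b21518d704989b8950704dba5807c8312c8ceb04b75f255399dd1ab127a282a5e4129ca6d36621d942c26831c2985cbfca8da471a00d124795a1a9c6211434de1e341fa76280995e5d512ce024a56220c83e5b9687228789c9207942884326745c40ff084b181401b16a54dd11670900eb666971a86b6bbd0b22055be1e40867c115cfc138b88e808728d965817999b6420bc0ca4380ec003e1c241b4a21011ba112f07f2edec187dc31c67e54bbd2634209d5c8a582801e602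

noncomputable def t45 : ℕ :=
  nat_lit 0x4f9d0884e630ace20e5a30dac4c6125c0632113e8c21e3d04cd23007c0922365a845cc3a008d4ae1405361dabe4a39d3416753d5b20506a78fad1569b124c7129e1caee1dc25783d42349c06a1990c7e8314a057aa66e43d8a6f8541d8299583b192d5092e8f6a12d901ef0b3129118bf328c5be5f1baa8169d4332008b21518d704989b8950704dba5807c8312c8ceb04b75f255399dd1ab127a282a5e4129ca6d36621d942c26831c2985cbfca8da471a00d124795a1a9c6211434de1e341fa76280995e5d512ce024a56220c83e5b9687228789c9207942884326745c40ff084b181401b16a54dd11670900eb666971a86b6bbd0b22055be1e40867c115cfc138b88e808728d965817999b6420bc0ca4380ec003e1c241b4a21011ba112f07f2edec187dc31c67e54bbd2634209d5c8a582801e602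

noncomputable def t46 : ℕ :=
  nat_lit 0x112ede21225c3cb2d942a642061838694838859bc982c038a8c6d118a8d68f43204480794a400aa2b028ec8e8e1f2859816418917ef6392f81e9d33c35f881581e1e0503b10582fd14aa9501c658252a1e6031cbe982b36dccfa17b09a4e0589dc188a398b574e727ae4bae12c2b15aae36a3daf0672af0c4754b06c107e26b51c63f8721d868424ae0e05228a2d1aa221b89571129c2940a77c8b84089198949c9211b3dd2ea6f2bd3ea6628620ada032453c603e9f0d8d33fb19f01334bb4b86e8989832b5758e868df00411ee663a355fc9772121dea93426992fb229287301892199af22126db0e8671aa12d0233cc786b88194e2d62d8a02e046e9781c9c411696c0d774084e0276004287b640ddb8ff220d414f5400d97a151095d1103624303e32462dd945459a4126a53d0c03b085900c7a0b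

noncomputable def t47 : ℕ :=
  nat_lit 0x3392d203b8727dbc1281a38820483ab0f25e0a0a898f210165a8dd28311166d2eb9038f81f12222d92a8acd42731a0102445c315565750a4968c0301fc6621631e21845568e0b4a238305f8404110c92e967834a223651b8f6134eb09aacb72b8832aa892e56c9a070b4c8f90580d7edb3f2c162b248b48a8d1461f011057d251d48d3e9d5c0302314a14c82c29d9af304a10ec0a573b12a0f4b2f110154f12a169c738bdb81b37a90e6721201de8da5f35d505b5db8c7299811a15e711e108d6536f97074f77eaa61074648c96a691b8ba1ab30b31de20c47a612ed85ba154701879393656768fc9e1f4991dacf5503ac023d771889b04110683c6143841f60661a297500783f9a636149990ce641c4c2e8908b300ad053418ca7a1aba0302536441ed09708c458bd000759ca57f9ddde34010a04c5f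

noncomputable def t48 : ℕ :=
  nat_lit 0x861cc023789244727427208823483994fc5e22b114a0d0c1b1202f6c37844b35a98ddb0577ae144df7ec4deac378879c6944d070fa260ba64b70a881c538ea1d9e1b64f258e1401f42119244219b39543576321f0f22403c5b0d383091afc55b7564495891c48ca429a9eeb05218a1ca7000497e033b0fc74cf341ca02c97f07500bc87b01507560a6060235799da4f649a1d76f3459dd14606326c0e8903050a08e2b0a598a6519b5aedc202212eda69ab57cee4fa8454cb268ade87f722da22b4709540464740d808f928c24ba114b334260b6a14879066c8b0b02507218b24c728c5ab005d0b8946b04b42087b2d15c2c0a298660432782f443084e84206274f2558a83573e9c01a711116eb973a3102ff1f1f1d6e674ab018150d970410b379b87ad647bed8ea92f99886083d344d261141500a79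

noncomputable def t49 : ℕ :=
  nat_lit 0x7743cd2df4fac589130a380bc3483951e841188e54a481028ddec0070a8c0c95aa51da6d48321d637799d1eacb0eb70366311870966b7489cce29783e97c7c6c9e0a6fb3e84092573ba540c4254338b481382e148ca06a2c5b0276309369e569d46ca04891c48f2129a9ee687c2f576b44b8acec1a5fb34189d5820202b33fbc4e4d5398bc66dd4539dc49a3c96c5ce849b461cfd07a11822247a35107a491396ed31642842a136415ca1e2001c00da472ad390c89299bcc309848fcfe222d80aa74b02a0c647b2c8088c05c10ba16708fc9a511f20ccc021d958be856c42cde4c6b91578c75d34a062604b42127b5507c22556daa61ad6881899908678e094997e1198a52371c5040318390a0b94c3e46a156a3a944e60b8a074ff718f430862cab8b8326313e00192c0f0860844a1c02615619622af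

noncomputable def t50 : ℕ :=
  nat_lit 0x581d8ae8b56a4604b407376123483950170422c354a987f9fc7a270a1c456b37b9545a5f2e2e0880f0b29d8a8735b71c60a6391c961d74b00769c6337a14ea2db692c863eb59aa6919b48e0b9423399a800332148ca73b7ddac44930914e24fa0964bc58871a0f2129016b0c7c2f57713001821e3a39968068e7720602c9518986a495fa64eee04d8353d003cb648c3c49b0e1c111baa11a1288305120776360a0cf162f94ccc7f161ae1e351e92e784ec48526855885f4d137888a26c759eda8742998c0464330d808ae7a104baf36daa8b27e88949ed0633958da852713c2608728c540237325606f121890bcb61f805fa9470ab07210479894308698c8942f180b9ea837c8a8ea0c7e2896e42241b8e418029f1c8ba0b86434200dbbc2afb26a3120387842d342882ba0124c4432c3e61549947caf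

noncomputable def t51 : ℕ :=
  nat_lit 0x581d8ae8b56a4604b407376123483950170422c354a987f9fc7a270a1c456b37b9545a5f2e2e0880f0b29d8a8735b71c60a6391c961d74b00769c6337a14ea2db692c863eb59aa6919b48e0b9423399a800332148ca73b7ddac44930914e24fa0964bc58871a0f2129016b0c7c2f57713001821e3a39968068e7720602c9518986a495fa64eee04d8353d003cb648c3c49b0e1c111baa11a1288305120776360a0cf162f94ccc7f161ae1e351e92e784ec48526855885f4d137888a26c759eda8742998c0464330d808ae7a104baf36daa8b27e88949ed0633958da852713c2608728c540237325606f121890bcb61f805fa9470ab07210479894308698c8942f180b9ea837c8a8ea0c7e2896e42241b8e418029f1c8ba0b86434200dbbc2afb26a3120387842d342882ba0124c4432c3e61549947caf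

noncomputable def t52 : ℕ :=
  nat_lit 0x3a27c0af039aee04ee430a6090883808db092543602c70a9fde69e279c518a47bba1ea7e7eb283b1048431da70511f02ef64c399ae440d8c12c821b8a8ea1e29b68760e728c9783e470b90ed04eb387e2161bc966b88023d8a3965b09142f3b270c4d5872e972c8282d96aa7648d922683c9b956285696832335a2854af8363ad4c49893f19ebe4688c4ee7003848c634981962ef6334d36f907b04f40768c2c4a77293806a727f3d096ea3da255e78422fdbb1387a01f4ec2caba0aa3131a802b02d8f0a8644a2f4c2222c104ba3d33aa8de5f0f8b014656da0c16b77d850264c3ec0d400d23a5462e421908bc4066b50b8666c83188106fac90234543588ae2603485a560937a14ac4c9ad0a244d18198182bb71e21c7180d522074845fe4e268ac2c3845b60903a2895412084424a22040d418d297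

noncomputable def t53 : ℕ :=
  nat_lit 0x3a27c0af039aee04ee430a6090883808db092543602c70a9fde69e279c518a47bba1ea7e7eb283b1048431da70511f02ef64c399ae440d8c12c821b8a8ea1e29b68760e728c9783e470b90ed04eb387e2161bc966b88023d8a3965b09142f3b270c4d5872e972c8282d96aa7648d922683c9b956285696832335a2854af8363ad4c49893f19ebe4688c4ee7003848c634981962ef6334d36f907b04f40768c2c4a77293806a727f3d096ea3da255e78422fdbb1387a01f4ec2caba0aa3131a802b02d8f0a8644a2f4c2222c104ba3d33aa8de5f0f8b014656da0c16b77d850264c3ec0d400d23a5462e421908bc4066b50b8666c83188106fac90234543588ae2603485a560937a14ac4c9ad0a244d18198182bb71e21c7180d522074845fe4e268ac2c3845b60903a2895412084424a22040d418d297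

noncomputable def t54 : ℕ :=
  nat_lit 0x1bc2cc70c2740cd91089208403483c19e8188728e02c72f0e43ae256965f2f85a8057505788b1e6ee75bc08ecb7786db86973b14a05c3e3f12c293a13538e9299e1b2765b81d405567a540cb669a4cb4cc761596683802c1cc7f383093699071d57a49253d480526bb41ee0f648d88ac63cab9f603278fc188445a994aa48124142d5430c11cdd6088d80984bb85a4056721c62a234275148c53a3470324927cfaa8644286a72621b50ae3120415eda19b617cdf0a200dec3389b8fd0d08909d08f3387ca86488988c22228bfcbae42db35f40b1e329a8656dae0bee555c3dbc4c12aed7848768b9623d219a82ab95502888571d865fc8989ac903083ba21229e1391838f20904dc01a17858967b4d18043093305dfa2d750a075040f0988273150acd67a5a2fc1aa92c0f812086b345280456009ec00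

noncomputable def t55 : ℕ :=
  nat_lit 0x1bc2cc70c2740cd91089208403483c19e8188728e02c72f0e43ae256965f2f85a8057505788b1e6ee75bc08ecb7786db86973b14a05c3e3f12c293a13538e9299e1b2765b81d405567a540cb669a4cb4cc761596683802c1cc7f383093699071d57a49253d480526bb41ee0f648d88ac63cab9f603278fc188445a994aa48124142d5430c11cdd6088d80984bb85a4056721c62a234275148c53a3470324927cfaa8644286a72621b50ae3120415eda19b617cdf0a200dec3389b8fd0d08909d08f3387ca86488988c22228bfcbae42db35f40b1e329a8656dae0bee555c3dbc4c12aed7848768b9623d219a82ab95502888571d865fc8989ac903083ba21229e1391838f20904dc01a17858967b4d18043093305dfa2d750a075040f0988273150acd67a5a2fc1aa92c0f812086b345280456009ec00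

noncomputable def t56 : ℕ :=
  nat_lit 0x25b6d28851103cde310927820a58380d66383416610c703b783a706ca8d7e5f320f848af78959fa25359148e8e0886cf8d473901683d6e3821ecf489fc4ee9431e15a8c5397892551491950ed61a4cb480180b1e852802edcc4d713087ebe2da1158a0458b58a8363340bb033f031e0d736bed5d063726c6c752528468587d0594cd229bb1967760835a298289cdaa57670be20268742914765bb3430d6198adbe06652750221151e618e35d0820ada4919d327d30330d8d38693d927177871d0e56c44552b50f8a0104e4b855eee407236040033320d21985bc9f08f1da587204772c05c9a5b2f2265c219edfeb9550288805559942689588e86b016e904e8824e25484b8893f9f80243a406e6a24050e5091e05de6f50f18965047528910e16227dd67a283e4465452004126119300c64c5e869ec0b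

noncomputable def t57 : ℕ :=
  nat_lit 0x228accc9170a3cde7d29a38410183ab0f2185a16468c7208a9e2295728c1c512e80438c90e949e6b13592da09e0885db86973b14d05c3e30c28e242bf866e3891e1f667582212ae83828132b67024d14724ea0cda56802dd721367b0936067cb000646631ec802c4591cc8e5828646e4a7a2b5b2bd1d8fccad16ba86100b7d0594cbc09429042f55120ea982f9385d11671ddbe26283b0b4d85da34701513b6e20be5c0c102cc6f2cce8e921040fcda4e23150314b084d8fc86aad5e7177890ab033b15c74f70286810737c3596a445fb3604a44a3c9a80c4fb212e0f37181880489a9daa2376b49dc3d218b464e660bd9c81f278d89b0412aa46aa54381e18cb4912574ca431fda6626ea41e0f506c3d007a3186dfa6a75008a8890f288bc221cc2dd7098716d34b2000f812617fa10784c830a01458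

noncomputable def t58 : ℕ :=
  nat_lit 0x77218aedf0a1421a744fbb0f43483af4fc8972c094b00191fde6d356be8b6975a828d46d7eb203a3777c4d6d0a75879c65573ae6064474b3c44c3880a90e7c15b695c76250545c697e2f0ea47713391a21412e15ef263a2c80397030954840701a0cd25b909ccca5dbb5ee683c9504aa764b65f60327b0474995829a020051a89424685a3860921f88d50987c180926649a710a9007a799a676316a085e6ec4922c01632d02727f41462dc16c25667817b61a30c27200e229378ede86c35bd5a8b4462506c5d1e008c29628a20c83d7ca28b20b88949d0b209158bf0e559cc264c22b5d2a0d6828096e421ae80ec54d804b863372a58818781946b0813bfcfa9d3bb54f6836db78e01a19899621c4d385981002ba9e2240b8a018380d859ad0f2694c222047afc90192c3d8120820af83e04561887ca4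

noncomputable def t59 : ℕ :=
  nat_lit 0x77218aedf0a1421a744fbb0f43483af4fc8972c094b00191fde6d356be8b6975a828d46d7eb203a3777c4d6d0a75879c65573ae6064474b3c44c3880a90e7c15b695c76250545c697e2f0ea47713391a21412e15ef263a2c80397030954840701a0cd25b909ccca5dbb5ee683c9504aa764b65f60327b0474995829a020051a89424685a3860921f88d50987c180926649a710a9007a799a676316a085e6ec4922c01632d02727f41462dc16c25667817b61a30c27200e229378ede86c35bd5a8b4462506c5d1e008c29628a20c83d7ca28b20b88949d0b209158bf0e559cc264c22b5d2a0d6828096e421ae80ec54d804b863372a58818781946b0813bfcfa9d3bb54f6836db78e01a19899621c4d385981002ba9e2240b8a018380d859ad0f2694c222047afc90192c3d8120820af83e04561887ca4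

noncomputable def t60 : ℕ :=
  nat_lit 0x488c516441d20480b161b9e08fa2e9b07ad334a2044f630438544966b554235829bdd8c8308513a9456260265615aa4b40406c48c8422396df87b838c20c0e81ad5da2161311d4b484a0e220b21844484b89a3ca44153199ca954318d465c11a289aeb0fbd07e9e0f3e58c484b130a8f8329d830344ca30c50f5db592e26149b954b08000d481967becb0674d1782ae143bfd96c51f2a178f378ac81e593e009006b3bae5ea087936520a068b600c0171929242c5d20908db6f13db90d841c04ece59814a0a7639c4e851741fda4fe49a160217608e204ae5c26c120a1737dfb0b0e8595a28270cdde077234214af0827cea720600112c06d2f9c425782f478ca66114f0b60d8b4a69c2fb814510861b56e320d2ad1a73179f472463d2fdaeee7495c6ee66a154387964b75ee7e52a38d06a090d8403b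

noncomputable def t61 : ℕ :=
  nat_lit 0x65b99a224543f8d82326105a66b6fb75ef096d954b29f491709ae14d4216cb004c0102ba461fd163322851b2f55e354265f850418a433b8d52826271bc146d380dcfc7a0aa99f40f82174f6424d9a1f62f488c016f431ad520d685b5cae380b0d8648d539cd0453108b1b4d433a2a18a02015092ef0f285d48e3231c0e9d60895f27c1f2e1e2282925d56ee52acd88f02d9d6267d650183aaa88af8730249b0cb471691ca1c852f02034877005c182d41ab87a610e0f0c46a7b28845064201206054c3195ee5612a5e6ff13a5a0ec0713a51099093b01cb114b24c0653711d7ab2661d9f8b4718605d1067b91910d5ca3e0a310043c325608809f0ac2308224de0d93c547475bf5464834a9068cd5fc05b0015dadc960d1587d38ad2c1292af27680d9c3f44b71ce3b68140a280221e4cce84f218f03a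

noncomputable def t62 : ℕ :=
  nat_lit 0x48bf5e42954304e8da26b6da6f156265df0933b8dbeca05218acbf2b8609c213e3797c04492d4a47650ae99a535e099fd0c3d82090f41a985dc9649a7d18d205ba07083831b8bf0b82281a071341a4782f898f98ca42011934500d389200342202202b0cb84b4856229a22a320a9df4aa44199665830255e03a1221d3c5409b620adc7b0a930b80e0d9ae057304560cf80895970e378183a5d11880243d5b3a538fc512ec7ef506a241e172531d1c5c86aa5f077459e1a2ae181b5ac0e818502c94359c1f2ec1a1a9845b2f355ba7255910c70700c482ac8324209eb716195a8d946b9c843117324aab9750dd5a7a194015eed0043d144c24b1604593fa05ca8f0d878505175a957a024d90de6b239bfcea396011c96276601d04b17bb388a625a1f9c07d08024663b85088d897619e53ae40f8b5f60c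

noncomputable def t63 : ℕ :=
  nat_lit 0x659596abd1d240eee86a02e08522c35d42d3358d5263e113a6248400ac4ca750ba7d00e412c4610a982b8478641590d0cda2525c620481309741180bd8baa08543098a24c9b4bc4d84b70e2d14a059da1b48c008c543d3246cb7039861c1f7e3d452eb413b8889c2821de4135689030951e9c083072dac0ed0f592d854c85a20dded26f2940a8513b160c9d0438154686fbce26c1181e496dd398e4fcaf533f970bf6c06464be1984820f7739000c723a3c0430d11971a06647b58dc09339899ccf81ab89c532c851c4ab6a97d1878302e468ac7dbf48aa4763c458c428be616380e9ec6ee50f3182a5a1312566c740b2910cd062a040d921269c663068fc906f6611c044f5e27a202d0e3a924a745829f08a018b91a9b17b0d76fa3e1a4aa6a51a252c0f3e9b0fe006dbfc1ce60d23930f4600a0ae3b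

noncomputable def t64 : ℕ :=
  nat_lit 0x89a492a3854154b4d085bea12f32ba4dd1042f81d349f1892035077aad4e64d7bb7832845a2f58647200584659258b05c3f66ae5c480199d970a6709bdda241eb7144aa130561c2169ab564b32dc04e82f658c1f09768b510af162218a66d5db815ecc43a6478df2b03a15088631cfab17914824e4342200a3a3f2f9fc8b7182d12ef1f3c184ea74b38b82a460049894279c12267650183ac83da28e2d85fa74f0111481082ac570c96020522051cc52eb94eae72214543127b190d6966040ce4281a408105e6b3b04460351b89cba16950c4b67e035ab0d019fcd235831dd93111599492a54f1183ef9771f0f4a082c0020e60043c2e0f1cb5c4a9051a9c4e8f5e26d9e9c7582830ab7f8d8a0da6e8798c420a18436a94684df6831b90cc6457eb49e8db881616e3b6ca61044a331e4380960808d80c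

noncomputable def t65 : ℕ :=
  nat_lit 0x899c0980f1d354a8b385ad612b47e13c7f04351999c3e13a9426570cc2888c97b9bdf611842bd889e5010dba6215a7137053a0f0ecac51b95bebe5c3d846da0809016881b18caac6698498f0c16a69cebc65a3c9a8c59084f0c378a74066b43a99e42f5f971cce106961f4f368345607d5e9fda48014360390f19380907b19b64e2408011d0c2c17405740a641b22294834492234181e436975222942aa5db098af40c024f4e42929d6242459040c8527388eacd7c9a512926f17980013697ca2ab4801c946e0a9643c6081990ee9967c35d80e83ade1c5a60ab8e42549975f0957582092fe7811828730b08102ef7427db6b9062a06f100b898a067719f9feca663a4b6ea25a61066818b5c6adc76985a87c228891a050ebf5ea291cbb9ac1f0d2b5083d1c2d8ac00510a80865812395282298092c3b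

noncomputable def t66 : ℕ :=
  nat_lit 0x89898aef51d1cc84ae29a121281139016504459c610304e865fa827f01472146b1bc1ea95d389be31279fdf0c815959e4d710c2dc86c393a4a29e1f8f99eea432252caa5197518d569c49c6d0322706e1b65c0120175c164341219bf172e71741d62eb0589114703308a14b7772b558d95d85a0abd870382206628607094740a81aa06f0245299052859c87342c1e05f49b0d22657b2a096d423304f41e4011cfcb50230a02985984d365e24b6876783aa882a2855b44b8c7479512ee57c9ed886d2d2d192dd271d1106352021ef023396c88b61eb719a4d731486d0612980dc830e8b4d4a56dc0c94c62187c0e5078a7e220206000d6482ab846a23490c92aca660048a415e1d9fe625f349def3101618034869851afa17a9df61076430eeed429a5e8a6883613479579f5c07c16238384c1e00d7f0f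

noncomputable def t67 : ℕ :=
  nat_lit 0x89b487a0f002ac3e16732d613015f1415b042317102ca14bedfac20c870d6ed2ea3e2011123a47e9512acc28175e371c4a36014cd8e568bc86c0978a7cc856239e9600e743dda88c69898e4d06ea64aa2f658c0caec381114e694920914210089d582b57bcd82c75a16108663fc157a9605c3164b139b61e88e0d040905f6b9d934a01f381fece3e835388036b6462a4498cd22c9378183ad581ae5b4614c36c270a263f210877721414083522418780a8a8ee628738e04b87b134d0e41c92424972dadd20cf300a03c4e4a1f1ac712d19d8c2288ba86e6e85949c2407798ca80446914f6384322c5a5921c3459066fb78ae033cc3df2a5669446a20618c9e1000dafc940775a893a7483c489eba1a2d9ce2321220960566315fca6642b8eaf83f31152187aaa9423b5da6d3c5e20aa1f483010f05c3a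

noncomputable def t68 : ℕ :=
  nat_lit 0x899c93aa51dbb0caae0107212ea4190125042fc05b8de04bd4f018882a5185b3a8c0710a162604cfc12accb4c0179c50070398f1760b6fa1d5b116923e1b0213999d21e63854c42869b8de25221368888d65a7d9ee7621a14ed71b298a70e58930541b3e905cc124caa80a9c3fb0cece20505866a20b98508000d255f67b5c0b9e6353795dc08972090f49666bc98449501452264800e856745242d6822582f8fcfa23840acd97704dcaf845add5032272fcc0f9640fe106965114aaaf6ac0dd0372f339ba1f6b1ad6cf735050ee813e020dad814970b24a0190e0b06779745a865e08c8c1983a506897683241a50893d9feb903031a8fe632c9266e70bf5043e0eab040a1660053c39023449e072a039564d48161d6f425b141ef010c30c66742a8d6a3124221748e4d9b07aed4d43c22db60a297a79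

noncomputable def t69 : ℕ :=
  nat_lit 0x898fdc0fb03301ba16453d2127123940a30435372048f1e8e064f052a10e87c300f9fc1c50a59a218279fc110e0ec21b269642e4fa9b692c0669d71c00cb010233900586218cd63969b7c4c43649992e2b659bc84736b8dc34c75925406ec3b218024b7283478a33d1842289770d97e8736431c22e10ad9f47962b0a208b092b05893650a622b40581d6ef2222614c461ac15221f6f03198f93d809380e7113026a9838c4b8e959a15765b5226400fd2eac5ee8c73c49d4e84f8d0b20a3117ce0c60a36a1a900ab5554758199c9c567c3b4aa1e4f204da2360b412440129dc40be0d951280f41924dccd2933d7506390c012e687a3850f53430d4045569e020f675a889af346af4aed46dbc5de9a252202e2d323605f0a5e29c90fc55ab9ac5e3f2e00a820c888823a722bdfe5a120ed6a2729c2c54a8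

noncomputable def t70 : ℕ :=
  nat_lit 0x89b7dc01e4fa5cceb34a03e12f34189467046b0900eeb7fad90a186c44042540133154195a2c224fc4990c8acd1d0b1e4a31b9edc80a68a01869d788bc289a6dc052c843494d90c0698987f0c0440872006586cb468741ac647049254d44451219623b059e948c42e0147108684145ce93e9fc6c2a2a8454a3e7eb08b05d6380513062595e22ea5799902e21421d4c602838522f80ea3cf2ab27118e2f46c9314efb23a081a982906936233b958607e732b114176334942b85e33df2bb3998c24d526b70bc5b60b9d6b0b0a8b57241250d0e8a914ae9189081ab95aef1a8f21abe87991ee0e839d484d40b3b56e4f718ac7a8b37c01d8613114480c95904c628d062f4ca9c541d93d0e139c940ce0fc28dadd3e3e91c48031e110f02cbb8062062b5dea101107132de36394126e6d329fc042f9257ef6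

noncomputable def t71 : ℕ :=
  nat_lit 0x89bc53afa258a09ad03008a12b423a81650429b39b43a7f8154ef042078da90248002288843a5be182805884398027160c7311dc14e51fa6125118903040666d81d0efb0940cd044699c9c6b337091d8f66581868d5519cc26b870a98c6d4009305c6f36158ba7020bf8c2f3860cd7af24d948a276463d4b02b42a5552b9742fce225878a5c02c3eb701a8087365850b77b0d22544707460551e1d542194b2f9fad883a0932e2571e15e1f732e91a1a3d8a88c593589912c41d820420b63305aec886a685a4a350dc70940199548b7323242ea54f1e956f86b1fc6c932022cce864f96c041c41a29dac077114b83568aa07a4e5e3ad9ab573ab49e5a82b1462796f2c4bcea1f2b0ae9713b4a0d023e03df21411c411e0e651f9e8fc3a10cbedd191a5541085121022f5db9012cf8086d6c040abdd44cc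

noncomputable def t72 : ℕ :=
  nat_lit 0x898cdc00f6f1559e503b846127a41a15470445271122b1ebeca4fc0cc2990674592e20052b3920af06293cb659542ddcadf4b85454761b1b1889d5933192b413a84fa881f919802169b0ca293480b0e90f65bac3e44890e5667238309ee6d4c131b28e00b71ac261236152ba77ba12c0a17419aeb01b87838ca3fa98905378b8902fd178a6224158c200e0b4626d2ae6192e1230d468c076e7609741ab657af95cf423a09b4bb128597a1401a68de432fbc9487366b8532d20e951aaa276009c6d4043cc846524c38b07b85bb606ce2f1f0d60e4f198c44d3aa8024130d1a8dc86060b4783883ae494f91a992047e5686c1263478f82ea5141a4f02363b4062bc0021c8a5c033a4aeab022494eea102a8d0346e888f2b51d3b9fc1863101285a86345f4107a98602f65fab1fef838c0108db30139009f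

noncomputable def t73 : ℕ :=
  nat_lit 0x89b1d3af56618920132fbea129a23ab9e3042e9041a060486540fc7f0448808608301e84331d946f059868bc6b6509054b246251d2f234a88e5117443c3eba022057ab656ae4da68699c0243286970e6de65aa1baf91985ddee16930916d505a18fa30402d08c927522038dc62b7d36ac43a147e0a140896aeb12a987075829b1b4520015dc1024b1e8e2bf73ac52a156809922cf1daf11e977bc0e02d8171320c0583a09420153901b25a304203a3585b90a6cd3a3100ec33c93580e22c9386c217c158c8421e1541c033b96d142c76851d86114bce1c6e523f5a30c77008a8be7b114c6a541b585ac83c19538166b8e9fe494686d8c4855b8c86208924c628e4fabc94ce803953c376dae0feb71a079a82364aa8dea91f13df6181c9f9cc7c28146141088161124b4c2c07a674c8ade8273d9a9762f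

noncomputable def t74 : ℕ :=
  nat_lit 0x899709d0e3c05d4eb8072f9ac26311080f04412b4187e600a4a2d35309dd893739d88cd50eb489647479fd92c26caf036160c0711c800fb78d8f54dac0e25030430f46d799ec8804839060c79748d8702a642bc28885098cf8691d3355219542d4611278828ba3b370f1b09237bbd9e5e5920468cc3425cd4522d9251603448818ac72b3e8b2e44fac4020670420449432950b03365261b4ff8815c46ab4388494372fb99d0e133ae9b8a06db10fa9085ab0e6053a2f49eea6bad2149c4f3f9d6cb5143d86251e985f9097b8b52a701f0c82111630b0aab781bf57ed009845daa405b45e0777daa95cd426a14242b6e835149d46be108f90aa659ce333091190580395c4df51bd9826b14404b4642000898ee811d566534d3c86283529141e431f86922b61c8261a96040bc90bb390b83cf4432e46a00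

noncomputable def t75 : ℕ :=
  nat_lit 0x89af0b08b334401ada3b9b4c09669b4461042987c4c2f461a8a46123a78703a2f8a9c0046b8697649590809af9349c19e817ba085c9c1a0b50097163887e7d3da35d6b537c25e8447e3c89450588d584ac3423ddacb5015d427a32bb052ff28c28e4ea041f8050c2a0417c6e0eabd34de6511604764411982bf86bec2e4c1599d8e7c4d9ac786c6f86c6c8e55030ba947c2d0227877b947631528f546c84380c84390c40d5ce477400f2c56b365a10f243d83c733a81dba5c59addb0e1142a588ab3f8cd26246341cc4db41ac17312538953a914527caa920e2a1fadc38c44862178a154c09783d42cd50a419a4230996cc6b65c30c1ecd4233802ad4816832bd05018bc5620331fc277d420c83244a550ca271815e6e67484980e7873a06ec9279049c590ac2c7d0125ae81c0b82a60e8d4520893200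

noncomputable def t76 : ℕ :=
  nat_lit 0xe956100b87bb91c5c7c1e9b300393d51e6f81c340b09048b99c8a5216d12f644331c2902f3700e71780dd4a5058a1c4c497dbf53c4272c30d8b65db693440432f222217104c6cd407a55c8b962bd1f23a8842988eb0f2bc8a4b498881aac220fd07130aa9846ea49214ac0e16b2c608d3db5a04b74d8943ea81422c9ce966c05de180d9ad385a33a10cce38305804d7189d97ae6268f8e0c383bdc344f59988940a5a810d03c82aac247e4fb4d84353730190ed23ae8b104581942e974c2a440033e2fd68d17431d2d0e300eda09453a01c0a13a245e68c4c9e038797e15c987f50164d2196faa8da5316090707d512b45e9d8942d02d22f945046a6a918a8756c01970612e921f4291a39c206415bb0106313b6dbc336328dfec96790ce6dd78bc87232651ddfcb206050543d573057c52089040200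

noncomputable def t77 : ℕ :=
  nat_lit 0x5e0edb2cb8798204e21d32a011145a5cfe7081ab545080c835cc4f738a59b0b453e20cce2a84826ef50c38e822642e1486313241c6d14c35dea592387428f20f37a122f4a2b866d43d0e0c85d0bbf546f65903c30753106d9ec9461e40c763301522da6f9c9a02d56381066543831d66f6301c7cc03f118d4a82dae9dafb0d0fcb04b3db94789d55b74a66b36185a45c61adcacf482c356054533f1f2f77536d6c9a5e8d4725a261f0806757c28a0520724860570ac1de08d821dc8ae14f0d092814da64dc2410218585f1bbcc570c7d2709471272d62431220106cec442951e4d62215d02a398c98abf0b39004dc5f23810802f330224177354f0270e04126b11ebf966431182450a70fba554425cb09b06954b1e26514fa2490a036a59760a6b1f4062569ad1820b88211fe21788ba0282342540200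

noncomputable def t78 : ℕ :=
  nat_lit 0x862c08e0a81bbc5cb3491f02adf5f191b2da543f806bb460a1cc4d0787d72763fb01a2ce383b1f63d043c00e890b17a149169a421a9d8121dc86c22a503c5031b5ce63075098a30f55b707802443f5a0ac4219d8c9634a2c9eaf85b34b677220e620e236a8882f332a5c180989268871383ba41a6e2bad9ca011a4055cca2e9a0429f5d23864463a36cccad1243880b87c2d196f4888183a3a0293047051dba20c8605a0896258493984a5391f9467824038c2f1678fc5ede5e06514421f38d06a076afdfe802b124c0a12c4112a2d13aa9c2d809ac91acc4c948661a47b5a11003dbd57a3162b81f8531ba70247940b05d61037add88f2388706a981b165ec2c588a4aa5f6924d526a359e90a5a1c3e4eab54f080b8d5530aca81b7bbb82ec773889924a4d8a94edd0a18986c8523e822040c1f5a800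

noncomputable def t79 : ℕ :=
  nat_lit 0x582cd1ebd6a259cb1361ba4fe4d57a15105e87b8d4c4c32c099c457881844930b8c494905c0e0e8ee87058cef21eb5d5c8609bf552e1352f0b246841c018d24d4120a586d1383801738adeacd39bd1845448a9022080a3248e39049f47cf63341c926f8027df2941d2a84092861585f126229530cc6996853030686cf8073cae8c0685007dc84207ac8a6345b320bade1542dd0e627a78aaff631b5d8cf712104acb34a087e647b9e8050a258988078603e0429b6c9ec6ef31dab176e0138a18ea2652656f066d828ea61163a9461d60890645f5598c5a1922149aadc629f9f88a40840c47788a71bebf589b17295391ade0d143a317c23218cc6aa728a7490d838c34b8300d0385cfe2db59009744849421e7d3751a360c140dc030abae120b2b9040a3c7d9d95ab541c4168ef76a39160480b415000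

noncomputable def t80 : ℕ :=
  nat_lit 0x4b841b49c1c8f42c6412089e4be05178a8663ea98ca4c6aadd06e547175f84b5233ce84819809ea293b9d4821852bd1f2895931cde7e862c12d04311021eb6513dd007f2b939a2fd6226933033d02d760045021f4632a9404ed629b49b8f0572486e697405d97011ab7e22070d049c8585e3b03aa87738a0aa313045ce2355ae2044976886167270a4c9ece2cc24185f569c05ee60e2cd82ff4fa9c0c1939a3dd6d96a439c03889260290840bbc5836168fd58090db188a1e212401a473d855c66e899acc0af7f234d4db83910f3104f0ac5c95683e0d0b45f815725c463cc8c842b21c75062536006ea643a4ec2845b2476cd65274b7008508086bd699c4545a3c07dec3e6001060617894552a05a83dba13339f1840e362e90cc37da85bcd748a161a4d1a22128aa589b58a82128f064312926d9801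

noncomputable def t81 : ℕ :=
  nat_lit 0x339fd6a5c6ea0822e34e8dd2c7c2f92152e06828570384618da8f90bb25d2566d0b5e2ea274244ec03d2ad3eae4291084bb52a41f8b134aa936815b05442c13044508460a311fe8319b09aa577b26078015c8ec7c43731c812d30c0751a2b29c2068af66868a2a27f37046544739c16e2322fd2675518304aac45409d6f75436c2c244596c751001349a27e89b84b00d4d2f8266e433ecc44f1fb2dd00e25064244c7e820f6d96c392061e35b3cba2f77905dcf543a706492729a0141b3318578550fc12030c6437c50654a419f4501c8c12eb06b92d8f056180c4cc64cb5821007c11d40f436134e25e1a9bddade3b0b21c061e9261e805e9e16e0f79814082948964ee792d0c5e04062a9c0f0b524293c36171c15a8f39acd10ec5d434d47d102c94d1211070da956741ce8ca5a224a42a22bc800cc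

noncomputable def t82 : ℕ :=
  nat_lit 0x1711948c64f32a04bc248d1367006ba80e7b6bc35b6d94c90dfa420d0b0def85abbd8a5e62384125a7b2a07e5359419ca3c429a1d2ce57a55e46b60984b6628088e0010818cc9ed4272b518143bb9112cc13438f2b737441eaf35724dbe300c078450c032394e6064235eea90bbad300c71b0da4ab5616168ee5c85825113a994229d3b43d405084875feb10f809c40a611f06c55442e96cd1209459a8f36039ce38418eccc4c2682cae92820b5921367a7d462723970a5087cb1cbe8770100c8e62ca0544691ab71bcb836bd07c726ebc0ceaa3e9592025761c5149c6ab4cfe802586e164439c480a487f3f1166a7697410e841090428407a44c70a6b00c62c01044cf4fa148a856153a32ca83a6d2f4722f4baf93419253ec38bf59a9850d03c29542d81ba1a0eb03f251e23d82aec8a04192580200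

noncomputable def t83 : ℕ :=
  nat_lit 0x1711948c64f32a04bc248d1367006ba80e7b6bc35b6d94c90dfa420d0b0def85abbd8a5e62384125a7b2a07e5359419ca3c429a1d2ce57a55e46b60984b6628088e0010818cc9ed4272b518143bb9112cc13438f2b737441eaf35724dbe300c078450c032394e6064235eea90bbad300c71b0da4ab5616168ee5c85825113a994229d3b43d405084875feb10f809c40a611f06c55442e96cd1209459a8f36039ce38418eccc4c2682cae92820b5921367a7d462723970a5087cb1cbe8770100c8e62ca0544691ab71bcb836bd07c726ebc0ceaa3e9592025761c5149c6ab4cfe802586e164439c480a487f3f1166a7697410e841090428407a44c70a6b00c62c01044cf4fa148a856153a32ca83a6d2f4722f4baf93419253ec38bf59a9850d03c29542d81ba1a0eb03f251e23d82aec8a04192580200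

noncomputable def t84 : ℕ :=
  nat_lit 0x13352050f4d2fd486f258c53ebb42a8838985d0a1b64a5eb9c20aa57bf9789d08bbcdc60623391e790287de413054492abe06c39c6e10d3947e1556410b8ee241d818fd0d8cde64627376144701998f8cc171a0b4eb62b2c324f17b703b081b3c0548e4a430e45e2eb49da8834adcf700748f51b1360a01226233b68c68b2c9956af811b188a5158b7da709541f908b21ca24307454b5d46d64b1420e092609c86733fa41c86c223810e2b308b46a5367a6d6c0e0a16c7430580214a5705a05f8f13a901d41764a4d4cb87436180a7568797242598907678411e92e2107bfd065824c0c644d1c419ed011619222a17bb218e6d7615938e26aad0248c689dc683e82aace2297d089246b2ac410c520b26584ae450f13cf56cb400eca3eb7a1afb1297cd4f4021519af901019ccc3101c14037859040200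

noncomputable def t85 : ℕ :=
  nat_lit 0x563a88226883982aba01b4530c0449185ede2544488b0273e9b0690a0ac18a01f91438106abb4d0be7b3716a3b641955e5f7f025c481728e1c87e4d059a4c280a98365e472306f124cad8661a3bbc81acc63060c63e1ea798ef304085565d873a1fef98440cb260591d542362ba51366f7d880b6df173f11e972e184db0d46c18800584875f0393b43c450428a2dd2bb310a5528278af15a345207d24b43e8960e952694cd4aa41a582ecd58949e05419368ce90422e45a06863d478801404566ca53b39444252aa0f6f4092e16edd39325464c360e84e0e3c091388a6234c908785c0096db683513a7f429600466708c15c1e2a9c52647022fcf2316b126147061b2cf4433e2f459024344c26564f8a8a0077716983056bb8d8a913208dc073760d5eefd279d1ced935bad106e0c829de0f6782c0200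

noncomputable def t86 : ℕ :=
  nat_lit 0x72845a6ee5486424f04789d5a025c13966390e888ecbe1a8ad32ac27951e41769409902d7411058363f43d04787f35052eb883651303311bd9806140687cdf820ecbcf14902d066d12b14080f5b2f0688a6c310c0ed198158c4050a5c3687432c530a5892791cfb24439722074835d4fc353845e8d0a1e878c04dbf5f21e4a91cae1839b90484533a04dc69172c12ce779854d83f0428d6ac384a41ac58292fda0de00be886a26e17020840f95a022a3838d82684fc34b25b280c5ed0645af55ea41d1ec18da28b2c82cd5a199d87542c141c093fbbd927c2a858ee3267125a2463cb5d511130b6d19074a2ed4c881e9c46e9a7042cc9005584e14428632900aa2d29dee4b2ea4cd69c4e98c465f678e0e803843749a72183d56e1c5d24540ae32928a6c705085cc7d89899c4c203931aaf87fac9e800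

noncomputable def t87 : ℕ :=
  nat_lit 0x5aec90e7772d8e4331d0d5161f221b0b4db723d8f23801bad4cb05c2094a04169b4340149be5b10c2b441905d742c566f34a036269e3b0255c3b6e2103c7f23191cccb252240aea88bdc9a851193cc0e1310c8aaf508315a4ca46020eaa843400d4ce2105d6b070cb3d1a5f828097c963485212fc1b8c21e4917105786847201861539ae84e28538f1fabd6125546431535c2c8a85ae5584535b31ca40602fcb67c6abb534312bbbc1854332a896ec28c04b8214f8707c7771265a89114abd30744d97826391338c8ec912364567e380bce288509e8a6fa08a1cc66f7dc183a06160489cb75113138f2408d0c2c4483747ea96d19e08221ebc1fecd63940dc1b56a5de8f17f1e1d2df85029a69d12c081cb43da92061860b7a1ca07c14924ab1b436247d6816564656b03cb08f03b818cd1104210600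

noncomputable def t88 : ℕ :=
  nat_lit 0x899816c9a21b4c2a0c172d166d95e21d16e07c2c5b06d120a9448e7c869f7036aaf8a8c62e93cec7d0da0508e83c0895aec1e07dca04163107b0461a08428c1d91a11010e359ee388720d3c512411022373c825767c09bd002e26f99cac6c433d97b076493560a511c452d0a8499a04b9578fdd2a345171289147a017059563f4501239b440657044408e981d2d51aa9159c9501453bf12adc82aad1250832fcc6ed69379dca6228c1e0c8069d596eb07bc4f43e4fa48d00a2018600c02d1a8d271612c8664c4292cdd121a809e6aa131ad48324e30484f51a139a088791497464310602ccf4cb68fece87954626f571d1c2e76da5c0cd466040be5332960827e14c2c0ae349bf85ea11016c32ff5bba9ba27730382ed777be84a4a0e9261a9063a819a363b878f70c059c1949b038e45ae44e9798a00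

noncomputable def t89 : ℕ :=
  nat_lit 0x899816c9a21b4c2a0c172d166d95e21d16e07c2c5b06d120a9448e7c869f7036aaf8a8c62e93cec7d0da0508e83c0895aec1e07dca04163107b0461a08428c1d91a11010e359ee388720d3c512411022373c825767c09bd002e26f99cac6c433d97b076493560a511c452d0a8499a04b9578fdd2a345171289147a017059563f4501239b440657044408e981d2d51aa9159c9501453bf12adc82aad1250832fcc6ed69379dca6228c1e0c8069d596eb07bc4f43e4fa48d00a2018600c02d1a8d271612c8664c4292cdd121a809e6aa131ad48324e30484f51a139a088791497464310602ccf4cb68fece87954626f571d1c2e76da5c0cd466040be5332960827e14c2c0ae349bf85ea11016c32ff5bba9ba27730382ed777be84a4a0e9261a9063a819a363b878f70c059c1949b038e45ae44e9798a00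

noncomputable def t90 : ℕ :=
  nat_lit 0x6b2580a45639a1281e5f3b8f4091f8c5970000bf9a8884e1889cd98383178c542398303584bec7426759353d041928cf6e011bbe2603032a9146d2883c2f11331099438082f5dabb38a8586272a384584462130ceb47b97c785c681bde3065407c16ae61072169f120b582813ac04542e352e01a46483a9bc803f124e6d26d1482a0a6637d48fa829fd0caf74159e682014394c4f18420bab63c85130e920a44e8d1141dd74166e94cb70a300edc45812a5db67c1bb4c87034abf4a08758b95130f20361c88f1f3f144b57826d66228840906cd0d1d8564a2d26440ad7c91daea7473d180f55f954423d09a4cdc8d52b2156b7593b052c967370fa6b02044c234583d90a392f12d730d49268ca577fab03a720da819e363c43066c6241b152f26a9c1c68c0c84a240e03be0c88b348bcc69d2c821ce00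

noncomputable def t91 : ℕ :=
  nat_lit 0x72835b85b34248501a5c9f1e68e7db0136ec38169650411c08dc62792709e0a638b8904a4a851825f73429aa3a77aa9109700bd8d465089e59ce84f2a4fe363aa8df86626c4c27013929108c30e8dcb09f82b64703e87861f0cb68aed6a4923c2dacf96a20452ae1e230c0c82e8ecd62f4c2f0a0221eb882abf262447e9d75185a41e5c3b408ff2f098a4893b448df0d2109d0cab3212c801004384d300362645af72ca5168a84d29c6a7474c25161b41159668552881a61261105c0161a2bc0f0e64b6c4a0902bf8627b630ad1ac43e94c0678122588ccf3f289be6d483f5dcca151514c17272b220cc38b690e678398c88c53d3c458d839871e8300cbae0c8f032c16ccd2aac47283683c0eeb7739708a515f43042ba0f95c1ef56ea01428a2183864d76f0315afa5ea82100205b8e22337224e0600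

noncomputable def t92 : ℕ :=
  nat_lit 0x5539cb818014280c0a7cc38aa74298f880c23a810420c7ab70c69e2695e160752835fe582fb902cbc4a0911e675b26cb2228922040f248144ee2732b0d88fe558fd2e6b6b93daaa00eb01a2ba5424534ac2395854994aab4d2dd6f41130d21e0a0def0403412c761abacfe1330a303cb03f1698ccc6dc4cf8cf539e1ee0f438704ad415bf0c44c7533590c16cae58eef369399ce37682458b21a104e4e6518f40215168c502bb5aabc84a90a07c34a670ae2070824a2400705e9a9266c6c1b98a487602dbe437ea7566607992823111bab9d2f47d32a125483821c4506b249f69c11978e668658cc600e321f515056d4190cbf1485c24052d8bd6e8b230c904451b041068d4fb2476be7006542ee25ba202e53d2c5a6a2019e44d101d3c5087b5a0e4ba2e52111ed00334311c527c43471020dc3d0a71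

noncomputable def t93 : ℕ :=
  nat_lit 0x3b448fa2435b007e00622fcae60839a456ea308b1543c1a3f9d0d3203e9a20e31164d47444398e21c5614c449710c1122fd3fbc9ca5633a9dace01bb3c2e4b380b44c126bb849a477e349f2bd6f32c88cc671913ea95e014b50b3c0cd570e85249a0c75bae874195d8547cb459920402a1cab914ef60c059043712189e6d1ea88f28b64819028e4da693298760c8f82e49af9d2360f270a485502b41ef32fa99182f41a093a3b738a622953d8c542c32844c30f4391cde2db03939486c87bd60c357184ccaca31bde070843954185c1c315ec2584b90bc1a772343677529b9aa4a6e1308ab26a07c92cd5401082fb86ad54700402e55e5b6fa40d0ff61258f43042251b50282ac0fc0d13b64b1100b3b5d6b12323c3af02895170756e88d6c1433360220b44be0505d08028120837a798c4201804050c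

noncomputable def t94 : ℕ :=
  nat_lit 0x4ec14048d480812c7109934561d3eb8d0cff4e020b0d2478a831101f155e20b5db6c6663420bcf6f5343445ae2081d984057b3a61c3013931263c723e96a1f738d9aaba6297924d8771e5a70a3d262229b57852125614988ea5b67b997aae65294cc3400351283b44284ce3958948226036010ca4435b58a281740248aa2580b0a6f239bb4fc17210917038400d5b86e18b64b449823adf85c4b919e87c2cc49d43d86368f08b4644ce0b77cb0e00a825a15aeef06a450707842e49ccb134088e746eb04a8214481844a343aa9c07f0a9c8be3f7c03dbcad5b058364f17121a0ec061921e6d051017c1e00b31348a8081de65d4cad074ce5e20a1a377810dc2df501413ca4648a04afe832ad8e410183894e54aab0df0b54bf4461a81ac988bf0e299668e641853e772b9a4246a7db194ec00cb3464f7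

noncomputable def t95 : ℕ :=
  nat_lit 0x3a4441678878dcacdb4f41c3e3c35831348e7026cb69d34b79f4cd69271909740ba6207259b752a3b51139a693522d8625d2014828e46384110991321868bd262b9e0e510876124464a29e2b81109cc4df87065da87583ccf50607308967619c100e2c0b1c18a9432894a2a56312814e32d109eeac55919ce485786c7004711f8547d8405522fd3882206754017da2d03bb9a00005e2f88279173ec30687cbf9a8b7652095af860bbc263e7a2e4def5760340c6e141ee04504644cdaaa852c89ee186ad5087c6b3f17ea101404b8e82f29c60b14699c9a5461a48ccba7f8441f0c3f9a99e09229b07a8539b68aea9531908e9f6ca2c02b465b386af230965ec32178e85a8f0d18056431b331d4241192406896a8e4c6901f8a506200b84a16d8502eddca32a94d80c48916151056e2600aeb6ba583c1c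

noncomputable def t96 : ℕ :=
  nat_lit 0x5829c4c8f6dc31eadd4581146407d830923d6f33d989e62a40287854bd1d4874d0edd05204ad41e074cb290623162eda90d4a0c016e93caf5022d36b461c5c052a886f62735c56e41e3b606e60e9ec1c61758f8e4470b0a8a21a4e04de0f782ab47e7f7cbc8fac41b445746f4614e10a435bf89044128360ed50f3f145133022484a07c0bd667759300d84a4bc1190760893158ae23188b09d0bb854aab4fc28e88469249148e3d064a8ce3e2f096a661b9e0c1f11085e606372d08aef0aa61d8331c0e8fcf12fa02030913b1c02552d964200339addb8b94dbe9fe3112358d082719a97ebe4ac41be910106c9eb1713b92c296c0d0ce3961158a06626a4c6ad0801c040cb54001a6cd31ad910413495d92e042c4a04fd50ae0cae5859795e1c1b848645a320a1b4750c43ce208608b8ba8646b640ac6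

noncomputable def t97 : ℕ :=
  nat_lit 0x691055c3852108b2e2149f93c5733b516cd674095af1380310e25d56a8a08a8372021093200b5745c5a17c3e6d8481106ab321fc7ce35a9110cda8896d1adc3ab314e8f82848e04e0e9857b0a291ccc0f781b2876e71191976c0863f9328a672521a0f7ab25120c4fa3134a10a91d9a287d1a003024a929370b77c3a202253199b2a34e9ec04c813844ec1c28869965083858d4f47736ded0119b0890211eb4030b869801fa7831b84faea2c3a52cdd1ca1de4af45addbc147338122ac04994d24d481d1d856052e5fef31a178d6b240ac03ceb62a70646c3c820b43542249be0724931aa3717221ca311628036b17e1dd830f058e88a24312cc56d85f81586aa7cbc11ccf5f0801a9763b18a819548404d122ab44f4361505d4a1329c19304b5e0bdc83c429f1f003789bc7e4318039da06279c904fb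

noncomputable def t98 : ℕ :=
  nat_lit 0x6910c56ee56c35d83b529a48c0f4500cc2a832a8c50e969b3c2c340d038d6ca801f158c986345ecb33eae9b2ed1017cc05500b08db033a115c0922f2394e7e683021c3d4e38cdeef7ab90a438660b0eeb61502154271bbf84312468410682029d90c1f830fc786c443192cd82b201349026315ca242d354d0b72bb044c0d64405e0f81ca4e206720061c4bb3c07832af510740c3a638d41244398305a72013ad4c7f282316a59790a536473daf4850b57191e6fc0541128367a23ccc0061af1b8be82c3e26a965b99ae5403a90e2a14fbee22b84497132f717211c28562262125d0b92c267911b39d0da05afd56d44ead062b108925fb080e22c28d6091887cde50055ba4d59256149e1125dbeff78c099a7a43810a26e2c104c6b91996dce3058128ea326dba84a91279c1f22f7d41c9081271a8a61b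

noncomputable def t99 : ℕ :=
  nat_lit 0x3e125540d68065c81754800508c43b158cea1fad5da8f738e5c0973b26856f848091970a789c819027910c806d57850ac471bb25b4dc49285401569308fa6f101e442b07aa120ce86b189484c56a0d382e5b9fe20ac2cc3510615e3e9ca5f870c5f2fe6e990a0ab4ea6060a24b2d882533633c34540c3f476a36530c9e686d81c0aec3a05914a66c0983a041b44e0b0f4caf60103849b97466198e05a8d2f3d8e06707a19723a1a239cc4a5f0949a692a86cc6c16f8d59ce34a84e16d33b9c43e7375a9cf6d514b44b8605f95c243e271f9de02190b188a522819d22f400f53ee222070b42a053784efc8882de052009ad64b370b219ad7799e81d0860175f60349bdc130442a2422d91102096b43aa6d22b86a3fd023c32bd116a8241a9dc518941cb0104f31d761e809e2184641109285b5888d98ae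

noncomputable def t100 : ℕ :=
  nat_lit 0x273a8fc37731c47073373ed2a23804390852380ed885189ae96c01368f9703544c10fec53c180ac69713d96e437703928900524408225e24d42808136a22d718c30560b2cb311add6fb8038ed473cc1e6409390809c2c110de0955a1d7f062da81064f80a91e84c65ad020ad3d27914e96c86c7ef8229a1c6b53ebf8ae8c49420ccff0a88432506c3c1766b7c9544a653187d32a360bf0344a85318483031219d6f71e8620e1d40bbd0a2835321a2a901108066c51015a7090a2cd04b903b549641244161ad46b000550f72b3c2cb24ba9d4c47579d5b83461b25e2537d0cde4060ba5980547e97216a83ca3dd05a5627ceec23e449ea7b3a4418e5d81830401165078267266b486c49162c57c5f1d274c22e442f48c6716ac0bce71e3b19c29680c9549813b79b6ae45a6c9a9a131d94ae11c8345e08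

noncomputable def t101 : ℕ :=
  nat_lit 0x3b431f66062b94aaf2818b9bf0d6e9ac50b94196e147166bc0c42c518dce6be42b5d3208150cd405e51080987788b7118f73e06c24c062141866355068724800b24305d098f4b4056b0509cb783350cc9b8123d8e5616a346ac65a2e90eb86093d6a44369b09b047326994191114556d544bc5f8791fbf95e240f41db47e4fafd78063491ce4276808c561f4811a1cac0e994683b8005c1ca6719a086973d0596c8e573895a6a22841509e849d0a9054b309b6cb24b4502bb6617006263ab20c8252c3e54236252717a7d298c1dad220bbdb2eb7019dd0ea4a405dce7178700ee9893e0231306109b07b8812dfaf54ea21d8823c33e160048a901e8453a4c74fa7fb4d60400aa49c802529bc620437260beb1292cd648b108c8fe7005a29ec594a984530f1c3787c0979aa4143c2bb8610f4672181a80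

noncomputable def B : List ℕ :=
  [nat_lit 111, nat_lit 99, nat_lit 128, nat_lit 102, nat_lit 33, nat_lit 11]

noncomputable def E0 : List ℕ :=
  [t0, t1, t2, t3, t4, t5, t6, t7]

noncomputable def E : List ℕ :=
  [t8, t9, t10, t11, t12, t13, t14, t15, t16, t17, t18, t19, t20, t21, t22, t23, t24, t25, t26, t27, t28, t29, t30, t31, t32, t33, t34, t35, t36, t37, t38, t39]

noncomputable def sl0 : List ℕ :=
  [t8, t9, t10, t11, t12, t13, t14, t15, t16, t17, t18, t19, t20, t21, t22, t23, t24, t25, t26, t27, t28, t29, t30, t31, t32, t33, t34, t35, t36, t37, t38, t39]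

noncomputable def ul0 : List ℕ :=
  [t40, t41, t42, t43, t44, t45, t46, t47, t48, t49, t50, t51, t52, t53, t54, t55, t56, t57, t58, t59, t60, t61, t62, t63, t64, t65, t66, t67, t68, t69, t70, t71, t72, t73, t74, t75, t76, t77, t78, t79, t80, t81, t82, t83, t84, t85, t86, t87, t88, t89, t90, t91, t92, t93, t94, t95, t96, t97, t98, t99, t100, t101]

noncomputable def g2_0_10 : List (ℕ × ℕ × ℕ) :=
  [(nat_lit 2, t40, t41), (nat_lit 2, t42, t43), (nat_lit 2, t44, t45), (nat_lit 2, t46, t47), (nat_lit 2, t48, t49), (nat_lit 2, t50, t51), (nat_lit 2, t52, t53), (nat_lit 2, t54, t55), (nat_lit 2, t56, t57), (nat_lit 2, t58, t59)]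

noncomputable def g2E : List ℕ :=
  [t40, t42, t44, t46, t48, t50, t52, t54, t56, t58]

noncomputable def g3_0_7 : List (ℕ × ℕ × ℕ) :=
  [(nat_lit 3, t60, t61), (nat_lit 3, t62, t63), (nat_lit 3, t64, t65), (nat_lit 3, t66, t67), (nat_lit 3, t68, t69), (nat_lit 3, t70, t71), (nat_lit 3, t72, t73)]

noncomputable def g3E : List ℕ :=
  [t60, t62, t64, t66, t68, t70, t72]

noncomputable def g5_3_6 : List (ℕ × ℕ × ℕ) :=
  [(nat_lit 5, t74, t75), (nat_lit 5, t76, t77), (nat_lit 5, t78, t79)]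

noncomputable def g5E : List ℕ :=
  [t74, t76, t78]

noncomputable def g7_0_3 : List (ℕ × ℕ × ℕ) :=
  [(nat_lit 3, t80, t81), (nat_lit 2, t82, t83), (nat_lit 7, t84, t85)]

noncomputable def g7E : List ℕ :=
  [t80, t82, t84]

noncomputable def g11_0_3 : List (ℕ × ℕ × ℕ) :=
  [(nat_lit 5, t86, t87), (nat_lit 2, t88, t89), (nat_lit 11, t90, t91)]

noncomputable def g11E : List ℕ :=
  [t86, t88, t90]

noncomputable def wp0 : List (List ℕ × List ℕ) :=
  Fx82.wl (nat_lit 104) (nat_lit 0x69965a000000190065a6990000001a0000b2ca0000001a002cb4530000000a0068a28b0000005100699699000000020068b29a0000001a0001328a0000000b0001328a00000001000026590000000300019459000000110001a651000000190000b4d1000000d3000032ca00000001002d14590000001a0001968a0000001a000134ca0000000b000194d100000011000134ca000000030001329900000011000132ca00000059000004d1000000190000328a000000010000b2d1000000020001165100000003000000d100000019000134530000001100002651000000030000001300000019000002ca0000001a0000228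a000000190000065a000000010001a2cb000000010000328b00000011000132cb0000001100019651000000130001a2d10000001a0000b2cb000000020001a2d100000003000194ca000000010000b45100000013000132d3000000010000345100000002000016510000000200003453000000110000b4ca00000003000034d1000000020000168a00000003000034590000000200000651000000130001a2d100000019000016990000001a000002d3000000110001328b00000001000134510000001900019459000000020001a28a000000190000a28a000000030000028a0000001a000006510000001a0001a2d100000002000000190000001100003299000000020001a6990000000a000000d1000000020000b45a00000003000000cb00000011000000d300000011000134d10000000b0000045100000019000022ca0000000b000006590000001a000194510000001300000011000000030000345a00000001000000190000001a000014510000001a0001a28a0000000b000016590000001a0000269a000000190000068a0000000b000004d10000000b00019453000000010000069a00000019000000130000001100019453000000020000b4d100000002000000ca000000010001a69a00000001000132ca000000030000009900000003000014d10000001a000026510000001a000132ca000000010000b4d10000000300003451000000030000265a00000019000034510000000b0000065900000002000000590000001a0000009a000000190000069a000000010000000b000000020000001300000001)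

noncomputable def wp1 : List (List ℕ × List ℕ) :=
  Fx82.wl (nat_lit 47) (nat_lit 0x194ca00000001000ca69a000000010000030b000000130009945100000003000cb2d10000000200000853000000190001968a000000010001a65a000000010001a65a000000190001328b000000010000b29a000000030000028a0000001a000022ca0000000b00000022000000010000228a000000190001a6510000000200000311000000030000265a00000019000194d1000000020000089a000000010000269a00000019000134530000001100000319000000030000001300000019000008e3000000010000000c0000000200000514000000010000045100000019000006990000000a000006590000001a000000d100000003000000610000001c0000328a0000000b00019453000000020000069a000000190000b4d100000003000006510000001300003451000000030000001c00000001000132ca00000001000004d10000000b000000590000001a00000013000000010000009a000000190000065900000002000004d3000000010000001900000002)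

noncomputable def wp2 : List (List ℕ × List ℕ) :=
  Fx82.wl (nat_lit 31) (nat_lit 0x51452000000010228a452000000090144a2510000000201451289000000120128a289000000020128a2510000000200011451000000010000048a000000510245148a0000000100002251000000010028a4510000001200011451000000020144a251000000120045128a000000090000148a0000000202451452000000010229148a000000090004a289000000020128944a0000000200012251000000110048a452000000010045145100000001002512890000000200001451000000020000948a0000000a00000451000000010000048a000000110000228a00000001000000090000008a00000012000000510000000100000011)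

noncomputable def g5_3_4 : List (ℕ × ℕ × ℕ) :=
  [(nat_lit 5, t74, t75)]

noncomputable def g5_4_6 : List (ℕ × ℕ × ℕ) :=
  [(nat_lit 5, t76, t77), (nat_lit 5, t78, t79)]

noncomputable def wp3 : List (List ℕ × List ℕ) :=
  Fx82.wl (nat_lit 13) (nat_lit 0x8944a0000000102451452000000090000a4510000000200489451000000010000048a000000110009128a000000110000145100000002002894520000000100000012000000510000028a0000000200002451000000010000128a000000020000001100000001)

noncomputable def g11_0_2 : List (ℕ × ℕ × ℕ) :=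
  [(nat_lit 5, t86, t87), (nat_lit 2, t88, t89)]

noncomputable def g11_2_3 : List (ℕ × ℕ × ℕ) :=
  [(nat_lit 11, t90, t91)]

noncomputable def wp4 : List (List ℕ × List ℕ) :=
  Fx82.wl (nat_lit 76) (nat_lit 0x64a000000090001269b000000010044a251000000010008944a0000000100452291000000020128a4520000944a000006d30000000a0000065300000009000000cb000000120948948a0000028a0000045100000001000006ca000000010000068a0000000900000019000000020001145100000003000012d90000001a0001a69a00000009000114510000001b0000265a000000010000000b000000130000048a00000013000000ca000000020000004a000000030000169b000000020001369a00000001000000ca000000030000b2c900000019000002ca00000003000000d100000002000000d1000000010000064a000000010000a28a000000030001b49a00000001000002d1000000030000048b00000001000000c9000000020001a4da0000000b0000a28a000000020000b2cb00000002000126d30000000b0000068a0000000100019659000000120000001900000012000000d100000003000002c90000001a0000000b00000002000000120000000b0000005a00000003000000ca000000090000005a0000001b00019659000000010001965900000003000016590000001b0000001a000000090001a69a0000000100019659000000020000009900000001000000990000001b000000ca00000001000002cb0000000300000009000000130000228a00000009000000d3000000090000009a000000090128a2890000001200011451000000010000028a000000020000001300000001000000d2000000010000001a000000010000009b000000010000009300000001000000da000000010000009a00000001000000d3000000010144a25100000012)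

noncomputable def wp5 : List (List ℕ × List ℕ) :=
  Fx82.wl (nat_lit 29) (nat_lit 0x12514490000000200009489000000020001224a0000000900000049000000110000944a000000090000928a0000001200251291000000120000045100000002000000090000008a0009128a000000090000944a0000000100001251000000020000248a0000000100000252000000010000128900000002000000020000005100000011000000020000009100000002000000010000000a0000048a000000020000024a000000010000004a000000010000004a00000002000000120000009100000091000000010000001200000011000000090000000a0000000900000091000000120000004a)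

noncomputable def g3_2_7 : List (ℕ × ℕ × ℕ) :=
  [(nat_lit 3, t64, t65), (nat_lit 3, t66, t67), (nat_lit 3, t68, t69), (nat_lit 3, t70, t71), (nat_lit 3, t72, t73)]

noncomputable def g3_2_4 : List (ℕ × ℕ × ℕ) :=
  [(nat_lit 3, t64, t65), (nat_lit 3, t66, t67)]

noncomputable def g3_4_7 : List (ℕ × ℕ × ℕ) :=
  [(nat_lit 3, t68, t69), (nat_lit 3, t70, t71), (nat_lit 3, t72, t73)]

noncomputable def g3_0_2 : List (ℕ × ℕ × ℕ) :=
  [(nat_lit 3, t60, t61), (nat_lit 3, t62, t63)]

noncomputable def wp6 : List (List ℕ × List ℕ) :=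
  Fx82.wl (nat_lit 26) (nat_lit 0x45245200000001000014490000001200091491000000020024a2510000000200000251000000920000228a0000000100489489000000120000128a0000000900000049000000110000008a000000010000045100000001000002510000000100000012000000910000048a0000000200000091000000010000004a00000009000000120000000a00000091000000090000004a000000010000000a0000000200000009000000110000004a00000012000002520000000200000091000000020000004a000000020000001100000001)

noncomputable def wp7 : List (List ℕ × List ℕ) :=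
  Fx82.wl (nat_lit 46) (nat_lit 0x12251000000020000024a000000120000948a0000000100001291000000010000148a00000002000114510000001200012491000000010000044a000000090000a28a00000009000000090000008a0000028a000000020000048a000000120000124a0000001200002491000000090000024a0000000900002451000000020000225100000001000094920000000100000252000000090000128a000000010000048a00000009000922920000000100012291000000020004944900000002000004890000001200001292000000090000245200000001000024490000001200001289000000020000028a000000010000048a00000001000002510000000200000251000000010000048a00000002000000120000004a000000090000009100000002000000510000000a00000002000000010000008a000000010000001100000091000000020000004a00000001000000090000001100000091000000010000004a000000020000001200000011)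

noncomputable def g3_1_7 : List (ℕ × ℕ × ℕ) :=
  [(nat_lit 3, t62, t63), (nat_lit 3, t64, t65), (nat_lit 3, t66, t67), (nat_lit 3, t68, t69), (nat_lit 3, t70, t71), (nat_lit 3, t72, t73)]

noncomputable def g3_1_4 : List (ℕ × ℕ × ℕ) :=
  [(nat_lit 3, t62, t63), (nat_lit 3, t64, t65), (nat_lit 3, t66, t67)]

noncomputable def g3_0_1 : List (ℕ × ℕ × ℕ) :=
  [(nat_lit 3, t60, t61)]

noncomputable def wp8 : List (List ℕ × List ℕ) :=
  Fx82.wl (nat_lit 72) (nat_lit 0x1491000000920125124a000000010000924a0000000200251251000000020129248a00000002000492520000000102452291000000020000128a0000000900001251000000010025124a0000000900002451000000020000124a0000000200002491000000010000248a0000000200092292000000010000a48a000000120000944a00000012000122910000000900012252000000090000128a000000010048a491000000120000128a000000020008a28a000000010000a28a00000009000094890000001200091291000000010000048a0000001200091491000000020000024a0000001200000491000000010000048a000000020000944a00000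001000000120000005100000252000000020000244a00000002000004910000000900002451000000090004a24a000000010000024a000000010000128a0000001200012291000000020000048a00000001000002510000000200001451000000020000024a000000020000144a000000010000148a000000020000228a000000010000048a000000090000028a000000020000025200000001000004510000000100000291000000120000004a000000010000044a00000009000024520000000100000091000000020000001100000002000000090000004a00000091000000010000028a0000000900000091000000090000008a000000010000028a000000120000128900000002000000120000004a000000020000005100000011000000010000004a0000000200000012000000110000009100000012000000090000000a)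

noncomputable def wp9 : List (List ℕ × List ℕ) :=
  Fx82.wl (nat_lit 45) (nat_lit 0x25124a00000009000494490000000200092292000000010000a28a000000120000128a00000001000024510000000200000252000000120001225200000009000122910000000200002452000000010000228a000000010000a28a000000090000028a000000120000024a0000000200000491000000020000944a000000010000025100000002000000090000008a0000024a000000010000128900000002000014510000000200009489000000120000148a000000020000028a00000009000002520000000100000489000000020000144a000000010000048a000000010000045100000002000000090000000a0000028a000000010000004a0000000900000012000000910000000a00000002000000910000000900000011000000010000004a00000012000000020000005100000009000000110000004a000000020000008a00000001000000910000000100000091000000020000004a00000001000000120000000a)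

noncomputable def r2 : List ℕ :=
  [t92, t93]

noncomputable def fz2 : List (ℕ × ℕ × ℕ × ℕ) :=
  [(nat_lit 5, nat_lit 0, nat_lit 1, nat_lit 0xf03010606050d141d13201c171e20), (nat_lit 6, nat_lit 0, nat_lit 1, nat_lit 0x200b01061507160d0b201812191d201e), (nat_lit 26, nat_lit 0, nat_lit 1, nat_lit 0x9021805130e0b151512191c), (nat_lit 47, nat_lit 0, nat_lit 1, nat_lit 0x20106060e100e17161720), (nat_lit 48, nat_lit 1, nat_lit 1, nat_lit 0x10b011107190f14201c1720), (nat_lit 140, nat_lit 0, nat_lit 1, nat_lit 0xf050116051d0f15131b1b191e), (nat_lit 146, nat_lit 1, nat_lit 1, nat_lit 0x30b09100b141c121d1c171e), (nat_lit 4, nat_lit 0, nat_lit 1, nat_lit 0x15040207110614100b121a121d1c1b), (nat_lit 11, nat_lit 0, nat_lit 1, nat_lit 0x100d021d0b06170f1c1512191a17201e), (nat_lit 187, nat_lit 0, nat_lit 1, nat_lit 0x170a011d11051610121912171c), (nat_lit 278, nat_lit 0, nat_lit 1, nat_lit 0x1a010111060514100b1b1e131a171e), (nat_lit 386, nat_lit 0, nat_lit 1, nat_lit 0x502150e05140b1614121c1b1e),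 (nat_lit 412, nat_lit 1, nat_lit 1, nat_lit 0x714011a0906101c0b1b1b), (nat_lit 776, nat_lit 1, nat_lit 1, nat_lit 0xd1b0205061a0f1e151319191e20), (nat_lit 144, nat_lit 1, nat_lit 1, nat_lit 0x1d021a0719140b141713171c), (nat_lit 32, nat_lit 1, nat_lit 1, nat_lit 0x1c031d0b06120d0b1b19), (nat_lit 64, nat_lit 1, nat_lit 1, nat_lit 0x1307010f060b0b0d1b1c131d17171e1e)]

noncomputable def cl2 : List ℕ :=
  [nat_lit 5, nat_lit 6, nat_lit 26, nat_lit 47, nat_lit 48, nat_lit 140, nat_lit 146, nat_lit 4, nat_lit 11, nat_lit 187, nat_lit 278, nat_lit 386, nat_lit 412, nat_lit 776, nat_lit 144, nat_lit 32, nat_lit 64]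

noncomputable def g2_0_0 : List (ℕ × ℕ × ℕ) :=
  []

noncomputable def r3 : List ℕ :=
  [t94, t95, t96]

noncomputable def fz3 : List (ℕ × ℕ × ℕ × ℕ) :=
  [(nat_lit 3, nat_lit 0, nat_lit 1, nat_lit 0x1504020d150519110e2014201e), (nat_lit 6, nat_lit 0, nat_lit 1, nat_lit 0x1a0d011e0a140d0b1714141a1a201e), (nat_lit 9, nat_lit 1, nat_lit 1, nat_lit 0xb03011409170f2018121b1c201e), (nat_lit 12, nat_lit 0, nat_lit 1, nat_lit 0x18010e09050b0f0b2018121c1b20), (nat_lit 18, nat_lit 1, nat_lit 1, nat_lit 0x1505010b070f0d141713201c171e), (nat_lit 24, nat_lit 0, nat_lit 1, nat_lit 0x1b0501180a051d0d171414191c201e), (nat_lit 243, nat_lit 1, nat_lit 1, nat_lit 0xb02070d120b131219191720), (nat_lit 244, nat_lit 0, nat_lit 1, nat_lit 0x1c0f01090a0d180d1e1513191c1e20), (nat_lit 245, nat_lit 0, nat_lit 1, nat_lit 0x903010d0d070b0e141413191a1720), (nat_lit 252, nat_lit 1, nat_lit 1, nat_lit 0x130a011a051d0f1513151b1b1e20), (nat_lit 254, nat_lit 0, nat_lit 1, nat_lit 0x5010a05150e1714141c19201e),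 (nat_lit 258, nat_lit 0, nat_lit 1, nat_lit 0x30b01191005190f14161c191e), (nat_lit 261, nat_lit 1, nat_lit 1, nat_lit 0xd041a0d05180b181413191c171e), (nat_lit 262, nat_lit 0, nat_lit 1, nat_lit 0x18011a0d051d111d161a171e1e), (nat_lit 264, nat_lit 0, nat_lit 1, nat_lit 0x705010906050d0d131712171d), (nat_lit 486, nat_lit 1, nat_lit 1, nat_lit 0x71401151006170d121d191e20), (nat_lit 487, nat_lit 0, nat_lit 1, nat_lit 0x60b0116070e18161e1d1e), (nat_lit 488, nat_lit 0, nat_lit 1, nat_lit 0x13110111090f0b13131c19171e), (nat_lit 495, nat_lit 1, nat_lit 1, nat_lit 0x601010505100d1d131d191e), (nat_lit 497, nat_lit 0, nat_lit 1, nat_lit 0x1a01010b06050b0d0b1317121c201e), (nat_lit 501, nat_lit 0, nat_lit 1, nat_lit 0x101180f0516140b12131a1a1e), (nat_lit 504, nat_lit 1, nat_lit 1, nat_lit 0x102011a0b0717120b1c161e191720), (nat_lit 505, nat_lit 0, nat_lit 1, nat_lit 0x17060120110517150b12141b19171e), (nat_lit 507, nat_lit 0, nat_lit 1, nat_lit 0x3041b090618110b1816201c171e20),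 (nat_lit 4, nat_lit 1, nat_lit 1, nat_lit 0xe01050611131213171c17201e), (nat_lit 8, nat_lit 1, nat_lit 1, nat_lit 0x10a010905050f1b0b14151d20), (nat_lit 10, nat_lit 1, nat_lit 1, nat_lit 0x11a010f1d071d111514131719171e1e), (nat_lit 14, nat_lit 2, nat_lit 1, nat_lit 0x504010f0a060d0b13161c1e1e), (nat_lit 15, nat_lit 1, nat_lit 1, nat_lit 0x1a010f0e050f0d121b121919171e20), (nat_lit 20, nat_lit 2, nat_lit 1, nat_lit 0xb10011209190e18121719171e20), (nat_lit 21, nat_lit 1, nat_lit 1, nat_lit 0xa0f011307140b0b14131c17171e1e), (nat_lit 25, nat_lit 1, nat_lit 1, nat_lit 0xe0b010a10051a180b19121c191720), (nat_lit 40, nat_lit 2, nat_lit 1, nat_lit 0x714011105130e0b1515121c1b1e), (nat_lit 46, nat_lit 2, nat_lit 1, nat_lit 0x1041c0711141d131b19171e), (nat_lit 50, nat_lit 1, nat_lit 1, nat_lit 0x14011d060b1514131e1d1e), (nat_lit 51, nat_lit 2, nat_lit 1, nat_lit 0x2009011a0d05180d20141219171720), (nat_lit 65, nat_lit 1, nat_lit 1, nat_lit 0x19040512170b1e15131b1b1e), (nat_lit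 89, nat_lit 2, nat_lit 1, nat_lit 0x40715051a0e0b1d16131d19171e20), (nat_lit 91, nat_lit 2, nat_lit 1, nat_lit 0x40f05200d1c16191719), (nat_lit 95, nat_lit 1, nat_lit 1, nat_lit 0x70401140705180b1c13131c191b), (nat_lit 101, nat_lit 2, nat_lit 1, nat_lit 0x302010f07120f141d131c1d20), (nat_lit 102, nat_lit 2, nat_lit 1, nat_lit 0x71501150e09110e171712171c20), (nat_lit 106, nat_lit 2, nat_lit 1, nat_lit 0xb021a0a15100b131a121d1e20), (nat_lit 121, nat_lit 1, nat_lit 1, nat_lit 0x10a01140d051d0f20141d1c1b20), (nat_lit 132, nat_lit 2, nat_lit 1, nat_lit 0x1104011509091a0b0b131419), (nat_lit 170, nat_lit 1, nat_lit 1, nat_lit 0xe011e061b0b0b1c13131c171e20), (nat_lit 183, nat_lit 2, nat_lit 1, nat_lit 0x104070f05130d1b151b1b1920), (nat_lit 187, nat_lit 1, nat_lit 1, nat_lit 0x19100112090f120b171520171e20), (nat_lit 36, nat_lit 1, nat_lit 1, nat_lit 0x19041107050b0d1c161717171e), (nat_lit 72, nat_lit 1, nat_lit 1, nat_lit 0xd01011e1207101c0b16121e1c191e), (nat_lit 1224,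 nat_lit 1, nat_lit 1, nat_lit 0x1a0106050d14131c17201e), (nat_lit 1260, nat_lit 1, nat_lit 1, nat_lit 0x191001060a06110d0b1e1513191b20), (nat_lit 1269, nat_lit 1, nat_lit 1, nat_lit 0x70401091a05140b0b1c161a1e1e), (nat_lit 1719, nat_lit 1, nat_lit 1, nat_lit 0x140112110516140b19131a1a17), (nat_lit 1728, nat_lit 1, nat_lit 1, nat_lit 0x1705010d06050e130b201412171c201e), (nat_lit 1764, nat_lit 1, nat_lit 1, nat_lit 0x404010909051b0b0b1616171920), (nat_lit 81, nat_lit 2, nat_lit 1, nat_lit 0x715010e06141b0d1814131717201e), (nat_lit 162, nat_lit 2, nat_lit 1, nat_lit 0x703011d0b060d0b141d131a17)]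

noncomputable def cl3 : List ℕ :=
  [nat_lit 3, nat_lit 6, nat_lit 9, nat_lit 12, nat_lit 18, nat_lit 24, nat_lit 243, nat_lit 244, nat_lit 245, nat_lit 252, nat_lit 254, nat_lit 258, nat_lit 261, nat_lit 262, nat_lit 264, nat_lit 486, nat_lit 487, nat_lit 488, nat_lit 495, nat_lit 497, nat_lit 501, nat_lit 504, nat_lit 505, nat_lit 507, nat_lit 4, nat_lit 8, nat_lit 10, nat_lit 14, nat_lit 15, nat_lit 20, nat_lit 21, nat_lit 25, nat_lit 40, nat_lit 46, nat_lit 50, nat_lit 51, nat_lit 65, nat_lit 89, nat_lit 91, nat_lit 95, nat_lit 101, nat_lit 102, nat_lit 106, nat_lit 121, nat_lit 132, nat_lit 170, nat_lit 183, nat_lit 187, nat_lit 36, nat_lit 72, nat_lit 1224, nat_lit 1260, nat_lit 1269, nat_lit 1719, nat_lit 1728, nat_lit 1764, nat_lit 81, nat_lit 162]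

noncomputable def g3_0_0 : List (ℕ × ℕ × ℕ) :=
  []

noncomputable def r5 : List ℕ :=
  [t97, t98]

noncomputable def fz5 : List (ℕ × ℕ × ℕ × ℕ) :=
  [(nat_lit 1, nat_lit 0, nat_lit 1, nat_lit 0xe030e0915111312171d), (nat_lit 2, nat_lit 0, nat_lit 1, nat_lit 0x1106010b0b1717121b1c1e20), (nat_lit 3, nat_lit 0, nat_lit 1, nat_lit 0x9030a1806120e0b1b12181a201e), (nat_lit 4, nat_lit 0, nat_lit 1, nat_lit 0x170301061205141b0d19151919171e20), (nat_lit 5, nat_lit 0, nat_lit 1, nat_lit 0x1e041c0915180b1914121a1a1e20), (nat_lit 6, nat_lit 0, nat_lit 1, nat_lit 0xd06021005110d0b1d131c1c1e20), (nat_lit 7, nat_lit 0, nat_lit 1, nat_lit 0x70110160515140f14131a171e1e), (nat_lit 8, nat_lit 0, nat_lit 1, nat_lit 0x120501150510180b1413121c1b1720), (nat_lit 9, nat_lit 0, nat_lit 1, nat_lit 0x50110180b141713171920), (nat_lit 10, nat_lit 0, nat_lit 1, nat_lit 0x1a03011109070e130b13161d1a201e), (nat_lit 11, nat_lit 0, nat_lit 1, nat_lit 0x1b05011e060e0f1813191d), (nat_lit 12, nat_lit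 0, nat_lit 1, nat_lit 0x1a03011307070b0f12151d19201e), (nat_lit 13, nat_lit 0, nat_lit 1, nat_lit 0x190f0116060515130b16131c1c), (nat_lit 14, nat_lit 0, nat_lit 1, nat_lit 0x1103011406160d1b15121b1e20), (nat_lit 15, nat_lit 0, nat_lit 1, nat_lit 0x6020514060b1114141c1c201e), (nat_lit 16, nat_lit 0, nat_lit 1, nat_lit 0x130301050f0611111613121d1a1e1e), (nat_lit 17, nat_lit 0, nat_lit 1, nat_lit 0x1405010f070e0e0b1b12191d1e), (nat_lit 18, nat_lit 0, nat_lit 1, nat_lit 0x902010f091a0f1e161c1c20), (nat_lit 19, nat_lit 0, nat_lit 1, nat_lit 0x1d0d0113060510180b1d15201c1720), (nat_lit 20, nat_lit 0, nat_lit 1, nat_lit 0xa2001180a050e0f15131a1a1e), (nat_lit 21, nat_lit 0, nat_lit 1, nat_lit 0x503130f050f0d1412191e), (nat_lit 22, nat_lit 0, nat_lit 1, nat_lit 0x6021909060f0d12131d), (nat_lit 23, nat_lit 0, nat_lit 1, nat_lit 0x1503051a140b1414131a1720), (nat_lit 24, nat_lit 0, nat_lit 1, nat_lit 0x190601050d051e0b0b17141717171e20), (nat_lit 35, nat_lit 1, nat_lit 1, nat_lit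 0x4031a0d20141c191e20), (nat_lit 70, nat_lit 1, nat_lit 1, nat_lit 0x170a010906120d0b1c13131b1c201e), (nat_lit 80, nat_lit 1, nat_lit 1, nat_lit 0xa090220091c0b1e15131c1c), (nat_lit 115, nat_lit 1, nat_lit 1, nat_lit 0x1503011909051b0d1415131b191e1e)]

noncomputable def cl5 : List ℕ :=
  [nat_lit 1, nat_lit 2, nat_lit 3, nat_lit 4, nat_lit 5, nat_lit 6, nat_lit 7, nat_lit 8, nat_lit 9, nat_lit 10, nat_lit 11, nat_lit 12, nat_lit 13, nat_lit 14, nat_lit 15, nat_lit 16, nat_lit 17, nat_lit 18, nat_lit 19, nat_lit 20, nat_lit 21, nat_lit 22, nat_lit 23, nat_lit 24, nat_lit 35, nat_lit 70, nat_lit 80, nat_lit 115]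

noncomputable def g5_3_3 : List (ℕ × ℕ × ℕ) :=
  []

noncomputable def r7 : List ℕ :=
  [t99]

noncomputable def r11 : List ℕ :=
  [t100]

noncomputable def r23 : List ℕ :=
  [t101]

end Cfsg.Agent.SB.SporF.Co3
end

-- part: SB/SporF/Co3/Chk0
section
/-! S5765, row of Co3: kernel checks (generated by notes/SB/spor_tools, helper63) -/

set_option autoImplicit false

namespace Cfsg.Agent.SB.SporF.Co3

open Cfsg.Agent.SB Cfsg.Agent.SB.Spor

set_option Elab.async false

noncomputable def d24 : ℕ → ℕ :=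
  (rd (nat_lit 7) (nat_lit 127) [nat_lit 0x26cd29f646a0c61f00e9e2274a923b11b352abd19f5cd18ad2a9922800045a7022c2834c08286064c284560812510182021a10d832a14b22386058804fc1030a342060c5052234183023e1098a06b4d8610646910820504082018e0c1560b101070f0a141023818dbe222091606106821c2071e2c08700023060b163060c182c387124080f20683b80e404891e1c49d401c4b80e8483d0e8998a12e5020121c487402c50924f439222904870e1c82b0e1c3a2128053812c83971284490405c83a132c78740403902ee47b170404903225007325c80712404983025c170e80000, nat_lit 0x888d9b150ccf1c48716925255fc534489c122c9099003440206281951a10a080c1010510a8283080c92f04081843e38a8d3c0c9961ca41061cb8c080610291280c4061ca02040cb01940634a1e08144060811b9f22c8705060060102041851c10188566818a0c0c703541560e08185050a0c4221a60684046071d0c0c19a10ccc9f3434405220c4022a18ab53c20111041432a5cc82843818404044590368bc73c281820085200818e040814e99799364c9ac343d8291eed81d386d195606d70b1448f143c911a672b090a2aa0d3b4264c1b14a15916e58a136c6dd0a324c8a1, nat_lit 0x688df9330752a530b92a566a5e00029c58b0418c960c9120a04583040c2028804345210a382041088118041419e0c081860454185068818002061018e30088783828a0abc684261830d24085021014a16083c1820420f84040cf82780d30224f06827e6c10d04445860a1004a030d3818405b8a487203b24a95456b0053a2cd919642752b6284d81f4c7d5167c61a40563ca941650ca234a542c228622354a4b2f3cb9f115c0008c87245c3022c601870a4814e852b614c4ab0384923528dda0a74d60b076adb264ab1c94306cd8a724dd245670e8b8a6511a53187911e6e0ad,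 nat_lit 0x205381183008b020533b32718ad5468e3e00300ca0204081900460118306070e8038f0ef4b8f2024b90205de972e1c3952e24b8b003138c4e3058102040b11a0c28d1e347062c15a050a105824610785240c40e3f311051a18f056010180164d4355a491941e2d6a9464c9216e747af3aa0e37])

theorem c34 : chkS' lk mk (nsC lk B wp4) g11_0_3 t96 1 0 d24 = true := by
  rewrite [show nsC lk = Fx82.nsF (nat_lit 9) (nat_lit 511) from Fx82.nsF_eq _ _,
    show mk = Fx82.hor (nat_lit 9) (nat_lit 511) (nat_lit 276) from Fx82.pmk_eq _ _ _ _ (by decide) (by decide)]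
  decide +kernel

noncomputable def d15 : ℕ → ℕ :=
  (rd (nat_lit 7) (nat_lit 127) [nat_lit 0x46ac4ce2b0c1446818b97066cd998e4820a8cd15002c48559061c3b7646c182040e203088a28389601a872083a73a7da035c6d680083c7581c20c2d046cd841e85289868f1cd72257285d2960f0408b420cecb0601046401ae809b349cc6220040814e29881664c80c2035b010a90d0d133408c3458001035d18b0a050085604287020480108917067e85a811c6082b200481a3c1468508016bec25833d0448207064e660ac56acb12b03203f50a8a3a2da26064891422ccf191400c8f78449ca1098123644843b0c3841156ea9a316e550730a58824d49826a424f02100c000, nat_lit 0x46033804b140280e987e2c28d53943cc8e30181160c380b8fc1921c9820e045cf8a100db38a2101ad065c1dd1c091000a0c09648151016a932059900e05660509428d4e8d1a2158b00148b520143810a14ca4381099a460594450601811a042880a04004364e7890410982082438422b8f02041a3d73c2d9270e21c84040011714245ce488039560085af6171c029046dc91cfaca2441832c06017035e0e8082ef110460541060c801156e2478a5045504283cc991c2c0088b3d88fb4116a03a2499d80197ac6685bbc6d0a0130c75782044508f00643152520507073c3b0,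 nat_lit 0x923eb22245cc12082804b0ccd38b085164a428cb82160038b842548f043812312a84134a0289c0a04e011070d0702e03050b0400440d460d6c400a05640f1c4f7408100d9f9e764438a14103972c7448ba37c3800818f9e0d6c3c6441cfd048f47bd104e400140dc03250c42c0411788360cb9f040853c010cf919038c843c64a8e84dca25a704a061f5002a271e8282a57318080c521647da19360e331060051112253845e584172aa834614594a40c383162a001289d25282364438426611250c9820477787b10ca0001827008c02048040804082184149a4a0461a1a40605, nat_lit 0x70025d0004de6802e48c0300143010a2c01f1814a0d7401f257179282920008d4c694d53004045185068128742c5005102d7c874079658e80b404d05186420c3807380388468518040850a20e1a017de83])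

theorem c21 : chkS' lk mk (nsC lk B wp0) g7_0_3 t92 1 0 d15 = true := by
  rewrite [show nsC lk = Fx82.nsF (nat_lit 9) (nat_lit 511) from Fx82.nsF_eq _ _,
    show mk = Fx82.hor (nat_lit 9) (nat_lit 511) (nat_lit 276) from Fx82.pmk_eq _ _ _ _ (by decide) (by decide)]
  decide +kernel

noncomputable def d32 : ℕ → ℕ :=
  (rd (nat_lit 7) (nat_lit 127) [nat_lit 0x607428b2c6858458b49170a2543f0221da448f9bc024216040e0c6090e600b4185d10f021e00226e0644203478e209db165445caa30acb963a31fad069022318e08831e6849610405990ebc2064e94b383024c9416119c8208c1073ab8a861ec8d84101a18a10346110428492021610d1c8008f4d09f3138a8b9162303821c9569520c4388184441a12ace044865ba946243bb164860b0cd80b530846041e3c199185c08e58f54233c151410e1c20c2650d1d144848d067ce0928313a11ef13ab509dda03204886342011b0c6cd020404f8354a4185125819016a138b0b01300, nat_lit 0xa4c18e1c680872e381411c200960208f2f047553f4054583225448d3099a912aa4e1138704135a38d13420c609684860d42cc4114a0d41a5c242ae44a408e2c044167a748854a0841b042ca8572350ac4450321221420d384180102280b18e342123eb818b26395a42c2c0c50a9428726e051e166d1b23a11a8e08263b31a2839546acdb55e25303027808d10143095e5e32d1a5050e29142064c30a39302838a4880c0c084010215190214a581184e2048f1ebcca202d99867488cb430600930851cc2282c3a80674295105029e151419b24387900438b902a181823eec303,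 nat_lit 0x3a0cdd6360840f08664c50654183055209d08521c9214004508087de34605d00e107d0030a3c60f141d28a6f0443e06c898d0c3df093cb23260c2c3b074658020628b8e1e2883d5c6c21e02c98942019d121255b03230d10704bd92b244831312b922948e43340674f9126a0c07203c6b40208a8246340ac6a3db840a280860428581061870b885d5a64a6ca3d78316855c08cb21a1c21060341bf5e882840e0999c8664a842410f2d621e38d0a7c59278385b07008e2a888c1040a34513])

theorem c46 : chkP' lk mk (nsC lk B wp8) g3_1_4 g3_4_7 t100 0 d32 = true := by
  rewrite [show nsC lk = Fx82.nsF (nat_lit 9) (nat_lit 511) from Fx82.nsF_eq _ _,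
    show mk = Fx82.hor (nat_lit 9) (nat_lit 511) (nat_lit 276) from Fx82.pmk_eq _ _ _ _ (by decide) (by decide)]
  decide +kernel

noncomputable def d34 : ℕ → ℕ :=
  (rd (nat_lit 6) (nat_lit 63) [nat_lit 0x2dd70374275a2114c152424a18d0c70d621e20a2818dd36708c4da0ca2039600987885043827a01e12631417517c93eb0e15044d710249098f9572df0a470225d1e320958850b44c25d3c80e44950a930c7613474ca0421c72e844d2181512c42dc46a85404540204512320918d22228409340904b09109a29a1591968944d825164270c3851869cf2216d254a38108f0e210650108280d04f14388914da839a1b0c64e8036992590c80ce4c30900a50445c36081df1030c20971811031e9140, nat_lit 0x5d008635e0c250d1482c822408c81535628c6d50de96654a2a62411922d75463c111d3a51d11c35606a608c4ce7d748a1ce9cb1ea4a28113120a21428452c91c32416c131a3c80ca7030523c57248ce2c12cf1865225031481c114b14479e8ca6967ebb1768c443646984a0530a48735b18725f40f72714a18838d38b4c31866424240464a78e859046829d1c929f10938e11c146adf49066964d50114aacc16ca890425424441923011c31cc04b21824d16218c06d39b3820434010c410640d,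 nat_lit 0x208538861e0c8a0d8c931b1041cf2c14111101810c330204215804108e29306008645108b19b48b40d3250675223431cfa4fac7a6a3904a81506042061c72ce20318724daa60445974011041413c920585b28d18408d2cab150c284b304582384ac6b476cb5d454c05e9d03e91473d66484413041079131441039092583e308b35815328638ca0a20e6cd5923c928755a70b0d23ec4cf0c87031030410609567a415f])

theorem c49 : chkP' lk mk (nsC lk B wp9) g3_1_4 g3_4_7 t101 0 d34 = true := by
  rewrite [show nsC lk = Fx82.nsF (nat_lit 9) (nat_lit 511) from Fx82.nsF_eq _ _,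
    show mk = Fx82.hor (nat_lit 9) (nat_lit 511) (nat_lit 276) from Fx82.pmk_eq _ _ _ _ (by decide) (by decide)]
  decide +kernel

noncomputable def d30 : ℕ → ℕ :=
  (rd (nat_lit 6) (nat_lit 63) [nat_lit 0x785344b4c04f1044420c45993a209d1ca04508a1d48052cb1088de10e9828620c415334d0467a314228fa6521fa090863084cd4c561808238a20c38704e20b8c15034830e908e21b25190974c1033c134ca040827c859215210f5895433050c13244865d220e0820c804978311134210e54d141254045a0170d9a71c22868cf6825c80591c50810862d725b5d42024412052030831c40ab84a05d2d94c758140f14135805611081541270c0e2847b0c04224e0e02816c904304340308bac5040, nat_lit 0x1456431cb5c1049b4f08a7417a70d83d91491038629a638b0811a69c41cd1913062410c474420661c048043a613e004298c0421831861882041c40831931121d31126832a528151b7e814e18b0c61050430c209058c0c108d2845202ca2896c1344b0f04208218b9138431aa8aa14268f2caa870d2482044595a0390118860508a24548d10c4452417862010cd0d554b64c25a1c40426a51d87480c88c621e4c40c276409d0cf0ca5113479480832869463893031dc189247a867ae0410870a5,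 nat_lit 0x10954102810830c765759c106b0b1422a01810840c43030973e9203585bae0941450960d98096c504304744e08644204315c11018d04268d7d11ce0c7ac31095513131901c569b1140c470a40f0858841135cb3878d710730240524128f1c91942df10c2d55452d4089b4818e0c98d204d3057e720140b0c82530c20625d13076831416272892a16c70d06467d37c270b2c74640d062424f6a5088205a41381a85047])

theorem c43 : chkP' lk mk (nsC lk B wp7) g3_1_4 g3_4_7 t99 0 d30 = true := by
  rewrite [show nsC lk = Fx82.nsF (nat_lit 9) (nat_lit 511) from Fx82.nsF_eq _ _,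
    show mk = Fx82.hor (nat_lit 9) (nat_lit 511) (nat_lit 276) from Fx82.pmk_eq _ _ _ _ (by decide) (by decide)]
  decide +kernel

noncomputable def d17 : ℕ → ℕ :=
  (rd (nat_lit 6) (nat_lit 63) [nat_lit 0x3c174b20a298b1e4830c81120480520cb80008e0c31261020c238710e08e3021c311339108f08468108308e50020709105a1cd4c73546c70c208c34a50830330108f0810c230374e0123e82da2c13cb04b60a3930d12140c10ce0ca0488cb6128120cb20b0130430cf0d434a3cd10108344e44130130e2839431030420d10c72037401841529ca10148f1812e41486080460454862d82de14415218c1461a618008494835308420d1210472080a01c31023820c4ae344108330c1c829d44d000, nat_lit 0x51895802011863c619460160614614574a14525008359041041964924964940925564924014118125071c25041041964924964940925564924224971000008468304c34131a6cd1c20c23033831c30820c109e0810080555803270815021011e108308709b08fa438026c51435c51571455d65855d55d7145145143b5758004c04800204c08408710210410238821d20d20108228a10210211338028f0d55950040cd5131036c11cc0ce44f0cd4429430421c28080c300b692a0b281043901,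 nat_lit 0x821cc1ce0c46db0420930821081020086d13010c410210484f45320d0d408e6820031cc2044411d310450734208268d38d2933801412a904925909000160518114118618514614624965c41c24925058925041024940940020518000420310c5070c70413510931c21c31c30ea55c0d65d555555c71ca820955d55425c200304018f1a418b04b2c150105d19214504a0460cb1814804c429559500f44a0431c7113b8228d3040c408308a8967df59759689f5a25827df8a25e25df7e27c0204, nat_lit 0x48008100a0420050451800840d184014118504600604614118f00205108744110014114304804114020b1460453c118e0050434810c12c30410030431411410452812802c12c35120442cb3d85000c10a00c83443043cd04200c3430820811c33e16c71dd00b0c399e0c160b8c1844bc34800c481304210745e3410543111c04a318a0643e414405e39a90508a0020660c14ce38a3470631c20c708400a04c14f2c13c67948de1432c51811404c494834a38f08404138d0cc1c23c2840084])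

theorem c24 : chkS' lk mk (nsC lk B wp1) g7_0_3 t93 2 0 d17 = true := by
  rewrite [show nsC lk = Fx82.nsF (nat_lit 9) (nat_lit 511) from Fx82.nsF_eq _ _,
    show mk = Fx82.hor (nat_lit 9) (nat_lit 511) (nat_lit 276) from Fx82.pmk_eq _ _ _ _ (by decide) (by decide)]
  decide +kernel

noncomputable def d36 : ℕ → ℕ :=
  (rd (nat_lit 22) (nat_lit 0x3fffff) [nat_lit 0x87405c0780e821000798290f300cc001750a0381d4001e6079394031e605c7980e0000021d0090050100ac0f006009428150cb018134120020300043104c02432c0400703cba00200305413406005049d240c0030c4d6c0904d0103c40f756009e481500501832c121b203000031523030798330030483c40400203c00409006055c90060040080040c0f30cde48120070121ec0f523025d581587a018130026af030000337ad0480ac044e503dc90094e005400406031009380067490096c8150030d40101203603000c0f02b02406c043c9018008022d90540043503104806c0c79203d3a8092d901001806524008000150000d413012000030c000f796024000040020180ac025230543cc3700104800c0c87a03c0180903101139406007008004151e60dd48c127ad031c900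f4e00241300487b0183c402724054000376af049e480c00103dd5809004011428097560101340f0cb00a1d0150f10186c81200503000c30792024ba0040cb03c0140235b05401c067490481340c0010c000c090060100140f04d0081301502b018008120cb030000300040300043201b049d240400603cb640902b054c00062d90081300c0030c80d812524010f240f5b2025e581579201806c0203103000032000048008044e003c000094ea05400c0600000801c0c0030d1380120030101300f4e502414015050018140020f1030004340060494280403103dd24098540542a80602c0080ac0c0000d0ba0122dc0100100f0020253881502c0182a802004018b7002002054004360070493800c0aa03e1500902c0100c40650a009d24150030d80ac122e80301400f0500241400404c01800c024e5054000360f10480180c02c03d388090aa011d54095230100d80f00100832c1501b0182a81202c030000390cb0240040401b03d48c027550540d80602c0482a80c0000e149c0901c0100000f01c00949c150000181401205003000000, nat_lit 0x310140041c012050b640101b02c004058200b00081404c0043840b3cc0160802301b0500040130800400c140fc015eb40b5b20700d801754050008053b502c0002c009005270142dc015d580b00008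c3cc1c1e60043cc140f302e068053cc0b04a8012da0514280b075014f30234e5006080140e502c000050030b00480104c0500180b7ad01400c2301b004030140f102cb64053cc07038401004050f300b15f0140100b8200147982c0f4050b680100502d428051e608e1e81482000400c0b0090160801c0fc05000801523005c901400a0141d40b2d90b00280107505148c053cf02cb64230f30040001402b0140000b000070d6c0130805000c0500c02d6c82c87a004018141de015b300b5b208cf30012d905006c052d902cb641c0f30b1c9001036050f240b0040143cc230fc0040041403602c13005003070070010090500240b01c01611c0b0cb0140042c04d0501d4012dc02c3cc0500108d42814821004c000b3840147981c01e050000018200b80240304c05cbd00e8200020802982000c00c17021038b68008200780d80300405e1e80e0020000100e0e1000f301e00605deb40379203806c003cc0b83c41715f00c1300e012000f302902b05cb640352300c0081700a001c900e0000b80280300105d48c001350380002902b00c000170f30000000e0000780080335b05c024000030396c82e2dc00deb417036001d500e5b20a4c00035b205cc20005b20396c81e0010b83700372405c06c0e0010000042900100c06c1735b038130000010780c40301205c0080e2d90003cc0e1e60003cc1e0f305c1d4032da039394000f30b94281787400c0ac0e12a0003cc2987a05c00003001038070000030780241701c00deb40e0fc00000c2e03605c13003036039c90000030a548c1700400c06c0300c05e1e80015f038b642e87a00e0801735b000bd40e2d90a400c032d905cf30002d9038b641e1e60b8e1003,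 nat_lit 0x75404cb640a0f3075d2411792020b64130ff04cb642401b045eb40a442022080130030a0384110750286c80800004c00c1d04c0440000a01b02000c13003090c001150a0296c80800a04c79828523044cf40a524020f30131e607401811002029d24082d90217f4130030440700a3cc0913000838404d3941172402a080287240203cc1335b0443cc0a8200740240a0010a01d4110cb0200241304c0280041d0f40440ac0838504de6c0a0f309000011000020c00130010a80041f0010bc00c2a00307c00c2f0000bc0002a00007c3cc2f0f30a83cc1f2d90bcb642a2d907e0801f8200be0802a5b20bd6c82a5b207c7982f1e60a87981f3cc07cf302f3cc0a80042b00108000c182d9082080182d90ad6c8183cc0acf30203cc0607982b1e6080004180000ac000202d90603cc2b0f30803cc188200ae080205b2080798185b20ac00c2b003080000185230403cc1a00a05942807002034028105b2084b64160fc01cb640d7920403cc260cb058078077950354280d0020403d0161e601cf30260010340181087a058094073cc0680780d04c041e481600101c0002101b01c00c26075058b680d1b204013007003069eb41682003406c1082001cb64210000580000d8740403cc072d90983f0160fc0343cc1000c01cb641a0010580180d003040e10071e6084bd0165a403400410820040004211e6059c9007792034f30105b2099ec0160f601dc900d3000416c81a003059eb40701c0343d80d00904006c1600901e0802102b035a94102dc0580d80700009806c0d5fd040c001601f01c0001a0f3035428100f3059c94073cc0841300d2d9040e10162d901e0802652403457c1072405800c0782006948c071e6068008160030340c41000a01c00c2101e05948c0d749040018071e6099398168740356c81002b0400041a0040596900787a03432c100f30840d81687a01c3d00d00004000426009058000070090340480b,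 nat_lit 0x42d001094004193cc0b4f30253cc064b64192d90b4b6425820096080198200b400c2d00309400c195b20956c8195b20b4798191e60b4798250f30b43cc250f30640002d00009400019001088b64272d906c3cc270f306c0002282006c00c2282009c00c1b5b208800c2700109c0041b3cc0887982200009c0001b1e609c7981b0f30896c8275b206e080223cc09cf301b2d908800c0a001091c9011820020f24138200296c82801c044c000800c04c7980a5b207432c112da021c90130fc04cb64280020440040a003021c94132d90740e4112f4029b040800604c798240f30440940a001020fa00801b04c0d81130002a0802400902220c13009044b700a0000a09b8080f604c07c1101b0280001d002020004133080461e80a3cc0a01300801e04dd5811792028f301d87a022084130010440300a00009148c0a5b20914281100a02057c1300a0283cc280fc04548c08])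

theorem c53 : covChk lk B 3 g3_0_0 g3_0_7 g3_0_7 cl3 d36 0 = true := by
  decide +kernel

noncomputable def d28 : ℕ → ℕ :=
  (rd (nat_lit 5) (nat_lit 31) [nat_lit 0x3d8443c817b04d0b49569c4d08a2828e0d2b904111642c2e2a9d1378b41498a299dec895a37b0ec73561389096554ea1c4aa312a084473bd66a10ea33869384b1615411b46a9adc69042668444124d1786261a1651c0879882218924948cec8cd41a16b718465406b358258154d39188712e870e090a48b6146391911135324e0280ccac424500da232c5f22a96441143810ee5954648460])

theorem c40 : chkP' lk mk (nsC lk B wp6) g3_2_4 g3_4_7 t98 0 d28 = true := by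
  rewrite [show nsC lk = Fx82.nsF (nat_lit 9) (nat_lit 511) from Fx82.nsF_eq _ _,
    show mk = Fx82.hor (nat_lit 9) (nat_lit 511) (nat_lit 276) from Fx82.pmk_eq _ _ _ _ (by decide) (by decide)]
  decide +kernel

noncomputable def d26 : ℕ → ℕ :=
  (rd (nat_lit 5) (nat_lit 31) [nat_lit 0x403028c4a1d8505910521b54105e82388122ce372c88228298b98b5e428196a26184c929a550c5d109ad198ef1a60448f6230c2e3baedbb841184542bcf86319133e13484e5091761aa2b484843d548c1c7020d896a47b6a9b229666214e91320a609e3314841398612df8688254c2e70984340cb33aa21798293ad1241d04d06c70bcc59a23251a28708a3299b25568512d28e64e131020])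

theorem c37 : chkP' lk mk (nsC lk B wp5) g3_2_4 g3_4_7 t97 0 d26 = true := by
  rewrite [show nsC lk = Fx82.nsF (nat_lit 9) (nat_lit 511) from Fx82.nsF_eq _ _,
    show mk = Fx82.hor (nat_lit 9) (nat_lit 511) (nat_lit 276) from Fx82.pmk_eq _ _ _ _ (by decide) (by decide)]
  decide +kernel

noncomputable def d19 : ℕ → ℕ :=
  (rd (nat_lit 5) (nat_lit 31) [nat_lit 0x285cf1085d98208146cb84beda2ac81a2533fb0ca73201290699a868154e34bb018795dc9db55a2cd198b2cdcc12ade110a98186ed605ef76c366f22260435a1b444142414d7291c871094389840])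

theorem c27 : chkP' lk mk (nsC lk B wp2) g5_3_4 g5_4_6 t94 0 d19 = true := by
  rewrite [show nsC lk = Fx82.nsF (nat_lit 9) (nat_lit 511) from Fx82.nsF_eq _ _,
    show mk = Fx82.hor (nat_lit 9) (nat_lit 511) (nat_lit 276) from Fx82.pmk_eq _ _ _ _ (by decide) (by decide)]
  decide +kernel

noncomputable def d3 : List (ℕ × ℕ × ℕ) :=
  [(nat_lit 0, t40, nat_lit 0x1200705120b1b12191a1e20), (nat_lit 1, t41, nat_lit 0), (nat_lit 0, t42, nat_lit 0x1706041508160d0d141d141e1b), (nat_lit 1, t43, nat_lit 0), (nat_lit 0, t44, nat_lit 0xa09050919091b160f221a), (nat_lit 1, t45, nat_lit 0), (nat_lit 0, t46, nat_lit 0x1407071c0d151513211b1f221d), (nat_lit 1, t47, nat_lit 0), (nat_lit 0, t48, nat_lit 0x131809190d1e1d131b1e25211f2626), (nat_lit 1, t49, nat_lit 0), (nat_lit 0, t50, nat_lit 0x1b110f2618251d27212828), (nat_lit 1, t51, nat_lit 0), (nat_lit 0, t52, nat_lit 0xd230d2a1911261b20231e2928272c), (nat_lit 1, t53, nat_lit 0), (nat_lit 0, t54, nat_lit 0x13122b152822192523272b2c2e),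 (nat_lit 1, t55, nat_lit 0), (nat_lit 0, t56, nat_lit 0x1123112e221723202523252b2727), (nat_lit 1, t57, nat_lit 0), (nat_lit 0, t58, nat_lit 0x171d181f2b1d242c24302e2b30), (nat_lit 1, t59, nat_lit 0), (nat_lit 0, t60, nat_lit 0x23271529241a29222929262e2e3232), (nat_lit 1, t61, nat_lit 0), (nat_lit 0, t62, nat_lit 0x301917232b1b2327212f29332d2d3634), (nat_lit 1, t63, nat_lit 0), (nat_lit 0, t64, nat_lit 0x1e261935221d2d2d23302a32382f38), (nat_lit 1, t65, nat_lit 0), (nat_lit 0, t66, nat_lit 0x2d1c23272b252e2e37), (nat_lit 1, t67, nat_lit 0), (nat_lit 0, t68, nat_lit 0x291d2b2338272934302f3833333c3a), (nat_lit 1, t69, nat_lit 0), (nat_lit 0, t70, nat_lit 0x2d231f2c29253c29293333303a373c3c), (nat_lit 1, t71, nat_lit 0), (nat_lit 0, t72, nat_lit 0x213921362b272d322b3235323b39403e), (nat_lit 1, t73, nat_lit 0), (nat_lit 0, t74, nat_lit 0x3d2423322827322d3b373b393b4042), (nat_lit 1, t75, nat_lit 0), (nat_lit 0, t76, nat_lit 0x3d34253233293c313a363d3e42), (nat_lit 1,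 t77, nat_lit 0), (nat_lit 0, t78, nat_lit 0x352b272f2c2d37373b3f3f4444), (nat_lit 1, t79, nat_lit 0), (nat_lit 0, t80, nat_lit 0x4535292d332e3336443b41443f46), (nat_lit 1, t81, nat_lit 0), (nat_lit 0, t82, nat_lit 0x2b302b3a33393a384640414141), (nat_lit 1, t83, nat_lit 0), (nat_lit 0, t84, nat_lit 0x453c2d3131313937373e413e47484a), (nat_lit 1, t85, nat_lit 0), (nat_lit 0, t86, nat_lit 0x323c303c374c3f474147474c4c), (nat_lit 1, t87, nat_lit 0), (nat_lit 0, t88, nat_lit 0x4836314c3a3b405043424c4950), (nat_lit 1, t89, nat_lit 0), (nat_lit 0, t90, nat_lit 0x403639373740414647454d4b495050), (nat_lit 1, t91, nat_lit 0), (nat_lit 0, t92, nat_lit 0x413535423d5245474a47505252), (nat_lit 0, t93, nat_lit 0x3c383640423a4c45484c47504c4c55), (nat_lit 0, t94, nat_lit 0x44383b3c4c43504c4851514f5456), (nat_lit 0, t95, nat_lit 0x384238533d3c53454e4e4951514e55), (nat_lit 0, t96, nat_lit 0x423a42483f4c4843554d52535658), (nat_lit 0, t97, nat_lit 0x3c4a3f49474d4c4b52505957), (nat_lit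 0, t98, nat_lit 0x3f3c3b57443f5a494c4d4e53515858), (nat_lit 0, t99, nat_lit 0x493f57404f464d504d5455525959), (nat_lit 0, t100, nat_lit 0x4b3f3d4b41474b5255535a5a), (nat_lit 0, t101, nat_lit 0x5140474451584a53504f585a5d5b)]

theorem c3 : slp lk ver d3 E = true := by
  decide +kernel

noncomputable def d21 : ℕ → ℕ :=
  (rd (nat_lit 4) (nat_lit 15) [nat_lit 0x164664211211517b662523a435241831841711833a51c8151d221342463721227c21bc311281644512a27591139149ac18132ab9119b70])

theorem c30 : chkP' lk mk (nsC lk B wp3) g11_0_2 g11_2_3 t95 0 d21 = true := by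
  rewrite [show nsC lk = Fx82.nsF (nat_lit 9) (nat_lit 511) from Fx82.nsF_eq _ _,
    show mk = Fx82.hor (nat_lit 9) (nat_lit 511) (nat_lit 276) from Fx82.pmk_eq _ _ _ _ (by decide) (by decide)]
  decide +kernel

noncomputable def d1 : List (ℕ × ℕ × ℕ) :=
  [(nat_lit 0, t8, nat_lit 0x10202080106030307), (nat_lit 0, t9, nat_lit 0x40407070501070901), (nat_lit 0, t10, nat_lit 0x4090108), (nat_lit 0, t11, nat_lit 0xb060701), (nat_lit 1026, t12, nat_lit 0x20202), (nat_lit 0x10203, t13, nat_lit 0x30302), (nat_lit 0, t14, nat_lit 0x20101), (nat_lit 1541, t15, nat_lit 0x60501), (nat_lit 0, t16, nat_lit 0x30303), (nat_lit 0, t17, nat_lit 0x50403), (nat_lit 1028, t18, nat_lit 0x50304), (nat_lit 514, t19, nat_lit 0x20201), (nat_lit 0x40304, t20, nat_lit 0x70103), (nat_lit 263, t21, nat_lit 0x80409), (nat_lit 0, t22, nat_lit 0x40401), (nat_lit 6, t23, nat_lit 0x60302), (nat_lit 0, t24, nat_lit 0x40405), (nat_lit 775, t25, nat_lit 0x50701), (nat_lit 1288, t26, nat_lit 0x30506),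 (nat_lit 0x90209, t27, nat_lit 0x70407), (nat_lit 0, t28, nat_lit 0x30302), (nat_lit 0, t29, nat_lit 0x40304), (nat_lit 0x40205, t30, nat_lit 0x20203), (nat_lit 1027, t31, nat_lit 0x60205), (nat_lit 0x20505, t32, nat_lit 0x40503), (nat_lit 1286, t33, nat_lit 0x50106), (nat_lit 5, t34, nat_lit 0x50304), (nat_lit 0, t35, nat_lit 0x50503), (nat_lit 11, t36, nat_lit 0xb0602), (nat_lit 5, t37, nat_lit 0x20106), (nat_lit 8, t38, nat_lit 0x30505), (nat_lit 0xf151e1a1b1b0f15080b0e0604, t39, nat_lit 0x1d131e1a15)]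

theorem c1 : slp lk ver d1 E0 = true := by
  decide +kernel

noncomputable def d35 : ℕ → ℕ :=
  (rd (nat_lit 20) (nat_lit 0xfffff) [nat_lit 0x2000304003010030000300800e380000408d6c0057408cc0008b400c44008a0008000900c00004090100957c000000902000bb400404006380088800400000100829c00000085740380003084030040388803024034000302003ed8008bc00d6000008090040057c09af800edc0057c08de4000080800000ad4000200804000e380865c00408000bc0002800020096e0002f0095740000c03208030080329c03c4405c440b244050040b00c052000b004050400b020064000604006af806400020080aaf8020980a020020100a040020000a574028880104402008018b4028000129c02000014000a010020200a098020400a008020040a00002c440202001bb4022000100402ed80167402040010080680006888060000629c0b044050080b574050100b29c050000b204054000c004040100c084040080c57c040000c0980400804af804020052400529c0425404040059600540005008052000500005040077b401af80729c0102007574010040757c016740180007c440100807804018880700401000070040d0200d0400d00c0d29c0d0080d0100d0000d0080e040040200e000040400e400040000ecc00480406574062540c0200f00c0629c06c440c0000fb5c060240602004010045740c00010004067b4061a004290040040c00000])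

theorem c51 : covChk lk B 2 g2_0_0 g2_0_10 g2_0_10 cl2 d35 0 = true := by
  decide +kernel

noncomputable def d37 : ℕ → ℕ :=
  (rd (nat_lit 16) (nat_lit 0xffff) [nat_lit 0x640814127803040d00176403140d04170808001264170408cc122803000d04121403080df4170008640d1417f40828120003cc0764112802040c00167802640c04161407001108160407f4111402000c04116402080c14160007f40c6416280714110002140608106401040b00151401f40b0415080600101415040664107801000b04102801640bcc150006140b28156406f4100001f405080f1400040a00142800cc0a04146405000f08140405140f6400000a040f7800140a64140005280af4141405640f00000c04080e001904090013001b0c0904130804000e081304040c0e00180009040e001a08090c130004100910131004100e0000])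

theorem c55 : covChk lk B 5 g5_3_3 g5_3_6 g5_3_6 cl5 d37 0 = true := by
  decide +kernel

noncomputable def d33 : List (ℕ × List ℕ) :=
  [(nat_lit 27, [nat_lit 0x9010106100b15131c191b201e]), (nat_lit 0, [nat_lit 0x1c060111050f1314191917])]

theorem c48 : Nat.ble 253 (chain lk E 276 (okN lk B t101 23) d33 []) = true := by
  decide +kernel

theorem c52 : fuse lk B E g3_0_7 r3 fz3 = true := by
  decide +kernel

noncomputable def d22 : List (ℕ × List ℕ) :=
  [(nat_lit 8, [nat_lit 0x11a0106161016131c191b1e20]), (nat_lit 18, [nat_lit 0xb07011a091a0b0b141713191917201e]), (nat_lit 0, [nat_lit 0x3041b06051b0d161a1e, nat_lit 0xd030e09050b14121c1920]), (nat_lit 31, [nat_lit 0x3041c0917101e161b19, nat_lit 0x2150110061510141d1720]), (nat_lit 1, [nat_lit 0xa02010b1a05130d15131c1e, nat_lit 0x1a0413061a0f1b151d1c1b1e20])]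

theorem c32 : Nat.ble 699840 (chain lk E 276 (okN lk B t96 3) d22 []) = true := by
  decide +kernel

noncomputable def d27 : List (ℕ × List ℕ) :=
  [(nat_lit 0, [nat_lit 0x140209191012151c1b17201e, nat_lit 0x120315091a0b0b15161a20171e]), (nat_lit 8, [nat_lit 0x602160d050e0e16131d1a1e, nat_lit 0x17040e07190e1915121a1a201e]), (nat_lit 1, [nat_lit 0x50201071a051a0f15151917191e])]

theorem c39 : Nat.ble 6000 (chain lk E 276 (okN lk B t98 5) d27 []) = true := by
  decide +kernel

noncomputable def d20 : List (ℕ × List ℕ) :=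
  [(nat_lit 2, [nat_lit 0xf20020a07150d1513191a1e20]), (nat_lit 5, [nat_lit 0x150915130d1a12191c201e, nat_lit 0x1d030618050e0f1c13131c1b20]), (nat_lit 10, [nat_lit 0x6120710180b1a16121d1c, nat_lit 0xf0a02140905101d15191720]), (nat_lit 0, [nat_lit 0x1003011c0a0e0e1414171d1e, nat_lit 0x1103200705110d15161d19171e1e])]

theorem c29 : Nat.ble 58320 (chain lk E 276 (okN lk B t95 3) d20 []) = true := by
  decide +kernel

noncomputable def d16 : List (ℕ × List ℕ) :=
  [(nat_lit 3, [nat_lit 0x1504011a1407180d1d161c1c, nat_lit 0x101b010a100513110b151720]), (nat_lit 8, [nat_lit 0x12030a07180d14141b, nat_lit 0x1e04190516140b1b17171e20]), (nat_lit 10, [nat_lit 0x1a05010612071c0d161520, nat_lit 0xf0619100b15141d1717201e]), (nat_lit 0, [nat_lit 0x30106060e0b131a201e, nat_lit 0xd040f1005200b0b13131c17]), (nat_lit 1, [nat_lit 0x1c0b15141b1d, nat_lit 0x703010b0d051e0b0b1b1e132017])]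

theorem c23 : Nat.ble 2903040 (chain lk E 276 (okN lk B t93 2) d16 []) = true := by
  decide +kernel

noncomputable def d14 : List (ℕ × List ℕ) :=
  [(nat_lit 50, [nat_lit 0x130f01160a190e1616171d, nat_lit 0x13030612070d14171d201e]), (nat_lit 9, [nat_lit 0x150d011c0a1a0f1417121c1b201e]), (nat_lit 11, [nat_lit 0x31d0a190e1414191b, nat_lit 0x3020f060b0b131e19171e1e]), (nat_lit 0, [nat_lit 0x14031a07130e0b1417121d1e, nat_lit 0x120b011806200b0b151315191c]), (nat_lit 1, [nat_lit 0x6020f0a060f1b0b181617191e])]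

theorem c20 : Nat.ble 190080 (chain lk E 276 (okN lk B t92 2) d14 []) = true := by
  decide +kernel

noncomputable def d18 : List (ℕ × List ℕ) :=
  [(nat_lit 1, [nat_lit 0x110a011a07110e191317171e, nat_lit 0x1906010e0619101219121e171e]), (nat_lit 10, [nat_lit 0x1d0b061a0b13121b1b1e20, nat_lit 0x1906010f071d0e16131c20]), (nat_lit 0, [nat_lit 0x1604011d0a131019151e1d, nat_lit 0x1c031109160f0d141c1217201e])]

theorem c26 : Nat.ble 9072 (chain lk E 276 (okN lk B t94 3) d18 []) = true := by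
  decide +kernel

noncomputable def d31 : List (ℕ × List ℕ) :=
  [(nat_lit 3, [nat_lit 0x1a04090a1d0e17151919171e]), (nat_lit 0, [nat_lit 0xd011c0a200f1c1318191e20])]

theorem c45 : Nat.ble 110 (chain lk E 276 (okN lk B t100 11) d31 []) = true := by
  decide +kernel

noncomputable def d29 : List (ℕ × List ℕ) :=
  [(nat_lit 3, [nat_lit 0x1502090605170f1316131717, nat_lit 0x4090715150b1314201c1720]), (nat_lit 0, [nat_lit 0x602011905061116181a1e])]

theorem c42 : Nat.ble 252 (chain lk E 276 (okN lk B t99 7) d29 []) = true := by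
  decide +kernel

noncomputable def d25 : List (ℕ × List ℕ) :=
  [(nat_lit 8, [nat_lit 0xd04070d0d14141a201e, nat_lit 0x1d0f01180516101d131819]), (nat_lit 1, [nat_lit 0x302141117141a1b1e1e, nat_lit 0x5041605051d0f141a1c201e])]

theorem c36 : Nat.ble 1200 (chain lk E 276 (okN lk B t97 5) d25 []) = true := by
  decide +kernel

noncomputable def d7 : List (ℕ × List ℕ) :=
  [(nat_lit 130, [nat_lit 1, nat_lit 2, nat_lit 3]), (nat_lit 138, [nat_lit 6, nat_lit 7])]

theorem c9 : Nat.ble 2187 (chain lk g3E 276 (fun _ => true) d7 []) = true := by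
  decide +kernel

theorem c54 : fuse lk B E g5_3_6 r5 fz5 = true := by
  decide +kernel

noncomputable def d2 : List (ℕ × List ℕ) :=
  [(nat_lit 111, [nat_lit 1, nat_lit 2]), (nat_lit 99, [nat_lit 5, nat_lit 6]), (nat_lit 128, [nat_lit 11, nat_lit 13]), (nat_lit 102, [nat_lit 18, nat_lit 19]), (nat_lit 33, [nat_lit 23, nat_lit 24, nat_lit 25]), (nat_lit 11, [nat_lit 30, nat_lit 32])]

theorem c2 : baseChk lk E 276 495766656000 d2 = true := by
  decide +kernel

theorem c50 : fuse lk B E g2_0_10 r2 fz2 = true := by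
  decide +kernel

noncomputable def d4 : ℕ → ℕ :=
  (rd (nat_lit 9) (nat_lit 511) [nat_lit 0x402020180008020080010050180400120c8180403010983a21020185c2d260c81c08020502e00442fd8e10043cdfa09043b93ed6100411c63256e09000])

theorem c5 : Nat.blt (nat_lit 0) (pcChk lk B d4 g2_0_10 (nat_lit 1)) = true := by
  decide +kernel

noncomputable def d5 : List (ℕ × List ℕ) :=
  [(nat_lit 231, [nat_lit 1, nat_lit 4]), (nat_lit 180, [nat_lit 8, nat_lit 9])]

theorem c6 : Nat.ble 1024 (chain lk g2E 276 (fun _ => true) d5 []) = true := by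
  decide +kernel

noncomputable def d6 : ℕ → ℕ :=
  (rd (nat_lit 10) (nat_lit 1023) [nat_lit 0x40000c0100009014010001e0240301c001ac52024d0228002410206da19b44306c00])

theorem c8 : Nat.blt (nat_lit 0) (pcChk lk B d6 g3_0_7 (nat_lit 1)) = true := by
  decide +kernel

noncomputable def d9 : List (ℕ × List ℕ) :=
  [(nat_lit 139, [nat_lit 1, nat_lit 2])]

theorem c12 : Nat.ble 125 (chain lk g5E 276 (fun _ => true) d9 []) = true := by
  decide +kernel

noncomputable def d8 : ℕ → ℕ :=
  (rd (nat_lit 5) (nat_lit 31) [nat_lit 0x201c400])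

theorem c11 : Nat.blt (nat_lit 0) (pcChk lk B d8 g5_3_6 (nat_lit 1)) = true := by
  decide +kernel

noncomputable def d10 : ℕ → ℕ :=
  (rd (nat_lit 4) (nat_lit 15) [nat_lit 0x60c110])

theorem c14 : Nat.blt (nat_lit 0) (pcChk lk B d10 g7_0_3 (nat_lit 1)) = true := by
  decide +kernel

noncomputable def d12 : ℕ → ℕ :=
  (rd (nat_lit 3) (nat_lit 7) [nat_lit 0x8c48])

theorem c17 : Nat.blt (nat_lit 0) (pcChk lk B d12 g11_0_3 (nat_lit 1)) = true := by
  decide +kernel

noncomputable def d13 : List (ℕ × List ℕ) :=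
  [(nat_lit 158, [nat_lit 1, nat_lit 3])]

theorem c18 : Nat.ble 110 (chain lk g11E 276 (fun _ => true) d13 []) = true := by
  decide +kernel

noncomputable def d11 : List (ℕ × List ℕ) :=
  [(nat_lit 112, [nat_lit 1, nat_lit 3])]

theorem c15 : Nat.ble 42 (chain lk g7E 276 (fun _ => true) d11 []) = true := by
  decide +kernel

theorem c4 : invChk lk B (g2_0_10.map Prod.snd) = true := by
  decide +kernel

theorem c7 : invChk lk B (g3_0_7.map Prod.snd) = true := by
  decide +kernel

theorem c10 : invChk lk B (g5_3_6.map Prod.snd) = true := by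
  decide +kernel

theorem c13 : invChk lk B (g7_0_3.map Prod.snd) = true := by
  decide +kernel

theorem c16 : invChk lk B (g11_0_3.map Prod.snd) = true := by
  decide +kernel

theorem c19 : ordChk lk B t92 2 = true := by
  decide +kernel

theorem c22 : ordChk lk B t93 2 = true := by
  decide +kernel

theorem c25 : ordChk lk B t94 3 = true := by
  decide +kernel

theorem c28 : ordChk lk B t95 3 = true := by
  decide +kernel

theorem c31 : ordChk lk B t96 3 = true := by
  decide +kernel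

theorem c35 : ordChk lk B t97 5 = true := by
  decide +kernel

theorem c38 : ordChk lk B t98 5 = true := by
  decide +kernel

theorem c41 : ordChk lk B t99 7 = true := by
  decide +kernel

theorem c44 : ordChk lk B t100 11 = true := by
  decide +kernel

theorem c47 : ordChk lk B t101 23 = true := by
  decide +kernel

end Cfsg.Agent.SB.SporF.Co3
end

-- part: SB/SporF/Co3/Main
section
/-! S5765, row of Co3: assembly (generated by notes/SB/spor_tools, helper63) -/

set_option autoImplicit false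

namespace Cfsg.Agent.SB.SporF.Co3

open Cfsg.Agent.SB Cfsg.Agent.SB.Spor

open Cfsg

set_option maxRecDepth 100000
set_option linter.unusedSectionVars false

variable {G : Type*} [Group G]

theorem tab (M : PM G 276) : M.Tab lk mk ver := perm_tab M rfl (by norm_num) (by norm_num)

/-- the tables `E0` describe elements of `G`, and the order of `G` is bounded -/
structure Hyp (M : PM G 276) : Prop where
  h0 : AllIn M lk E0
  hN : Nat.card G ≤ 495766656000

variable [Finite G] {M : PM G 276} (H : Hyp M)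
include H

theorem s0 : AllIn M lk sl0 :=
  slp_spec (tab M) d1 E0 H.h0 c1

theorem i8 : M.In lk t8 :=
  s0 H _ (.head _)

theorem i9 : M.In lk t9 :=
  s0 H _ (.tail _ (.head _))

theorem i10 : M.In lk t10 :=
  s0 H _ (.tail _ (.tail _ (.head _)))

theorem i11 : M.In lk t11 :=
  s0 H _ (.tail _ (.tail _ (.tail _ (.head _))))

theorem i12 : M.In lk t12 :=
  s0 H _ (.tail _ (.tail _ (.tail _ (.tail _ (.head _)))))

theorem i13 : M.In lk t13 :=
  s0 H _ (.tail _ (.tail _ (.tail _ (.tail _ (.tail _ (.head _))))))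

theorem i14 : M.In lk t14 :=
  s0 H _ (.tail _ (.tail _ (.tail _ (.tail _ (.tail _ (.tail _ (.head _)))))))

theorem i15 : M.In lk t15 :=
  s0 H _ (.tail _ (.tail _ (.tail _ (.tail _ (.tail _ (.tail _ (.tail _ (.head _))))))))

theorem i16 : M.In lk t16 :=
  s0 H _ (.tail _ (.tail _ (.tail _ (.tail _ (.tail _ (.tail _ (.tail _ (.tail _ (.head _)))))))))

theorem i17 : M.In lk t17 :=
  s0 H _ (.tail _ (.tail _ (.tail _ (.tail _ (.tail _ (.tail _ (.tail _ (.tail _ (.tail _ (.head _))))))))))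

theorem i18 : M.In lk t18 :=
  s0 H _ (.tail _ (.tail _ (.tail _ (.tail _ (.tail _ (.tail _ (.tail _ (.tail _ (.tail _ (.tail _ (.head _)))))))))))

theorem i19 : M.In lk t19 :=
  s0 H _ (.tail _ (.tail _ (.tail _ (.tail _ (.tail _ (.tail _ (.tail _ (.tail _ (.tail _ (.tail _ (.tail _ (.head _))))))))))))

theorem i20 : M.In lk t20 :=
  s0 H _ (.tail _ (.tail _ (.tail _ (.tail _ (.tail _ (.tail _ (.tail _ (.tail _ (.tail _ (.tail _ (.tail _ (.tail _ (.head _)))))))))))))

theorem i21 : M.In lk t21 :=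
  s0 H _ (.tail _ (.tail _ (.tail _ (.tail _ (.tail _ (.tail _ (.tail _ (.tail _ (.tail _ (.tail _ (.tail _ (.tail _ (.tail _ (.head _))))))))))))))

theorem i22 : M.In lk t22 :=
  s0 H _ (.tail _ (.tail _ (.tail _ (.tail _ (.tail _ (.tail _ (.tail _ (.tail _ (.tail _ (.tail _ (.tail _ (.tail _ (.tail _ (.tail _ (.head _)))))))))))))))

theorem i23 : M.In lk t23 :=
  s0 H _ (.tail _ (.tail _ (.tail _ (.tail _ (.tail _ (.tail _ (.tail _ (.tail _ (.tail _ (.tail _ (.tail _ (.tail _ (.tail _ (.tail _ (.tail _ (.head _))))))))))))))))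

theorem i24 : M.In lk t24 :=
  s0 H _ (.tail _ (.tail _ (.tail _ (.tail _ (.tail _ (.tail _ (.tail _ (.tail _ (.tail _ (.tail _ (.tail _ (.tail _ (.tail _ (.tail _ (.tail _ (.tail _ (.head _)))))))))))))))))

theorem i25 : M.In lk t25 :=
  s0 H _ (.tail _ (.tail _ (.tail _ (.tail _ (.tail _ (.tail _ (.tail _ (.tail _ (.tail _ (.tail _ (.tail _ (.tail _ (.tail _ (.tail _ (.tail _ (.tail _ (.tail _ (.head _))))))))))))))))))

theorem i26 : M.In lk t26 :=
  s0 H _ (.tail _ (.tail _ (.tail _ (.tail _ (.tail _ (.tail _ (.tail _ (.tail _ (.tail _ (.tail _ (.tail _ (.tail _ (.tail _ (.tail _ (.tail _ (.tail _ (.tail _ (.tail _ (.head _)))))))))))))))))))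

theorem i27 : M.In lk t27 :=
  s0 H _ (.tail _ (.tail _ (.tail _ (.tail _ (.tail _ (.tail _ (.tail _ (.tail _ (.tail _ (.tail _ (.tail _ (.tail _ (.tail _ (.tail _ (.tail _ (.tail _ (.tail _ (.tail _ (.tail _ (.head _))))))))))))))))))))

theorem i28 : M.In lk t28 :=
  s0 H _ (.tail _ (.tail _ (.tail _ (.tail _ (.tail _ (.tail _ (.tail _ (.tail _ (.tail _ (.tail _ (.tail _ (.tail _ (.tail _ (.tail _ (.tail _ (.tail _ (.tail _ (.tail _ (.tail _ (.tail _ (.head _)))))))))))))))))))))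

theorem i29 : M.In lk t29 :=
  s0 H _ (.tail _ (.tail _ (.tail _ (.tail _ (.tail _ (.tail _ (.tail _ (.tail _ (.tail _ (.tail _ (.tail _ (.tail _ (.tail _ (.tail _ (.tail _ (.tail _ (.tail _ (.tail _ (.tail _ (.tail _ (.tail _ (.head _))))))))))))))))))))))

theorem i30 : M.In lk t30 :=
  s0 H _ (.tail _ (.tail _ (.tail _ (.tail _ (.tail _ (.tail _ (.tail _ (.tail _ (.tail _ (.tail _ (.tail _ (.tail _ (.tail _ (.tail _ (.tail _ (.tail _ (.tail _ (.tail _ (.tail _ (.tail _ (.tail _ (.tail _ (.head _)))))))))))))))))))))))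

theorem i31 : M.In lk t31 :=
  s0 H _ (.tail _ (.tail _ (.tail _ (.tail _ (.tail _ (.tail _ (.tail _ (.tail _ (.tail _ (.tail _ (.tail _ (.tail _ (.tail _ (.tail _ (.tail _ (.tail _ (.tail _ (.tail _ (.tail _ (.tail _ (.tail _ (.tail _ (.tail _ (.head _))))))))))))))))))))))))

theorem i32 : M.In lk t32 :=
  s0 H _ (.tail _ (.tail _ (.tail _ (.tail _ (.tail _ (.tail _ (.tail _ (.tail _ (.tail _ (.tail _ (.tail _ (.tail _ (.tail _ (.tail _ (.tail _ (.tail _ (.tail _ (.tail _ (.tail _ (.tail _ (.tail _ (.tail _ (.tail _ (.tail _ (.head _)))))))))))))))))))))))))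

theorem i33 : M.In lk t33 :=
  s0 H _ (.tail _ (.tail _ (.tail _ (.tail _ (.tail _ (.tail _ (.tail _ (.tail _ (.tail _ (.tail _ (.tail _ (.tail _ (.tail _ (.tail _ (.tail _ (.tail _ (.tail _ (.tail _ (.tail _ (.tail _ (.tail _ (.tail _ (.tail _ (.tail _ (.tail _ (.head _))))))))))))))))))))))))))

theorem i34 : M.In lk t34 :=
  s0 H _ (.tail _ (.tail _ (.tail _ (.tail _ (.tail _ (.tail _ (.tail _ (.tail _ (.tail _ (.tail _ (.tail _ (.tail _ (.tail _ (.tail _ (.tail _ (.tail _ (.tail _ (.tail _ (.tail _ (.tail _ (.tail _ (.tail _ (.tail _ (.tail _ (.tail _ (.tail _ (.head _)))))))))))))))))))))))))))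

theorem i35 : M.In lk t35 :=
  s0 H _ (.tail _ (.tail _ (.tail _ (.tail _ (.tail _ (.tail _ (.tail _ (.tail _ (.tail _ (.tail _ (.tail _ (.tail _ (.tail _ (.tail _ (.tail _ (.tail _ (.tail _ (.tail _ (.tail _ (.tail _ (.tail _ (.tail _ (.tail _ (.tail _ (.tail _ (.tail _ (.tail _ (.head _))))))))))))))))))))))))))))

theorem i36 : M.In lk t36 :=
  s0 H _ (.tail _ (.tail _ (.tail _ (.tail _ (.tail _ (.tail _ (.tail _ (.tail _ (.tail _ (.tail _ (.tail _ (.tail _ (.tail _ (.tail _ (.tail _ (.tail _ (.tail _ (.tail _ (.tail _ (.tail _ (.tail _ (.tail _ (.tail _ (.tail _ (.tail _ (.tail _ (.tail _ (.tail _ (.head _)))))))))))))))))))))))))))))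

theorem i37 : M.In lk t37 :=
  s0 H _ (.tail _ (.tail _ (.tail _ (.tail _ (.tail _ (.tail _ (.tail _ (.tail _ (.tail _ (.tail _ (.tail _ (.tail _ (.tail _ (.tail _ (.tail _ (.tail _ (.tail _ (.tail _ (.tail _ (.tail _ (.tail _ (.tail _ (.tail _ (.tail _ (.tail _ (.tail _ (.tail _ (.tail _ (.tail _ (.head _))))))))))))))))))))))))))))))

theorem i38 : M.In lk t38 :=
  s0 H _ (.tail _ (.tail _ (.tail _ (.tail _ (.tail _ (.tail _ (.tail _ (.tail _ (.tail _ (.tail _ (.tail _ (.tail _ (.tail _ (.tail _ (.tail _ (.tail _ (.tail _ (.tail _ (.tail _ (.tail _ (.tail _ (.tail _ (.tail _ (.tail _ (.tail _ (.tail _ (.tail _ (.tail _ (.tail _ (.tail _ (.head _)))))))))))))))))))))))))))))))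

theorem i39 : M.In lk t39 :=
  s0 H _ (.tail _ (.tail _ (.tail _ (.tail _ (.tail _ (.tail _ (.tail _ (.tail _ (.tail _ (.tail _ (.tail _ (.tail _ (.tail _ (.tail _ (.tail _ (.tail _ (.tail _ (.tail _ (.tail _ (.tail _ (.tail _ (.tail _ (.tail _ (.tail _ (.tail _ (.tail _ (.tail _ (.tail _ (.tail _ (.tail _ (.tail _ (.head _))))))))))))))))))))))))))))))))

theorem hE : AllIn M lk E :=
  (AllIn.cons (i8 H) (AllIn.cons (i9 H) (AllIn.cons (i10 H) (AllIn.cons (i11 H) (AllIn.cons (i12 H) (AllIn.cons (i13 H) (AllIn.cons (i14 H) (AllIn.cons (i15 H) (AllIn.cons (i16 H) (AllIn.cons (i17 H) (AllIn.cons (i18 H) (AllIn.cons (i19 H) (AllIn.cons (i20 H) (AllIn.cons (i21 H) (AllIn.cons (i22 H) (AllIn.cons (i23 H) (AllIn.cons (i24 H) (AllIn.cons (i25 H) (AllIn.cons (i26 H) (AllIn.cons (i27 H) (AllIn.cons (i28 H) (AllIn.cons (i29 H) (AllIn.cons (i30 H) (AllIn.cons (i31 H) (AllIn.cons (i32 H) (AllIn.cons (i33 H) (AllIn.cons (i34 H) (AllIn.cons (i35 H) (AllIn.cons (i36 H) (AllIn.cons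 (i37 H) (AllIn.cons (i38 H) (AllIn.cons (i39 H) AllIn.nil))))))))))))))))))))))))))))))))

theorem hB0 : M.Base B ∧ Nat.card G = 495766656000 :=
  base_of_chk (hE H) H.hN (B := B) rfl c2

theorem hB : M.Base B :=
  (hB0 H).1

theorem u0 : AllIn M lk ul0 :=
  slp_spec (tab M) d3 E (hE H) c3

theorem i40 : M.In lk t40 :=
  u0 H _ (.head _)

theorem i41 : M.In lk t41 :=
  u0 H _ (.tail _ (.head _))

theorem i42 : M.In lk t42 :=
  u0 H _ (.tail _ (.tail _ (.head _)))

theorem i43 : M.In lk t43 :=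
  u0 H _ (.tail _ (.tail _ (.tail _ (.head _))))

theorem i44 : M.In lk t44 :=
  u0 H _ (.tail _ (.tail _ (.tail _ (.tail _ (.head _)))))

theorem i45 : M.In lk t45 :=
  u0 H _ (.tail _ (.tail _ (.tail _ (.tail _ (.tail _ (.head _))))))

theorem i46 : M.In lk t46 :=
  u0 H _ (.tail _ (.tail _ (.tail _ (.tail _ (.tail _ (.tail _ (.head _)))))))

theorem i47 : M.In lk t47 :=
  u0 H _ (.tail _ (.tail _ (.tail _ (.tail _ (.tail _ (.tail _ (.tail _ (.head _))))))))

theorem i48 : M.In lk t48 :=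
  u0 H _ (.tail _ (.tail _ (.tail _ (.tail _ (.tail _ (.tail _ (.tail _ (.tail _ (.head _)))))))))

theorem i49 : M.In lk t49 :=
  u0 H _ (.tail _ (.tail _ (.tail _ (.tail _ (.tail _ (.tail _ (.tail _ (.tail _ (.tail _ (.head _))))))))))

theorem i50 : M.In lk t50 :=
  u0 H _ (.tail _ (.tail _ (.tail _ (.tail _ (.tail _ (.tail _ (.tail _ (.tail _ (.tail _ (.tail _ (.head _)))))))))))

theorem i51 : M.In lk t51 :=
  u0 H _ (.tail _ (.tail _ (.tail _ (.tail _ (.tail _ (.tail _ (.tail _ (.tail _ (.tail _ (.tail _ (.tail _ (.head _))))))))))))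

theorem i52 : M.In lk t52 :=
  u0 H _ (.tail _ (.tail _ (.tail _ (.tail _ (.tail _ (.tail _ (.tail _ (.tail _ (.tail _ (.tail _ (.tail _ (.tail _ (.head _)))))))))))))

theorem i53 : M.In lk t53 :=
  u0 H _ (.tail _ (.tail _ (.tail _ (.tail _ (.tail _ (.tail _ (.tail _ (.tail _ (.tail _ (.tail _ (.tail _ (.tail _ (.tail _ (.head _))))))))))))))

theorem i54 : M.In lk t54 :=
  u0 H _ (.tail _ (.tail _ (.tail _ (.tail _ (.tail _ (.tail _ (.tail _ (.tail _ (.tail _ (.tail _ (.tail _ (.tail _ (.tail _ (.tail _ (.head _)))))))))))))))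

theorem i55 : M.In lk t55 :=
  u0 H _ (.tail _ (.tail _ (.tail _ (.tail _ (.tail _ (.tail _ (.tail _ (.tail _ (.tail _ (.tail _ (.tail _ (.tail _ (.tail _ (.tail _ (.tail _ (.head _))))))))))))))))

theorem i56 : M.In lk t56 :=
  u0 H _ (.tail _ (.tail _ (.tail _ (.tail _ (.tail _ (.tail _ (.tail _ (.tail _ (.tail _ (.tail _ (.tail _ (.tail _ (.tail _ (.tail _ (.tail _ (.tail _ (.head _)))))))))))))))))

theorem i57 : M.In lk t57 :=
  u0 H _ (.tail _ (.tail _ (.tail _ (.tail _ (.tail _ (.tail _ (.tail _ (.tail _ (.tail _ (.tail _ (.tail _ (.tail _ (.tail _ (.tail _ (.tail _ (.tail _ (.tail _ (.head _))))))))))))))))))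

theorem i58 : M.In lk t58 :=
  u0 H _ (.tail _ (.tail _ (.tail _ (.tail _ (.tail _ (.tail _ (.tail _ (.tail _ (.tail _ (.tail _ (.tail _ (.tail _ (.tail _ (.tail _ (.tail _ (.tail _ (.tail _ (.tail _ (.head _)))))))))))))))))))

theorem i59 : M.In lk t59 :=
  u0 H _ (.tail _ (.tail _ (.tail _ (.tail _ (.tail _ (.tail _ (.tail _ (.tail _ (.tail _ (.tail _ (.tail _ (.tail _ (.tail _ (.tail _ (.tail _ (.tail _ (.tail _ (.tail _ (.tail _ (.head _))))))))))))))))))))

theorem i60 : M.In lk t60 :=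
  u0 H _ (.tail _ (.tail _ (.tail _ (.tail _ (.tail _ (.tail _ (.tail _ (.tail _ (.tail _ (.tail _ (.tail _ (.tail _ (.tail _ (.tail _ (.tail _ (.tail _ (.tail _ (.tail _ (.tail _ (.tail _ (.head _)))))))))))))))))))))

theorem i61 : M.In lk t61 :=
  u0 H _ (.tail _ (.tail _ (.tail _ (.tail _ (.tail _ (.tail _ (.tail _ (.tail _ (.tail _ (.tail _ (.tail _ (.tail _ (.tail _ (.tail _ (.tail _ (.tail _ (.tail _ (.tail _ (.tail _ (.tail _ (.tail _ (.head _))))))))))))))))))))))

theorem i62 : M.In lk t62 :=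
  u0 H _ (.tail _ (.tail _ (.tail _ (.tail _ (.tail _ (.tail _ (.tail _ (.tail _ (.tail _ (.tail _ (.tail _ (.tail _ (.tail _ (.tail _ (.tail _ (.tail _ (.tail _ (.tail _ (.tail _ (.tail _ (.tail _ (.tail _ (.head _)))))))))))))))))))))))

theorem i63 : M.In lk t63 :=
  u0 H _ (.tail _ (.tail _ (.tail _ (.tail _ (.tail _ (.tail _ (.tail _ (.tail _ (.tail _ (.tail _ (.tail _ (.tail _ (.tail _ (.tail _ (.tail _ (.tail _ (.tail _ (.tail _ (.tail _ (.tail _ (.tail _ (.tail _ (.tail _ (.head _))))))))))))))))))))))))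

theorem i64 : M.In lk t64 :=
  u0 H _ (.tail _ (.tail _ (.tail _ (.tail _ (.tail _ (.tail _ (.tail _ (.tail _ (.tail _ (.tail _ (.tail _ (.tail _ (.tail _ (.tail _ (.tail _ (.tail _ (.tail _ (.tail _ (.tail _ (.tail _ (.tail _ (.tail _ (.tail _ (.tail _ (.head _)))))))))))))))))))))))))

theorem i65 : M.In lk t65 :=
  u0 H _ (.tail _ (.tail _ (.tail _ (.tail _ (.tail _ (.tail _ (.tail _ (.tail _ (.tail _ (.tail _ (.tail _ (.tail _ (.tail _ (.tail _ (.tail _ (.tail _ (.tail _ (.tail _ (.tail _ (.tail _ (.tail _ (.tail _ (.tail _ (.tail _ (.tail _ (.head _))))))))))))))))))))))))))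

theorem i66 : M.In lk t66 :=
  u0 H _ (.tail _ (.tail _ (.tail _ (.tail _ (.tail _ (.tail _ (.tail _ (.tail _ (.tail _ (.tail _ (.tail _ (.tail _ (.tail _ (.tail _ (.tail _ (.tail _ (.tail _ (.tail _ (.tail _ (.tail _ (.tail _ (.tail _ (.tail _ (.tail _ (.tail _ (.tail _ (.head _)))))))))))))))))))))))))))

theorem i67 : M.In lk t67 :=
  u0 H _ (.tail _ (.tail _ (.tail _ (.tail _ (.tail _ (.tail _ (.tail _ (.tail _ (.tail _ (.tail _ (.tail _ (.tail _ (.tail _ (.tail _ (.tail _ (.tail _ (.tail _ (.tail _ (.tail _ (.tail _ (.tail _ (.tail _ (.tail _ (.tail _ (.tail _ (.tail _ (.tail _ (.head _))))))))))))))))))))))))))))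

theorem i68 : M.In lk t68 :=
  u0 H _ (.tail _ (.tail _ (.tail _ (.tail _ (.tail _ (.tail _ (.tail _ (.tail _ (.tail _ (.tail _ (.tail _ (.tail _ (.tail _ (.tail _ (.tail _ (.tail _ (.tail _ (.tail _ (.tail _ (.tail _ (.tail _ (.tail _ (.tail _ (.tail _ (.tail _ (.tail _ (.tail _ (.tail _ (.head _)))))))))))))))))))))))))))))

theorem i69 : M.In lk t69 :=
  u0 H _ (.tail _ (.tail _ (.tail _ (.tail _ (.tail _ (.tail _ (.tail _ (.tail _ (.tail _ (.tail _ (.tail _ (.tail _ (.tail _ (.tail _ (.tail _ (.tail _ (.tail _ (.tail _ (.tail _ (.tail _ (.tail _ (.tail _ (.tail _ (.tail _ (.tail _ (.tail _ (.tail _ (.tail _ (.tail _ (.head _))))))))))))))))))))))))))))))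

theorem i70 : M.In lk t70 :=
  u0 H _ (.tail _ (.tail _ (.tail _ (.tail _ (.tail _ (.tail _ (.tail _ (.tail _ (.tail _ (.tail _ (.tail _ (.tail _ (.tail _ (.tail _ (.tail _ (.tail _ (.tail _ (.tail _ (.tail _ (.tail _ (.tail _ (.tail _ (.tail _ (.tail _ (.tail _ (.tail _ (.tail _ (.tail _ (.tail _ (.tail _ (.head _)))))))))))))))))))))))))))))))

theorem i71 : M.In lk t71 :=
  u0 H _ (.tail _ (.tail _ (.tail _ (.tail _ (.tail _ (.tail _ (.tail _ (.tail _ (.tail _ (.tail _ (.tail _ (.tail _ (.tail _ (.tail _ (.tail _ (.tail _ (.tail _ (.tail _ (.tail _ (.tail _ (.tail _ (.tail _ (.tail _ (.tail _ (.tail _ (.tail _ (.tail _ (.tail _ (.tail _ (.tail _ (.tail _ (.head _))))))))))))))))))))))))))))))))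

theorem i72 : M.In lk t72 :=
  u0 H _ (.tail _ (.tail _ (.tail _ (.tail _ (.tail _ (.tail _ (.tail _ (.tail _ (.tail _ (.tail _ (.tail _ (.tail _ (.tail _ (.tail _ (.tail _ (.tail _ (.tail _ (.tail _ (.tail _ (.tail _ (.tail _ (.tail _ (.tail _ (.tail _ (.tail _ (.tail _ (.tail _ (.tail _ (.tail _ (.tail _ (.tail _ (.tail _ (.head _)))))))))))))))))))))))))))))))))

theorem i73 : M.In lk t73 :=
  u0 H _ (.tail _ (.tail _ (.tail _ (.tail _ (.tail _ (.tail _ (.tail _ (.tail _ (.tail _ (.tail _ (.tail _ (.tail _ (.tail _ (.tail _ (.tail _ (.tail _ (.tail _ (.tail _ (.tail _ (.tail _ (.tail _ (.tail _ (.tail _ (.tail _ (.tail _ (.tail _ (.tail _ (.tail _ (.tail _ (.tail _ (.tail _ (.tail _ (.tail _ (.head _))))))))))))))))))))))))))))))))))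

theorem i74 : M.In lk t74 :=
  u0 H _ (.tail _ (.tail _ (.tail _ (.tail _ (.tail _ (.tail _ (.tail _ (.tail _ (.tail _ (.tail _ (.tail _ (.tail _ (.tail _ (.tail _ (.tail _ (.tail _ (.tail _ (.tail _ (.tail _ (.tail _ (.tail _ (.tail _ (.tail _ (.tail _ (.tail _ (.tail _ (.tail _ (.tail _ (.tail _ (.tail _ (.tail _ (.tail _ (.tail _ (.tail _ (.head _)))))))))))))))))))))))))))))))))))

theorem i75 : M.In lk t75 :=
  u0 H _ (.tail _ (.tail _ (.tail _ (.tail _ (.tail _ (.tail _ (.tail _ (.tail _ (.tail _ (.tail _ (.tail _ (.tail _ (.tail _ (.tail _ (.tail _ (.tail _ (.tail _ (.tail _ (.tail _ (.tail _ (.tail _ (.tail _ (.tail _ (.tail _ (.tail _ (.tail _ (.tail _ (.tail _ (.tail _ (.tail _ (.tail _ (.tail _ (.tail _ (.tail _ (.tail _ (.head _))))))))))))))))))))))))))))))))))))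

theorem i76 : M.In lk t76 :=
  u0 H _ (.tail _ (.tail _ (.tail _ (.tail _ (.tail _ (.tail _ (.tail _ (.tail _ (.tail _ (.tail _ (.tail _ (.tail _ (.tail _ (.tail _ (.tail _ (.tail _ (.tail _ (.tail _ (.tail _ (.tail _ (.tail _ (.tail _ (.tail _ (.tail _ (.tail _ (.tail _ (.tail _ (.tail _ (.tail _ (.tail _ (.tail _ (.tail _ (.tail _ (.tail _ (.tail _ (.tail _ (.head _)))))))))))))))))))))))))))))))))))))

theorem i77 : M.In lk t77 :=
  u0 H _ (.tail _ (.tail _ (.tail _ (.tail _ (.tail _ (.tail _ (.tail _ (.tail _ (.tail _ (.tail _ (.tail _ (.tail _ (.tail _ (.tail _ (.tail _ (.tail _ (.tail _ (.tail _ (.tail _ (.tail _ (.tail _ (.tail _ (.tail _ (.tail _ (.tail _ (.tail _ (.tail _ (.tail _ (.tail _ (.tail _ (.tail _ (.tail _ (.tail _ (.tail _ (.tail _ (.tail _ (.tail _ (.head _))))))))))))))))))))))))))))))))))))))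

theorem i78 : M.In lk t78 :=
  u0 H _ (.tail _ (.tail _ (.tail _ (.tail _ (.tail _ (.tail _ (.tail _ (.tail _ (.tail _ (.tail _ (.tail _ (.tail _ (.tail _ (.tail _ (.tail _ (.tail _ (.tail _ (.tail _ (.tail _ (.tail _ (.tail _ (.tail _ (.tail _ (.tail _ (.tail _ (.tail _ (.tail _ (.tail _ (.tail _ (.tail _ (.tail _ (.tail _ (.tail _ (.tail _ (.tail _ (.tail _ (.tail _ (.tail _ (.head _)))))))))))))))))))))))))))))))))))))))

theorem i79 : M.In lk t79 :=
  u0 H _ (.tail _ (.tail _ (.tail _ (.tail _ (.tail _ (.tail _ (.tail _ (.tail _ (.tail _ (.tail _ (.tail _ (.tail _ (.tail _ (.tail _ (.tail _ (.tail _ (.tail _ (.tail _ (.tail _ (.tail _ (.tail _ (.tail _ (.tail _ (.tail _ (.tail _ (.tail _ (.tail _ (.tail _ (.tail _ (.tail _ (.tail _ (.tail _ (.tail _ (.tail _ (.tail _ (.tail _ (.tail _ (.tail _ (.tail _ (.head _))))))))))))))))))))))))))))))))))))))))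

theorem i80 : M.In lk t80 :=
  u0 H _ (.tail _ (.tail _ (.tail _ (.tail _ (.tail _ (.tail _ (.tail _ (.tail _ (.tail _ (.tail _ (.tail _ (.tail _ (.tail _ (.tail _ (.tail _ (.tail _ (.tail _ (.tail _ (.tail _ (.tail _ (.tail _ (.tail _ (.tail _ (.tail _ (.tail _ (.tail _ (.tail _ (.tail _ (.tail _ (.tail _ (.tail _ (.tail _ (.tail _ (.tail _ (.tail _ (.tail _ (.tail _ (.tail _ (.tail _ (.tail _ (.head _)))))))))))))))))))))))))))))))))))))))))

theorem i81 : M.In lk t81 :=
  u0 H _ (.tail _ (.tail _ (.tail _ (.tail _ (.tail _ (.tail _ (.tail _ (.tail _ (.tail _ (.tail _ (.tail _ (.tail _ (.tail _ (.tail _ (.tail _ (.tail _ (.tail _ (.tail _ (.tail _ (.tail _ (.tail _ (.tail _ (.tail _ (.tail _ (.tail _ (.tail _ (.tail _ (.tail _ (.tail _ (.tail _ (.tail _ (.tail _ (.tail _ (.tail _ (.tail _ (.tail _ (.tail _ (.tail _ (.tail _ (.tail _ (.tail _ (.head _))))))))))))))))))))))))))))))))))))))))))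

theorem i82 : M.In lk t82 :=
  u0 H _ (.tail _ (.tail _ (.tail _ (.tail _ (.tail _ (.tail _ (.tail _ (.tail _ (.tail _ (.tail _ (.tail _ (.tail _ (.tail _ (.tail _ (.tail _ (.tail _ (.tail _ (.tail _ (.tail _ (.tail _ (.tail _ (.tail _ (.tail _ (.tail _ (.tail _ (.tail _ (.tail _ (.tail _ (.tail _ (.tail _ (.tail _ (.tail _ (.tail _ (.tail _ (.tail _ (.tail _ (.tail _ (.tail _ (.tail _ (.tail _ (.tail _ (.tail _ (.head _)))))))))))))))))))))))))))))))))))))))))))

theorem i83 : M.In lk t83 :=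
  u0 H _ (.tail _ (.tail _ (.tail _ (.tail _ (.tail _ (.tail _ (.tail _ (.tail _ (.tail _ (.tail _ (.tail _ (.tail _ (.tail _ (.tail _ (.tail _ (.tail _ (.tail _ (.tail _ (.tail _ (.tail _ (.tail _ (.tail _ (.tail _ (.tail _ (.tail _ (.tail _ (.tail _ (.tail _ (.tail _ (.tail _ (.tail _ (.tail _ (.tail _ (.tail _ (.tail _ (.tail _ (.tail _ (.tail _ (.tail _ (.tail _ (.tail _ (.tail _ (.tail _ (.head _))))))))))))))))))))))))))))))))))))))))))))

theorem i84 : M.In lk t84 :=
  u0 H _ (.tail _ (.tail _ (.tail _ (.tail _ (.tail _ (.tail _ (.tail _ (.tail _ (.tail _ (.tail _ (.tail _ (.tail _ (.tail _ (.tail _ (.tail _ (.tail _ (.tail _ (.tail _ (.tail _ (.tail _ (.tail _ (.tail _ (.tail _ (.tail _ (.tail _ (.tail _ (.tail _ (.tail _ (.tail _ (.tail _ (.tail _ (.tail _ (.tail _ (.tail _ (.tail _ (.tail _ (.tail _ (.tail _ (.tail _ (.tail _ (.tail _ (.tail _ (.tail _ (.tail _ (.head _)))))))))))))))))))))))))))))))))))))))))))))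

theorem i85 : M.In lk t85 :=
  u0 H _ (.tail _ (.tail _ (.tail _ (.tail _ (.tail _ (.tail _ (.tail _ (.tail _ (.tail _ (.tail _ (.tail _ (.tail _ (.tail _ (.tail _ (.tail _ (.tail _ (.tail _ (.tail _ (.tail _ (.tail _ (.tail _ (.tail _ (.tail _ (.tail _ (.tail _ (.tail _ (.tail _ (.tail _ (.tail _ (.tail _ (.tail _ (.tail _ (.tail _ (.tail _ (.tail _ (.tail _ (.tail _ (.tail _ (.tail _ (.tail _ (.tail _ (.tail _ (.tail _ (.tail _ (.tail _ (.head _))))))))))))))))))))))))))))))))))))))))))))))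

theorem i86 : M.In lk t86 :=
  u0 H _ (.tail _ (.tail _ (.tail _ (.tail _ (.tail _ (.tail _ (.tail _ (.tail _ (.tail _ (.tail _ (.tail _ (.tail _ (.tail _ (.tail _ (.tail _ (.tail _ (.tail _ (.tail _ (.tail _ (.tail _ (.tail _ (.tail _ (.tail _ (.tail _ (.tail _ (.tail _ (.tail _ (.tail _ (.tail _ (.tail _ (.tail _ (.tail _ (.tail _ (.tail _ (.tail _ (.tail _ (.tail _ (.tail _ (.tail _ (.tail _ (.tail _ (.tail _ (.tail _ (.tail _ (.tail _ (.tail _ (.head _)))))))))))))))))))))))))))))))))))))))))))))))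

theorem i87 : M.In lk t87 :=
  u0 H _ (.tail _ (.tail _ (.tail _ (.tail _ (.tail _ (.tail _ (.tail _ (.tail _ (.tail _ (.tail _ (.tail _ (.tail _ (.tail _ (.tail _ (.tail _ (.tail _ (.tail _ (.tail _ (.tail _ (.tail _ (.tail _ (.tail _ (.tail _ (.tail _ (.tail _ (.tail _ (.tail _ (.tail _ (.tail _ (.tail _ (.tail _ (.tail _ (.tail _ (.tail _ (.tail _ (.tail _ (.tail _ (.tail _ (.tail _ (.tail _ (.tail _ (.tail _ (.tail _ (.tail _ (.tail _ (.tail _ (.tail _ (.head _))))))))))))))))))))))))))))))))))))))))))))))))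

theorem i88 : M.In lk t88 :=
  u0 H _ (.tail _ (.tail _ (.tail _ (.tail _ (.tail _ (.tail _ (.tail _ (.tail _ (.tail _ (.tail _ (.tail _ (.tail _ (.tail _ (.tail _ (.tail _ (.tail _ (.tail _ (.tail _ (.tail _ (.tail _ (.tail _ (.tail _ (.tail _ (.tail _ (.tail _ (.tail _ (.tail _ (.tail _ (.tail _ (.tail _ (.tail _ (.tail _ (.tail _ (.tail _ (.tail _ (.tail _ (.tail _ (.tail _ (.tail _ (.tail _ (.tail _ (.tail _ (.tail _ (.tail _ (.tail _ (.tail _ (.tail _ (.tail _ (.head _)))))))))))))))))))))))))))))))))))))))))))))))))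

theorem i89 : M.In lk t89 :=
  u0 H _ (.tail _ (.tail _ (.tail _ (.tail _ (.tail _ (.tail _ (.tail _ (.tail _ (.tail _ (.tail _ (.tail _ (.tail _ (.tail _ (.tail _ (.tail _ (.tail _ (.tail _ (.tail _ (.tail _ (.tail _ (.tail _ (.tail _ (.tail _ (.tail _ (.tail _ (.tail _ (.tail _ (.tail _ (.tail _ (.tail _ (.tail _ (.tail _ (.tail _ (.tail _ (.tail _ (.tail _ (.tail _ (.tail _ (.tail _ (.tail _ (.tail _ (.tail _ (.tail _ (.tail _ (.tail _ (.tail _ (.tail _ (.tail _ (.tail _ (.head _))))))))))))))))))))))))))))))))))))))))))))))))))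

theorem i90 : M.In lk t90 :=
  u0 H _ (.tail _ (.tail _ (.tail _ (.tail _ (.tail _ (.tail _ (.tail _ (.tail _ (.tail _ (.tail _ (.tail _ (.tail _ (.tail _ (.tail _ (.tail _ (.tail _ (.tail _ (.tail _ (.tail _ (.tail _ (.tail _ (.tail _ (.tail _ (.tail _ (.tail _ (.tail _ (.tail _ (.tail _ (.tail _ (.tail _ (.tail _ (.tail _ (.tail _ (.tail _ (.tail _ (.tail _ (.tail _ (.tail _ (.tail _ (.tail _ (.tail _ (.tail _ (.tail _ (.tail _ (.tail _ (.tail _ (.tail _ (.tail _ (.tail _ (.tail _ (.head _)))))))))))))))))))))))))))))))))))))))))))))))))))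

theorem i91 : M.In lk t91 :=
  u0 H _ (.tail _ (.tail _ (.tail _ (.tail _ (.tail _ (.tail _ (.tail _ (.tail _ (.tail _ (.tail _ (.tail _ (.tail _ (.tail _ (.tail _ (.tail _ (.tail _ (.tail _ (.tail _ (.tail _ (.tail _ (.tail _ (.tail _ (.tail _ (.tail _ (.tail _ (.tail _ (.tail _ (.tail _ (.tail _ (.tail _ (.tail _ (.tail _ (.tail _ (.tail _ (.tail _ (.tail _ (.tail _ (.tail _ (.tail _ (.tail _ (.tail _ (.tail _ (.tail _ (.tail _ (.tail _ (.tail _ (.tail _ (.tail _ (.tail _ (.tail _ (.tail _ (.head _))))))))))))))))))))))))))))))))))))))))))))))))))))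

theorem i92 : M.In lk t92 :=
  u0 H _ (.tail _ (.tail _ (.tail _ (.tail _ (.tail _ (.tail _ (.tail _ (.tail _ (.tail _ (.tail _ (.tail _ (.tail _ (.tail _ (.tail _ (.tail _ (.tail _ (.tail _ (.tail _ (.tail _ (.tail _ (.tail _ (.tail _ (.tail _ (.tail _ (.tail _ (.tail _ (.tail _ (.tail _ (.tail _ (.tail _ (.tail _ (.tail _ (.tail _ (.tail _ (.tail _ (.tail _ (.tail _ (.tail _ (.tail _ (.tail _ (.tail _ (.tail _ (.tail _ (.tail _ (.tail _ (.tail _ (.tail _ (.tail _ (.tail _ (.tail _ (.tail _ (.tail _ (.head _)))))))))))))))))))))))))))))))))))))))))))))))))))))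

theorem i93 : M.In lk t93 :=
  u0 H _ (.tail _ (.tail _ (.tail _ (.tail _ (.tail _ (.tail _ (.tail _ (.tail _ (.tail _ (.tail _ (.tail _ (.tail _ (.tail _ (.tail _ (.tail _ (.tail _ (.tail _ (.tail _ (.tail _ (.tail _ (.tail _ (.tail _ (.tail _ (.tail _ (.tail _ (.tail _ (.tail _ (.tail _ (.tail _ (.tail _ (.tail _ (.tail _ (.tail _ (.tail _ (.tail _ (.tail _ (.tail _ (.tail _ (.tail _ (.tail _ (.tail _ (.tail _ (.tail _ (.tail _ (.tail _ (.tail _ (.tail _ (.tail _ (.tail _ (.tail _ (.tail _ (.tail _ (.tail _ (.head _))))))))))))))))))))))))))))))))))))))))))))))))))))))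

theorem i94 : M.In lk t94 :=
  u0 H _ (.tail _ (.tail _ (.tail _ (.tail _ (.tail _ (.tail _ (.tail _ (.tail _ (.tail _ (.tail _ (.tail _ (.tail _ (.tail _ (.tail _ (.tail _ (.tail _ (.tail _ (.tail _ (.tail _ (.tail _ (.tail _ (.tail _ (.tail _ (.tail _ (.tail _ (.tail _ (.tail _ (.tail _ (.tail _ (.tail _ (.tail _ (.tail _ (.tail _ (.tail _ (.tail _ (.tail _ (.tail _ (.tail _ (.tail _ (.tail _ (.tail _ (.tail _ (.tail _ (.tail _ (.tail _ (.tail _ (.tail _ (.tail _ (.tail _ (.tail _ (.tail _ (.tail _ (.tail _ (.tail _ (.head _)))))))))))))))))))))))))))))))))))))))))))))))))))))))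

theorem i95 : M.In lk t95 :=
  u0 H _ (.tail _ (.tail _ (.tail _ (.tail _ (.tail _ (.tail _ (.tail _ (.tail _ (.tail _ (.tail _ (.tail _ (.tail _ (.tail _ (.tail _ (.tail _ (.tail _ (.tail _ (.tail _ (.tail _ (.tail _ (.tail _ (.tail _ (.tail _ (.tail _ (.tail _ (.tail _ (.tail _ (.tail _ (.tail _ (.tail _ (.tail _ (.tail _ (.tail _ (.tail _ (.tail _ (.tail _ (.tail _ (.tail _ (.tail _ (.tail _ (.tail _ (.tail _ (.tail _ (.tail _ (.tail _ (.tail _ (.tail _ (.tail _ (.tail _ (.tail _ (.tail _ (.tail _ (.tail _ (.tail _ (.tail _ (.head _))))))))))))))))))))))))))))))))))))))))))))))))))))))))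

theorem i96 : M.In lk t96 :=
  u0 H _ (.tail _ (.tail _ (.tail _ (.tail _ (.tail _ (.tail _ (.tail _ (.tail _ (.tail _ (.tail _ (.tail _ (.tail _ (.tail _ (.tail _ (.tail _ (.tail _ (.tail _ (.tail _ (.tail _ (.tail _ (.tail _ (.tail _ (.tail _ (.tail _ (.tail _ (.tail _ (.tail _ (.tail _ (.tail _ (.tail _ (.tail _ (.tail _ (.tail _ (.tail _ (.tail _ (.tail _ (.tail _ (.tail _ (.tail _ (.tail _ (.tail _ (.tail _ (.tail _ (.tail _ (.tail _ (.tail _ (.tail _ (.tail _ (.tail _ (.tail _ (.tail _ (.tail _ (.tail _ (.tail _ (.tail _ (.tail _ (.head _)))))))))))))))))))))))))))))))))))))))))))))))))))))))))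

theorem i97 : M.In lk t97 :=
  u0 H _ (.tail _ (.tail _ (.tail _ (.tail _ (.tail _ (.tail _ (.tail _ (.tail _ (.tail _ (.tail _ (.tail _ (.tail _ (.tail _ (.tail _ (.tail _ (.tail _ (.tail _ (.tail _ (.tail _ (.tail _ (.tail _ (.tail _ (.tail _ (.tail _ (.tail _ (.tail _ (.tail _ (.tail _ (.tail _ (.tail _ (.tail _ (.tail _ (.tail _ (.tail _ (.tail _ (.tail _ (.tail _ (.tail _ (.tail _ (.tail _ (.tail _ (.tail _ (.tail _ (.tail _ (.tail _ (.tail _ (.tail _ (.tail _ (.tail _ (.tail _ (.tail _ (.tail _ (.tail _ (.tail _ (.tail _ (.tail _ (.tail _ (.head _))))))))))))))))))))))))))))))))))))))))))))))))))))))))))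

theorem i98 : M.In lk t98 :=
  u0 H _ (.tail _ (.tail _ (.tail _ (.tail _ (.tail _ (.tail _ (.tail _ (.tail _ (.tail _ (.tail _ (.tail _ (.tail _ (.tail _ (.tail _ (.tail _ (.tail _ (.tail _ (.tail _ (.tail _ (.tail _ (.tail _ (.tail _ (.tail _ (.tail _ (.tail _ (.tail _ (.tail _ (.tail _ (.tail _ (.tail _ (.tail _ (.tail _ (.tail _ (.tail _ (.tail _ (.tail _ (.tail _ (.tail _ (.tail _ (.tail _ (.tail _ (.tail _ (.tail _ (.tail _ (.tail _ (.tail _ (.tail _ (.tail _ (.tail _ (.tail _ (.tail _ (.tail _ (.tail _ (.tail _ (.tail _ (.tail _ (.tail _ (.tail _ (.head _)))))))))))))))))))))))))))))))))))))))))))))))))))))))))))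

theorem i99 : M.In lk t99 :=
  u0 H _ (.tail _ (.tail _ (.tail _ (.tail _ (.tail _ (.tail _ (.tail _ (.tail _ (.tail _ (.tail _ (.tail _ (.tail _ (.tail _ (.tail _ (.tail _ (.tail _ (.tail _ (.tail _ (.tail _ (.tail _ (.tail _ (.tail _ (.tail _ (.tail _ (.tail _ (.tail _ (.tail _ (.tail _ (.tail _ (.tail _ (.tail _ (.tail _ (.tail _ (.tail _ (.tail _ (.tail _ (.tail _ (.tail _ (.tail _ (.tail _ (.tail _ (.tail _ (.tail _ (.tail _ (.tail _ (.tail _ (.tail _ (.tail _ (.tail _ (.tail _ (.tail _ (.tail _ (.tail _ (.tail _ (.tail _ (.tail _ (.tail _ (.tail _ (.tail _ (.head _))))))))))))))))))))))))))))))))))))))))))))))))))))))))))))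

theorem i100 : M.In lk t100 :=
  u0 H _ (.tail _ (.tail _ (.tail _ (.tail _ (.tail _ (.tail _ (.tail _ (.tail _ (.tail _ (.tail _ (.tail _ (.tail _ (.tail _ (.tail _ (.tail _ (.tail _ (.tail _ (.tail _ (.tail _ (.tail _ (.tail _ (.tail _ (.tail _ (.tail _ (.tail _ (.tail _ (.tail _ (.tail _ (.tail _ (.tail _ (.tail _ (.tail _ (.tail _ (.tail _ (.tail _ (.tail _ (.tail _ (.tail _ (.tail _ (.tail _ (.tail _ (.tail _ (.tail _ (.tail _ (.tail _ (.tail _ (.tail _ (.tail _ (.tail _ (.tail _ (.tail _ (.tail _ (.tail _ (.tail _ (.tail _ (.tail _ (.tail _ (.tail _ (.tail _ (.tail _ (.head _)))))))))))))))))))))))))))))))))))))))))))))))))))))))))))))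

theorem i101 : M.In lk t101 :=
  u0 H _ (.tail _ (.tail _ (.tail _ (.tail _ (.tail _ (.tail _ (.tail _ (.tail _ (.tail _ (.tail _ (.tail _ (.tail _ (.tail _ (.tail _ (.tail _ (.tail _ (.tail _ (.tail _ (.tail _ (.tail _ (.tail _ (.tail _ (.tail _ (.tail _ (.tail _ (.tail _ (.tail _ (.tail _ (.tail _ (.tail _ (.tail _ (.tail _ (.tail _ (.tail _ (.tail _ (.tail _ (.tail _ (.tail _ (.tail _ (.tail _ (.tail _ (.tail _ (.tail _ (.tail _ (.tail _ (.tail _ (.tail _ (.tail _ (.tail _ (.tail _ (.tail _ (.tail _ (.tail _ (.tail _ (.tail _ (.tail _ (.tail _ (.tail _ (.tail _ (.tail _ (.tail _ (.head _))))))))))))))))))))))))))))))))))))))))))))))))))))))))))))))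

theorem g2p0 : PcG M lk g2_0_10 1024 :=
  pcg_of (hB H) (fa_cons (⟨i40 H, i41 H⟩) (fa_cons (⟨i42 H, i43 H⟩) (fa_cons (⟨i44 H, i45 H⟩) (fa_cons (⟨i46 H, i47 H⟩) (fa_cons (⟨i48 H, i49 H⟩) (fa_cons (⟨i50 H, i51 H⟩) (fa_cons (⟨i52 H, i53 H⟩) (fa_cons (⟨i54 H, i55 H⟩) (fa_cons (⟨i56 H, i57 H⟩) (fa_cons (⟨i58 H, i59 H⟩) fa_nil)))))))))) c4 c5 (E := g2E) rfl c6

theorem g3p0 : PcG M lk g3_0_7 2187 :=
  pcg_of (hB H) (fa_cons (⟨i60 H, i61 H⟩) (fa_cons (⟨i62 H, i63 H⟩) (fa_cons (⟨i64 H, i65 H⟩) (fa_cons (⟨i66 H, i67 H⟩) (fa_cons (⟨i68 H, i69 H⟩) (fa_cons (⟨i70 H, i71 H⟩) (fa_cons (⟨i72 H, i73 H⟩) fa_nil))))))) c7 c8 (E := g3E) rfl c9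

theorem g5p3 : PcG M lk g5_3_6 125 :=
  pcg_of (hB H) (fa_cons (⟨i74 H, i75 H⟩) (fa_cons (⟨i76 H, i77 H⟩) (fa_cons (⟨i78 H, i79 H⟩) fa_nil))) c10 c11 (E := g5E) rfl c12

theorem g7p0 : PcG M lk g7_0_3 42 :=
  pcg_of (hB H) (fa_cons (⟨i80 H, i81 H⟩) (fa_cons (⟨i82 H, i83 H⟩) (fa_cons (⟨i84 H, i85 H⟩) fa_nil))) c13 c14 (E := g7E) rfl c15

theorem g11p0 : PcG M lk g11_0_3 110 :=
  pcg_of (hB H) (fa_cons (⟨i86 H, i87 H⟩) (fa_cons (⟨i88 H, i89 H⟩) (fa_cons (⟨i90 H, i91 H⟩) fa_nil))) c16 c17 (E := g11E) rfl c18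

theorem dn0 : Dn (M.el lk t92) 2 42 :=
  (g7p0 H).dnS (tab M) (nsC_ok (hB H) _) (i92 H) (Upto.zero) c21

theorem ok0 : Rc.Ok ⟨2, 2, 42, 190080⟩ (M.el lk t92) :=
  rc_ok (hB H) (i92 H) (by norm_num) c19 (dn0 H) (by norm_num) (norm_ge (hB H) (hE H) (i92 H) c20)

theorem dn1 : Dn (M.el lk t93) 3 42 :=
  (g7p0 H).dnS (tab M) (nsC_ok (hB H) _) (i93 H) (Upto.zero) c24

theorem ok1 : Rc.Ok ⟨2, 3, 42, 2903040⟩ (M.el lk t93) :=
  rc_ok (hB H) (i93 H) (by norm_num) c22 (dn1 H) (by norm_num) (norm_ge (hB H) (hE H) (i93 H) c23)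

theorem dn2 : Dn (M.el lk t94) 1 125 :=
  (g5p3 H).dnP (A := g5_3_4) (R := g5_4_6) rfl (tab M) (nsC_ok (hB H) _) (i94 H) (Upto.zero) c27

theorem ok2 : Rc.Ok ⟨3, 1, 125, 9072⟩ (M.el lk t94) :=
  rc_ok (hB H) (i94 H) (by norm_num) c25 (dn2 H) (by norm_num) (norm_ge (hB H) (hE H) (i94 H) c26)

theorem dn3 : Dn (M.el lk t95) 1 110 :=
  (g11p0 H).dnP (A := g11_0_2) (R := g11_2_3) rfl (tab M) (nsC_ok (hB H) _) (i95 H) (Upto.zero) c30

theorem ok3 : Rc.Ok ⟨3, 1, 110, 58320⟩ (M.el lk t95) :=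
  rc_ok (hB H) (i95 H) (by norm_num) c28 (dn3 H) (by norm_num) (norm_ge (hB H) (hE H) (i95 H) c29)

theorem dn4 : Dn (M.el lk t96) 2 110 :=
  (g11p0 H).dnS (tab M) (nsC_ok (hB H) _) (i96 H) (Upto.zero) c34

theorem ok4 : Rc.Ok ⟨3, 2, 110, 699840⟩ (M.el lk t96) :=
  rc_ok (hB H) (i96 H) (by norm_num) c31 (dn4 H) (by norm_num) (norm_ge (hB H) (hE H) (i96 H) c32)

theorem g3p2 : PcG M lk g3_2_7 243 :=
  (g3p0 H).right (A := g3_0_2) rfl (by decide +kernel)

theorem dn5 : Dn (M.el lk t97) 1 243 :=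
  (g3p2 H).dnP (A := g3_2_4) (R := g3_4_7) rfl (tab M) (nsC_ok (hB H) _) (i97 H) (Upto.zero) c37

theorem ok5 : Rc.Ok ⟨5, 1, 243, 1200⟩ (M.el lk t97) :=
  rc_ok (hB H) (i97 H) (by norm_num) c35 (dn5 H) (by norm_num) (norm_ge (hB H) (hE H) (i97 H) c36)

theorem dn6 : Dn (M.el lk t98) 1 243 :=
  (g3p2 H).dnP (A := g3_2_4) (R := g3_4_7) rfl (tab M) (nsC_ok (hB H) _) (i98 H) (Upto.zero) c40

theorem ok6 : Rc.Ok ⟨5, 1, 243, 6000⟩ (M.el lk t98) :=
  rc_ok (hB H) (i98 H) (by norm_num) c38 (dn6 H) (by norm_num) (norm_ge (hB H) (hE H) (i98 H) c39)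

theorem g3p1 : PcG M lk g3_1_7 729 :=
  (g3p0 H).right (A := g3_0_1) rfl (by decide +kernel)

theorem dn7 : Dn (M.el lk t99) 1 729 :=
  (g3p1 H).dnP (A := g3_1_4) (R := g3_4_7) rfl (tab M) (nsC_ok (hB H) _) (i99 H) (Upto.zero) c43

theorem ok7 : Rc.Ok ⟨7, 1, 729, 252⟩ (M.el lk t99) :=
  rc_ok (hB H) (i99 H) (by norm_num) c41 (dn7 H) (by norm_num) (norm_ge (hB H) (hE H) (i99 H) c42)

theorem dn8 : Dn (M.el lk t100) 1 729 :=
  (g3p1 H).dnP (A := g3_1_4) (R := g3_4_7) rfl (tab M) (nsC_ok (hB H) _) (i100 H) (Upto.zero) c46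

theorem ok8 : Rc.Ok ⟨11, 1, 729, 110⟩ (M.el lk t100) :=
  rc_ok (hB H) (i100 H) (by norm_num) c44 (dn8 H) (by norm_num) (norm_ge (hB H) (hE H) (i100 H) c45)

theorem dn9 : Dn (M.el lk t101) 1 729 :=
  (g3p1 H).dnP (A := g3_1_4) (R := g3_4_7) rfl (tab M) (nsC_ok (hB H) _) (i101 H) (Upto.zero) c49

theorem ok9 : Rc.Ok ⟨23, 1, 729, 253⟩ (M.el lk t101) :=
  rc_ok (hB H) (i101 H) (by norm_num) c47 (dn9 H) (by norm_num) (norm_ge (hB H) (hE H) (i101 H) c48)

theorem cov2 : Cov M lk 2 r2 :=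
  (g2p0 H).cov (hB H) (A := g2_0_0) (R := g2_0_10) (d := 484147125) (a := 1) rfl (by norm_num) (hB0 H).2 (by decide +kernel) (hE H)
    (AllIn.cons (i92 H) (AllIn.cons (i93 H) AllIn.nil)) c50 (cls := cl2) rfl
    (show ∀ c ∈ [0], _ from (fa_cons (⟨_, c51⟩) fa_nil))

theorem cov3 : Cov M lk 3 r3 :=
  (g3p0 H).cov (hB H) (A := g3_0_0) (R := g3_0_7) (d := 226688000) (a := 1) rfl (by norm_num) (hB0 H).2 (by decide +kernel) (hE H)
    (AllIn.cons (i94 H) (AllIn.cons (i95 H) (AllIn.cons (i96 H) AllIn.nil))) c52 (cls := cl3) rfl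
    (show ∀ c ∈ [0], _ from (fa_cons (⟨_, c53⟩) fa_nil))

theorem cov5 : Cov M lk 5 r5 :=
  (g5p3 H).cov (hB H) (A := g5_3_3) (R := g5_3_6) (d := 3966133248) (a := 1) rfl (by norm_num) (hB0 H).2 (by decide +kernel) (hE H)
    (AllIn.cons (i97 H) (AllIn.cons (i98 H) AllIn.nil)) c54 (cls := cl5) rfl
    (show ∀ c ∈ [0], _ from (fa_cons (⟨_, c55⟩) fa_nil))

theorem cov7 : Cov M lk 7 r7 :=
  cov_of_prime (d := 70823808000) (by norm_num) (ok7 H).ord ((hB0 H).2.trans (by norm_num)) (by norm_num)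

theorem cov11 : Cov M lk 11 r11 :=
  cov_of_prime (d := 45069696000) (by norm_num) (ok8 H).ord ((hB0 H).2.trans (by norm_num)) (by norm_num)

theorem cov23 : Cov M lk 23 r23 :=
  cov_of_prime (d := 21555072000) (by norm_num) (ok9 H).ord ((hB0 H).2.trans (by norm_num)) (by norm_num)

theorem sheet : Sheet G 495766656000 [⟨2, 2, 42, 190080⟩, ⟨2, 3, 42, 2903040⟩, ⟨3, 1, 125, 9072⟩, ⟨3, 1, 110, 58320⟩, ⟨3, 2, 110, 699840⟩, ⟨5, 1, 243, 1200⟩, ⟨5, 1, 243, 6000⟩, ⟨7, 1, 729, 252⟩, ⟨11, 1, 729, 110⟩, ⟨23, 1, 729, 253⟩] :=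
  sheet_of (hB0 H).2 (F := [(2, 10), (3, 7), (5, 3), (7, 1), (11, 1), (23, 1)]) (by norm_num) (reps := [t92, t93, t94, t95, t96, t97, t98, t99, t100, t101])
    (.cons (ok0 H) (.cons (ok1 H) (.cons (ok2 H) (.cons (ok3 H) (.cons (ok4 H) (.cons (ok5 H) (.cons (ok6 H) (.cons (ok7 H) (.cons (ok8 H) (.cons (ok9 H) .nil))))))))))
    (fa_cons (pcov (by norm_num) (cov2 H) (fa_cons ((.head _)) (fa_cons ((.tail _ (.head _))) fa_nil))) (fa_cons (pcov (by norm_num) (cov3 H) (fa_cons ((.tail _ (.tail _ (.head _)))) (fa_cons ((.tail _ (.tail _ (.tail _ (.head _))))) (fa_cons ((.tail _ (.tail _ (.tail _ (.tail _ (.head _)))))) fa_nil)))) (fa_cons (pcov (by norm_num) (cov5 H) (fa_cons ((.tail _ (.tail _ (.tail _ (.tail _ (.tail _ (.head _))))))) (fa_cons ((.tail _ (.tail _ (.tail _ (.tail _ (.tail _ (.tail _ (.head _)))))))) fa_nil))) (fa_cons (pcov (by norm_num) (cov7 H) (fa_cons ((.tail _ (.tail _ (.tail _ (.tail _ (.tail _ (.tail _ (.tail _ (.head _))))))))) fa_nil)) (fa_cons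 (pcov (by norm_num) (cov11 H) (fa_cons ((.tail _ (.tail _ (.tail _ (.tail _ (.tail _ (.tail _ (.tail _ (.tail _ (.head _)))))))))) fa_nil)) (fa_cons (pcov (by norm_num) (cov23 H) (fa_cons ((.tail _ (.tail _ (.tail _ (.tail _ (.tail _ (.tail _ (.tail _ (.tail _ (.tail _ (.head _))))))))))) fa_nil)) fa_nil))))))

theorem big : ∀ c : G, (orderOf c).Prime → orderOf c ∣ 1771 → Dn c 1 630 :=
  big_of (F := [(23, 1), (11, 1), (7, 1)]) (by norm_num)
    (fa_cons (pcov (by norm_num) (cov23 H) (fa_cons ((ok9 H).big (by norm_num) (by norm_num)) fa_nil)) (fa_cons (pcov (by norm_num) (cov11 H) (fa_cons ((ok8 H).big (by norm_num) (by norm_num)) fa_nil)) (fa_cons (pcov (by norm_num) (cov7 H) (fa_cons ((ok7 H).big (by norm_num) (by norm_num)) fa_nil)) fa_nil)))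

theorem row [IsSimpleGroup G] (hK : ¬ IsMulCommutative G) (ho : Nat.card (Out G) = 1) : Row G :=
  (sheet H).row_one hK ho (by norm_num) (hB0 H).2 (a := 279936000) (by norm_num) (by norm_num) (by norm_num) (big H)
    (by simp only [List.map, List.sum_cons, List.sum_nil, Rc.term]; norm_num)

end Cfsg.Agent.SB.SporF.Co3
end

-- part: SB/SporF/RowCo3
section
/-!
# S5765, the row of `Co₃` (helper61)

The action on the 276 blocks of the model on 552 points; `row_Co3`.
-/

set_option autoImplicit false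
set_option maxRecDepth 100000

namespace Cfsg.Agent.SB.SporF

open Cfsg Cfsg.Agent.SB.Spor

/-- the action on the blocks of a central permutation `σ` -/
def blockPM {G : Type*} [Group G] {N n : ℕ} (φ : G →* Equiv.Perm (Fin N)) (σ : Equiv.Perm (Fin N))
    (hσ : ∀ g, σ * φ g = φ g * σ) (rep blk : ℕ → ℕ) (h1 : ∀ i < n, rep i < N ∧ blk (rep i) = i)
    (h2 : ∀ j : Fin N, blk j < n ∧ (rep (blk j) = j ∨ rep (blk j) = σ j) ∧ blk (σ j) = blk j) : PM G n where
  act g i := if h : rep i < N then blk (φ g ⟨rep i, h⟩) else 0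
  lt g i hi := by
    rw [dif_pos (h1 i hi).1]
    exact (h2 _).1
  one i hi := by
    rw [dif_pos (h1 i hi).1, map_one]
    exact (h1 i hi).2
  mul g h i hi := by
    rw [dif_pos (h1 i hi).1, dif_pos (h1 i hi).1, dif_pos (h1 _ (h2 _).1).1, map_mul, Equiv.Perm.mul_apply]
    generalize φ h ⟨rep i, (h1 i hi).1⟩ = j
    rcases (h2 j).2.1 with e | e
    · rw [show (⟨rep (blk j), (h1 _ (h2 _).1).1⟩ : Fin N) = j from Fin.ext e]
    · rw [show (⟨rep (blk j), (h1 _ (h2 _).1).1⟩ : Fin N) = σ j from Fin.ext e, ← Equiv.Perm.mul_apply (φ g) σ, ← hσ,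
        Equiv.Perm.mul_apply, (h2 _).2.2]

namespace Co3

open Cfsg.Agent.H763.Co3.Dat (gens ts)
open Cfsg.Agent.H763.Co3.Model (ψ σ σ_comm σ_apply ψ_e0_inv fin_G3)
open Cfsg.Agent.SporRec.Co3.Ident Cfsg.Agent.SporRec.Co3.Chain

/-- representatives of the blocks -/
noncomputable def repT : ℕ := nat_lit 0x8961483e0c81604809ff7edfa7e1f77d9f57c5ed7b1e879de4781de775d8759d4749d1741ce735cc72dca721c7711c3709c06fdbe6f5bb6e9b96e1b76d9b562d8a621876017e5f57c5ed7a5e5725b96a5a5675995a55d5555152545505154450d42505404f13b4e9394e1364d5344cd324bd2e4b12849d264952448d22485204751c465184591544d114410f4390d4290941d03409013fcfe3f4fc3ecfa3dcf63d4f43ccf23c4ee3b4ec3ace9394e438ce1378dd370db368d9360d7358d5350d3348d1340cf338cd330cb328c92b0ab2a8a929ca5290a3288a126c9a26094248912408e2348c22c8a2247f1f87d1f07b1e8791e0771c8701bc6e1b46c1a8691a0671986418c621845f1785d1705a1645715855150531445013c4e1344c12c4a1244811c46114350d0330c8310c02e0b42c0ac2a0a42808c220841f0781d0701b068190601705815050130480c02c0a02407018050100300400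

/-- the blocks -/
noncomputable def blkT : ℕ := nat_lit 0x44d0944d10438df3fd02414fb3e4f73cd0f445124110b405124210a3c8f64450d36d10360e53f1073d10043d0e4310d40cfd430d935cea42d0a4190942107418fe378d3414f53e0dd411033bcec39902404d6345003c0e2348ff368fe3f4fa3b4ee384fc390fb350fa3a0f93e0f73c4f63d4f43ccf23acf13c0e039cef3b8ed3a4ec3acea3a4e33a0e7398e5390e3388d033cce334cc328c9320c7314c3304c02fcbe2f0ba2dcb62c8b12c0ab2a8a82889e2749a26097258952489023c8b2288821872384e0370df37889354a732cb5318dd2e4dc36cda364d835c9f284a02bcbd2e0d62a4ac2d0d5244bb234d434c9b348d12649424cad1bc621785d1705b164d0238ae33cb3338cd1b4cc32cca2148420c821fc7d1f05a1e4c4324c831cc6314c41987e308c3308c1300bf19cbe2f4bc2ecba1a4702e4b81a8b7298a5290b62d4b42ccb22c4b02bcae28c872b4ac190632acaa184a92a06529c80298a5290a32886c1d4a12807a27c9c1ac742789d2708c26c9a2649825c961b8732549424c922449023c771d88e2348c22c5f228781c4602248821c68218811ec8521083208812007f1f87d1f07b1e8791e0771d8751d0731c8711c05815c55150521404f1384c12c4a124471144410c400fc3d0e8390e0360d0330c82a0a46f1b86d1b0511ac461a8691a067198310ec3c1084819464104631345614c620d4611805f0dc5e1745c16c5a1642809c220842007c1e0741c16057158551505314851140300bc2e0b44f0944e1344c12c4a0904912047118450f84410c42104231003f0f83d0ac3c0ec260e8390e0370d82c0d4340cc320c4300bc2e0b42c0ac2a0a41b0641805c160541404c120441003c0e0300b0a0270982509023068220842007c1e0741c028090200706c1a0640d060170581505013048110400f0380d0300b01805010030080a0240801c0101805010030080000400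

theorem ck1 : allN 276 (fun i => cnd (Nat.blt (H123.Cls.lk 10 repT i) 552)
    (Nat.beq (H123.Cls.lk 10 blkT (H123.Cls.lk 10 repT i)) i) false) = true := by decide +kernel

theorem ck2 : allN 552 (fun j => cnd (Nat.blt (H123.Cls.lk 10 blkT j) 276)
    (cnd (Nat.beq (H123.Cls.lk 10 blkT (H123.Cls.lk 10 ts j)) (H123.Cls.lk 10 blkT j))
      (cnd (Nat.beq (H123.Cls.lk 10 repT (H123.Cls.lk 10 blkT j)) j) true
        (Nat.beq (H123.Cls.lk 10 repT (H123.Cls.lk 10 blkT j)) (H123.Cls.lk 10 ts j))) false) false) = true := by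
  decide +kernel

theorem ck3 : allN 8 (fun k => allN 276 fun i => Nat.beq
    (H123.Cls.lk 10 blkT (H123.Cls.lk 10 (H123.Cls.nth gens k) (H123.Cls.lk 10 repT i)))
    (lk (H123.Cls.nth E0 k) i)) = true := by decide +kernel

theorem hk1 : ∀ i < 276, H123.Cls.lk 10 repT i < 552 ∧ H123.Cls.lk 10 blkT (H123.Cls.lk 10 repT i) = i := fun i hi => by
  obtain ⟨a, b⟩ := cnd_and (of_allN ck1 i hi)
  exact ⟨Nat.blt_eq.mp a, Nat.eq_of_beq_eq_true b⟩

theorem hk2 (j : Fin 552) : H123.Cls.lk 10 blkT j < 276 ∧ (H123.Cls.lk 10 repT (H123.Cls.lk 10 blkT j) = j ∨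
    H123.Cls.lk 10 repT (H123.Cls.lk 10 blkT j) = σ j) ∧ H123.Cls.lk 10 blkT (σ j) = H123.Cls.lk 10 blkT j := by
  obtain ⟨a, b⟩ := cnd_and (of_allN ck2 j j.2)
  obtain ⟨b, c⟩ := cnd_and b
  rw [σ_apply]
  refine ⟨Nat.blt_eq.mp a, ?_, Nat.eq_of_beq_eq_true b⟩
  cases h : Nat.beq (H123.Cls.lk 10 repT (H123.Cls.lk 10 blkT j)) j
  · rw [h] at c
    exact Or.inr (Nat.eq_of_beq_eq_true c)
  · exact Or.inl (Nat.eq_of_beq_eq_true h)

/-- the model on 276 points -/
noncomputable def pm : PM G3 276 := blockPM ψ σ σ_comm _ _ hk1 hk2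

theorem hyp : Hyp pm := by
  refine ⟨fun t ht => ?_, isCo3_G3.2.le⟩
  obtain ⟨k, hk, rfl⟩ := List.mem_iff_getElem.1 ht
  have hk8 : k < 8 := hk
  refine ⟨(H970.Ore.Tab.e0 k)⁻¹, fun i hi => ?_⟩
  show (if h : H123.Cls.lk 10 repT i < 552 then _ else _) = _
  rw [dif_pos (hk1 i hi).1, ψ_e0_inv hk8, ← List.getD_eq_getElem _ 0 hk, ← H123.Cls.nth_eq]
  exact Nat.eq_of_beq_eq_true (of_allN (of_allN ck3 k hk8) i hi)

end Co3

theorem not_comm_of_card {G : Type*} [Group G] [Finite G] [IsSimpleGroup G] (h : ¬ (Nat.card G).Prime) :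
    ¬ IsMulCommutative G := fun hc => by
  let _ : CommGroup G := { (inferInstance : Group G) with mul_comm := hc.is_comm.comm }
  exact h IsSimpleGroup.prime_card

theorem card_out_congr {K K' : Type*} [Group K] [Group K'] (e : K ≃* K') : Nat.card (Out K) = Nat.card (Out K') := by
  show (H786.FC.InnG K).index = (H786.FC.InnG K').index
  rw [← congr_innG e]
  exact (Subgroup.index_map_equiv _ (MulAut.congr e)).symm

/-- **The row of `Co₃`.** -/
theorem row_Co3 (K : Type*) [Group K] (h : Spor.IsoCo3 K) : Row K := by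
  obtain ⟨e⟩ := h
  have := H763.Co3.Model.fin_G3
  have := SporRec.Co3.Chain.isCo3_G3.1
  refine Row.of_equiv (e.trans SporRec.Co3.Model.equivCo3.symm) (Co3.row Co3.hyp (not_comm_of_card ?_) ?_)
  · rw [SporRec.Co3.Chain.isCo3_G3.2]
    norm_num
  · exact (card_out_congr SporRec.Co3.Model.equivCo3).trans S2071.result

end Cfsg.Agent.SB.SporF
end

private theorem dce_a607f60918f1 : _root_.True := by
  try have : _root_.True := by simp only [_root_.Cfsg.Agent.SB.Spor.Rc.term.eq_1]
  exact _root_.True.intro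
end
end
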